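import Cfsg.Agent.Thompson.PStable
import Cfsg.Agent.PGroups.Basic

/-!
An element acting quadratically on a normal `p`-subgroup, `p` odd, which generates a group of odd
order with each of its conjugates, lies in a normal subgroup all of whose elements have a `p`-power
in the centraliser of this subgroup.  Such a subgroup fixes a nontrivial vector of every nontrivial
normal `p`-subgroup it acts on.
-/

set_option autoImplicit false
set_option linter.style.haveILetI false

namespace Cfsg.Agent.Cores.SE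

open Subgroup
open scoped commutatorElement

variable {G : Type*} [Group G] [Finite G] {p : ℕ} [Fact p.Prime]

omit [Finite G] [Fact p.Prime] in
theorem exists_pow_of_mem_stabPre {B : Subgroup G} [B.Normal] {d : G}
    (hd : d ∈ Thompson.stabPre p B) : ∃ k : ℕ, d ^ p ^ k ∈ centralizer (B : Set G) := by
  obtain ⟨k, hk⟩ := Cores.pCore_isPGroup (p := p) ⟨_, hd⟩
  exact ⟨k, (QuotientGroup.eq_one_iff _).mp (congrArg Subtype.val hk)⟩

/-- quadratic elements generating an odd group with their conjugates. -/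
theorem mem_stabPre_of_odd_pairs (hp : p ≠ 2) (M : Subgroup G) [M.Normal] (hM : IsPGroup p M) {a : G}
    (hq : ⁅⁅M, zpowers a⁆, zpowers a⁆ = ⊥)
    (hodd : ∀ g : G, Odd (Nat.card (closure ({a, g * a * g⁻¹} : Set G)))) :
    a ∈ Thompson.stabPre p M := by
  set π := QuotientGroup.mk' (centralizer (M : Set G)) with hπ
  obtain ⟨N, hN, hNp, haN⟩ : ∃ N : Subgroup (G ⧸ centralizer (M : Set G)),
      N.Normal ∧ IsPGroup p N ∧ π a ∈ N := by
    refine Thompson.baer_suzuki fun y => ?_
    obtain ⟨g, rfl⟩ := QuotientGroup.mk'_surjective _ y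
    set b := g * a * g⁻¹ with hb
    set K : Subgroup G := closure ({a, b} : Set G) with hK
    set T : Subgroup G := M ⊔ K with hT
    have hMT : M ≤ T := le_sup_left
    have haT : a ∈ T := mem_sup_right (subset_closure (Set.mem_insert _ _))
    have hbT : b ∈ T := mem_sup_right (subset_closure (Set.mem_insert_of_mem _ rfl))
    -- `T` is odd
    have hTodd : Odd (Nat.card T) := by
      rw [← Nat.not_even_iff_odd, even_iff_two_dvd]
      intro h
      obtain ⟨t, ht⟩ := exists_prime_orderOf_dvd_card' 2 h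
      rw [← Subgroup.orderOf_coe] at ht
      have hMo : Odd (Nat.card M) := by
        obtain ⟨k, hk⟩ := IsPGroup.iff_card.mp hM
        rw [hk]; exact ((Fact.out : p.Prime).odd_of_ne_two hp).pow
      obtain ⟨m, hm, k, hk, hmk⟩ := mem_sup_of_normal_left.mp t.2
      set σ := QuotientGroup.mk' M with hσ
      have h1 : σ (t : G) = σ k := by
        rw [← hmk, map_mul, show σ m = 1 from (QuotientGroup.eq_one_iff _).mpr hm, one_mul]
      have hd1 : orderOf (σ (t : G)) ∣ 2 := ht ▸ orderOf_map_dvd σ _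
      have hd2 : orderOf (σ (t : G)) ∣ Nat.card K := by
        rw [h1]; exact (orderOf_map_dvd σ _).trans (Subgroup.orderOf_dvd_natCard K hk)
      have htM : (t : G) ∈ M := (QuotientGroup.eq_one_iff _).mp
        (orderOf_eq_one_iff.mp (Nat.eq_one_of_dvd_coprimes (hodd g).coprime_two_left hd1 hd2))
      exact Nat.not_even_iff_odd.mpr hMo
        (even_iff_two_dvd.mpr (ht ▸ Subgroup.orderOf_dvd_natCard M htM))
    have hst : Thompson.StableOnNormal p T :=
      Thompson.stableOnNormal_of_abelian_sylow_two hp default (by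
        have hsub : Subsingleton ((default : Sylow 2 T) : Subgroup T) := by
          rw [← Finite.card_le_one_iff_subsingleton]
          obtain ⟨n, hn⟩ := IsPGroup.iff_card.mp (default : Sylow 2 T).isPGroup'
          rw [hn]
          rcases Nat.eq_zero_or_pos n with rfl | hpos
          · simp
          · exact absurd (hTodd.of_dvd_nat (hn ▸ Subgroup.card_subgroup_dvd_card _))
              (by simp [Nat.odd_pow_iff hpos.ne'])
        exact ⟨⟨fun x y => Subsingleton.elim _ _⟩⟩)
    set M' := M.subgroupOf T with hM'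
    have hqT : ∀ c : G, ∀ hc : c ∈ T, ⁅⁅M, zpowers c⁆, zpowers c⁆ = ⊥ →
        (⟨c, hc⟩ : T) ∈ Thompson.stabPre p M' := by
      intro c hc h
      refine hst M' hM.comap_subtype _ (le_bot_iff.mp ?_)
      have hinj := T.subtype_injective
      rw [← Subgroup.map_le_map_iff_of_injective hinj, Subgroup.map_bot, map_commutator, map_commutator,
        MonoidHom.map_zpowers, ← h]
      exact commutator_mono (commutator_mono (by rw [hM', subgroupOf_map_subtype]; exact inf_le_left)
        le_rfl) le_rfl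
    have hqb : ⁅⁅M, zpowers b⁆, zpowers b⁆ = ⊥ := by
      have h := congrArg (Subgroup.map (MulAut.conj g).toMonoidHom) hq
      rw [map_commutator, map_commutator, MonoidHom.map_zpowers, Subgroup.map_bot,
        Thompson.map_conj_of_mem_normalizer ((normalizer_eq_top (H := M)).ge (mem_top g))] at h
      exact h
    rintro ⟨z, hz⟩
    obtain ⟨w, hw, rfl⟩ : z ∈ K.map π := by
      rw [hK, MonoidHom.map_closure, Set.image_pair, hb, map_mul, map_mul, map_inv]; exact hz
    obtain ⟨w', hw', hww'⟩ : w ∈ (Thompson.stabPre p M').map T.subtype := by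
      refine (closure_le _).mpr ?_ hw
      rintro c (rfl | rfl)
      · exact ⟨⟨c, haT⟩, hqT c haT hq, rfl⟩
      · exact ⟨⟨_, hbT⟩, hqT _ hbT hqb, rfl⟩
    obtain ⟨k, hk⟩ := exists_pow_of_mem_stabPre hw'
    refine ⟨k, Subtype.ext ?_⟩
    change π w ^ p ^ k = 1
    rw [← map_pow]
    refine (QuotientGroup.eq_one_iff _).mpr (mem_centralizer_iff.mpr fun m hm => ?_)
    have h := congrArg Subtype.val (mem_centralizer_iff.mp hk ⟨m, hMT hm⟩ (mem_subgroupOf.mpr hm))
    subst hww'
    simpa using h
  exact Cores.le_pCore (hN := hN) hNp haN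

/-- the same inside a subgroup `X` normalising `M`. -/
theorem exists_quadratic_push (hp : p ≠ 2) {X M A : Subgroup G} (hMX : M ≤ X)
    (hXM : X ≤ normalizer (M : Set G)) (hM : IsPGroup p M) {a : G} (haX : a ∈ X) (haA : a ∈ A)
    (hA : ∀ c ∈ A, Commute c a) (hMA : M ≤ normalizer (A : Set G))
    (hodd : ∀ g ∈ X, Odd (Nat.card (closure ({a, g * a * g⁻¹} : Set G)))) :
    ∃ D : Subgroup G, D ≤ X ∧ X ≤ normalizer (D : Set G) ∧ a ∈ D ∧
      ∀ d ∈ D, ∃ k : ℕ, d ^ p ^ k ∈ centralizer (M : Set G) := by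
  set M' := M.subgroupOf X with hM'
  have : M'.Normal := normal_subgroupOf_of_le_normalizer hXM
  have hq : ⁅⁅M', zpowers (⟨a, haX⟩ : X)⁆, zpowers (⟨a, haX⟩ : X)⁆ = ⊥ := by
    apply le_bot_iff.mp
    rw [← Subgroup.map_le_map_iff_of_injective X.subtype_injective, Subgroup.map_bot, map_commutator,
      map_commutator, MonoidHom.map_zpowers, hM', subgroupOf_map_subtype, inf_eq_left.mpr hMX]
    have h1 : ⁅M, zpowers a⁆ ≤ A := Subgroup.commutator_le.mpr fun m hm c hc => by
      have hcA : c ∈ A := zpowers_le.mpr haA hc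
      rw [commutatorElement_def]
      exact mul_mem ((Subgroup.mem_normalizer_iff.mp (hMA hm) c).mp hcA) (inv_mem hcA)
    exact Subgroup.commutator_le.mpr fun c hc d hd => by
      obtain ⟨n, rfl⟩ := mem_zpowers_iff.mp hd
      exact mem_bot.mpr (commutatorElement_eq_one_iff_mul_comm.mpr ((hA c (h1 hc)).zpow_right n).eq)
  have h := mem_stabPre_of_odd_pairs hp M' hM.comap_subtype hq (fun g => by
    have hmap : (closure ({⟨a, haX⟩, g * ⟨a, haX⟩ * g⁻¹} : Set X)).map X.subtype =
        closure ({a, (g : G) * a * (g : G)⁻¹} : Set G) := by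
      rw [MonoidHom.map_closure, Set.image_pair]; rfl
    rw [← Subgroup.card_map_of_injective X.subtype_injective, hmap]
    exact hodd g g.2)
  refine ⟨(Thompson.stabPre p M').map X.subtype, map_subtype_le _, fun g hg => ?_, ⟨_, h, rfl⟩, ?_⟩
  · refine le_normalizer_map X.subtype ⟨⟨g, hg⟩, ?_, rfl⟩
    rw [normalizer_eq_top]; exact mem_top _
  · rintro _ ⟨d, hd, rfl⟩
    obtain ⟨k, hk⟩ := exists_pow_of_mem_stabPre hd
    refine ⟨k, mem_centralizer_iff.mpr fun m hm => ?_⟩
    have := congrArg Subtype.val (mem_centralizer_iff.mp hk ⟨m, hMX hm⟩ (mem_subgroupOf.mpr hm))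
    simpa using this

/-- a group all whose elements have a `p`-power centralising `M` fixes a nontrivial element of `M`. -/
theorem exists_vector_fixed {M D : Subgroup G} (hDM : D ≤ normalizer (M : Set G)) (hM : IsPGroup p M)
    (hne : M ≠ ⊥) (hD : ∀ d ∈ D, ∃ k : ℕ, d ^ p ^ k ∈ centralizer (M : Set G)) :
    ∃ v ∈ M, v ≠ 1 ∧ ∀ d ∈ D, Commute v d := by
  obtain ⟨Q⟩ : Nonempty (Sylow p D) := inferInstance
  set Q₀ : Subgroup G := (Q : Subgroup D).map D.subtype with hQ₀
  have hQM : Q₀ ≤ normalizer (M : Set G) := (map_subtype_le _).trans hDM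
  set T : Subgroup G := M ⊔ Q₀ with hT
  have hTp : IsPGroup p T := hM.to_sup_of_normal_left' (Q.isPGroup'.map _) hQM
  have : (M.subgroupOf T).Normal :=
    normal_subgroupOf_of_le_normalizer (sup_le Subgroup.le_normalizer hQM)
  have hne' : M.subgroupOf T ≠ ⊥ := fun h => hne (le_bot_iff.mp fun x hx => by
    have hx' : (⟨x, mem_sup_left hx⟩ : T) ∈ M.subgroupOf T := hx
    rw [h, mem_bot] at hx'
    exact mem_bot.mpr (congrArg Subtype.val hx'))
  obtain ⟨v, ⟨hvM, hvZ⟩, hv1⟩ :=
    (Subgroup.bot_or_exists_ne_one _).resolve_left (PGroups.inf_center_ne_bot hTp (M.subgroupOf T) hne')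
  refine ⟨v, hvM, fun h => hv1 (Subtype.ext h), ?_⟩
  set S : Subgroup D := (centralizer {(v : G)}).subgroupOf D with hS
  have hQS : (Q : Subgroup D) ≤ S := fun q hq => by
    rw [hS, mem_subgroupOf, mem_centralizer_singleton_iff]
    exact congrArg Subtype.val (mem_center_iff.mp hvZ ⟨q, mem_sup_right ⟨q, hq, rfl⟩⟩)
  set C : Subgroup D := (centralizer (M : Set G)).subgroupOf D with hC
  have hCn : C.Normal := ⟨fun c hc d => by
    rw [hC, mem_subgroupOf, mem_centralizer_iff] at hc ⊢
    intro m hm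
    have hm' : (d : G)⁻¹ * m * d ∈ M := by
      simpa using (Subgroup.mem_normalizer_iff.mp (inv_mem (hDM d.2)) m).mp hm
    have h := hc _ hm'
    calc m * ((d * c * d⁻¹ : D) : G) = d * (((d : G)⁻¹ * m * d) * c) * (d : G)⁻¹ := by
          simp [mul_assoc]
      _ = d * ((c : G) * ((d : G)⁻¹ * m * d)) * (d : G)⁻¹ := by rw [h]
      _ = ((d * c * d⁻¹ : D) : G) * m := by simp [mul_assoc]⟩
  have hCS : C ≤ S := fun c hc => by
    rw [hS, mem_subgroupOf, mem_centralizer_singleton_iff]
    exact (mem_centralizer_iff.mp hc v hvM).symm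
  have hq : IsPGroup p (D ⧸ C) := by
    intro x
    obtain ⟨d, rfl⟩ := QuotientGroup.mk'_surjective C x
    obtain ⟨k, hk⟩ := hD d d.2
    exact ⟨k, by rw [← map_pow]; exact (QuotientGroup.eq_one_iff _).mpr (by simpa [hC, mem_subgroupOf] using hk)⟩
  have htop : ((Q : Subgroup D).map (QuotientGroup.mk' C)) = ⊤ := by
    rw [← Sylow.coe_mapSurjective (QuotientGroup.mk'_surjective C) Q]
    exact ((Q.mapSurjective (QuotientGroup.mk'_surjective C)).is_maximal'
      (hq.to_subgroup ⊤) le_top).symm
  intro d hd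
  have hmem : (⟨d, hd⟩ : D) ∈ (Q : Subgroup D) ⊔ C := by
    have h : (⟨d, hd⟩ : D) ∈ ((Q : Subgroup D).map (QuotientGroup.mk' C)).comap (QuotientGroup.mk' C) := by
      rw [htop]; trivial
    rwa [comap_map_eq, QuotientGroup.ker_mk'] at h
  exact (mem_centralizer_singleton_iff.mp (sup_le hQS hCS hmem)).symm

end Cfsg.Agent.Cores.SE
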