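import Cfsg.Agent.Cores.SE.CoreSemiregular
import Cfsg.Agent.Frobenius.Nilpotent
import Cfsg.Agent.H41.Nilpotent

/-!
An element `x` of prime order fixing exactly two points in a faithful good action whose point
stabiliser has an abelian odd normal subgroup `R ≠ 1`: the centraliser of `R` is nilpotent, contains
every `2`-subgroup normalised by `x`, and the largest `2`-subgroup centralising the involutions at
the point is normal and centralises every odd normal subgroup (notes/helper30_bender_g2prime.md B).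
-/

set_option autoImplicit false
set_option linter.style.haveILetI false

namespace Cfsg.Agent.Cores.SE

open Subgroup MulAction
open Cfsg.Agent.H39
open Cfsg.Agent.H73.Bender
open scoped commutatorElement

universe u v

variable {G : Type u} [Group G] {Ω : Type v} [MulAction G Ω] {S : Subgroup G} {C : Set Ω}

/-- An element fixing `c` and commuting with an element whose fixed points are `c`, `z` fixes `z`. -/
theorem fix_of_commute_exact (hS : SE S C) {c z : Ω} (hz : z ∈ C) (hcz : c ≠ z) {x g : G}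
    (hxz : x • z = z) (honly : ∀ y ∈ C, x • y = y → y = c ∨ y = z) (hgS : g ∈ S) (hgc : g • c = c)
    (hgx : Commute g x) : g • z = z :=
  (honly _ (hS.smul_mem hgS hz) (by rw [← mul_smul, ← hgx.eq, mul_smul, hxz])).resolve_left
    fun h => hcz (MulAction.injective g (h.trans hgc.symm)).symm

/-- The point stabiliser meets the centraliser of the involutions at the point normally. -/
theorem ptStab_le_normalizer_centInv (c : Ω) :
    ptStab S c ≤ normalizer ((ptStab S c ⊓ centralizer (invGen S c : Set G) : Subgroup G) : Set G) := by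
  have hc : ∀ g ∈ ptStab S c, ∀ n ∈ ptStab S c ⊓ centralizer (invGen S c : Set G),
      g * n * g⁻¹ ∈ ptStab S c ⊓ centralizer (invGen S c : Set G) := by
    intro g hg n hn
    obtain ⟨hn1, hn2⟩ := hn
    refine ⟨(ptStab S c).mul_mem ((ptStab S c).mul_mem hg hn1) ((ptStab S c).inv_mem hg),
      mem_centralizer_iff.mpr fun r hr => ?_⟩
    have h := mem_centralizer_iff.mp hn2 _
      ((Subgroup.mem_normalizer_iff''.mp (ptStab_le_normalizer_invGen c hg) r).mp hr)
    calc r * (g * n * g⁻¹) = g * (g⁻¹ * r * g * n) * g⁻¹ := by group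
      _ = g * (n * (g⁻¹ * r * g)) * g⁻¹ := by rw [h]
      _ = g * n * g⁻¹ * r := by group
  exact fun g hg => Subgroup.mem_normalizer_iff.mpr fun n => ⟨hc g hg n, fun h => by
    have h' := hc g⁻¹ (inv_mem hg) _ h
    simpa [mul_assoc] using h'⟩

variable [Finite G]

/-- A normalised subgroup on which `x` has no fixed point but `1` is nilpotent. -/
theorem isNilpotent_of_fpf {K : Subgroup G} {p : ℕ} (hp : p.Prime) {x : G} (hx : orderOf x = p)
    (hxK : x ∈ normalizer (K : Set G)) (hfix : ∀ k ∈ K, Commute x k → k = 1) :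
    Group.IsNilpotent K := by
  have hKN : K ≤ normalizer (K : Set G) := Subgroup.le_normalizer
  haveI : (K.subgroupOf (normalizer (K : Set G))).Normal := Subgroup.normal_in_normalizer
  haveI := Frobenius.isNilpotent_of_centralizer (K := K.subgroupOf (normalizer (K : Set G))) hp
    (h := (⟨x, hxK⟩ : normalizer (K : Set G)))
    (Subtype.ext (show x ^ p = 1 by rw [← hx, pow_orderOf_eq_one]))
    (fun k hk hcom => Subtype.ext (hfix k hk (congrArg Subtype.val hcom)))
  exact Group.isNilpotent_congr (Subgroup.subgroupOfEquivOfLe hKN) |>.mp inferInstance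

variable [Finite Ω]

/-- The centraliser of `R` in the point stabiliser is nilpotent. -/
theorem isNilpotent_centStab (hS : SE S C) (h2 : RankTwo S) (hF : Faithful S C) (hG : Good S C)
    (hIH : CoreBelow S Ω) {c z : Ω} (hc : c ∈ C) (hz : z ∈ C) (hcz : c ≠ z) {R : Subgroup G}
    (hR : R ≤ ptStab S c) (hRodd : Odd (Nat.card R)) (hRn : ptStab S c ≤ normalizer (R : Set G))
    (hR1 : R ≠ ⊥) {p : ℕ} (hp : p.Prime) {x : G} (hx : orderOf x = p) (hxH : x ∈ ptStab S c)
    (hxz : x • z = z) (honly : ∀ y ∈ C, x • y = y → y = c ∨ y = z) :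
    Group.IsNilpotent (centStab S c R) :=
  isNilpotent_of_fpf hp hx (ptStab_le_normalizer_centStab hRn hxH) fun k hk hxk =>
    semiregular_centStab hS h2 hF hG hIH hc hR hRodd hRn hR1 hk hz (Ne.symm hcz)
      (fix_of_commute_exact hS hz hcz hxz honly (mem_centStab.mp hk).1.1 (mem_centStab.mp hk).1.2
        hxk.symm)

/-- A `2`-subgroup of the point stabiliser normalised by `x` centralises `R`. -/
theorem le_centStab_of_twoGroup (hS : SE S C) (h2 : RankTwo S) (hF : Faithful S C) (hG : Good S C)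
    (hIH : CoreBelow S Ω) {c z : Ω} (hc : c ∈ C) (hz : z ∈ C) (hcz : c ≠ z) {R : Subgroup G}
    (hR : R ≤ ptStab S c) (hRodd : Odd (Nat.card R)) (hRn : ptStab S c ≤ normalizer (R : Set G))
    (hR1 : R ≠ ⊥) (hRab : IsMulCommutative R) {p : ℕ} (hp : p.Prime) {x : G} (hx : orderOf x = p)
    (hxH : x ∈ ptStab S c) (hxz : x • z = z) (honly : ∀ y ∈ C, x • y = y → y = c ∨ y = z)
    {T : Subgroup G} (hT : T ≤ ptStab S c) (hT2 : IsPGroup 2 T) (hxT : x ∈ normalizer (T : Set G)) :
    T ≤ centStab S c R := by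
  have hTR : T ≤ normalizer (R : Set G) := hT.trans hRn
  set M := R ⊔ T with hM
  have hxM : x ∈ normalizer (M : Set G) := Coprime.mem_normalizer_of_map_conj (by
    rw [hM, Subgroup.map_sup,
      show R.map (MulAut.conj x).toMonoidHom = R from mem_normalizer_iff_map_conj_eq.mp (hRn hxH),
      show T.map (MulAut.conj x).toMonoidHom = T from mem_normalizer_iff_map_conj_eq.mp hxT])
  have hfix : ∀ k ∈ M, Commute x k → k = 1 := by
    intro k hk hxk
    obtain ⟨hkS, hkc⟩ := mem_ptStab.mp (sup_le hR hT hk)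
    have hkz := fix_of_commute_exact hS hz hcz hxz honly hkS hkc hxk.symm
    have hkodd : Odd (orderOf k) := by
      rw [← Subgroup.orderOf_mk k (mem_pair.mpr ⟨hkS, hkc, hkz⟩)]
      exact (hS.odd_pair hc hz hcz).of_dvd_nat (orderOf_dvd_natCard _)
    obtain ⟨r, hr, s, hs, rfl⟩ : ∃ r ∈ R, ∃ s ∈ T, r * s = k := by
      have h' : k ∈ ((M : Subgroup G) : Set G) := hk
      rw [hM, Subgroup.coe_mul_of_right_le_normalizer_left R T hTR] at h'
      obtain ⟨r, hr, s, hs, h⟩ := Set.mem_mul.mp h'
      exact ⟨r, hr, s, hs, h⟩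
    -- modulo `R` the element has `2`-power order
    obtain ⟨n, hn⟩ := IsPGroup.iff_orderOf.mp hT2 ⟨s, hs⟩
    rw [Subgroup.orderOf_mk] at hn
    have hpow : (r * s) ^ (2 ^ n) ∈ R := by
      haveI : (R.subgroupOf M).Normal :=
        normal_subgroupOf_of_le_normalizer (sup_le Subgroup.le_normalizer hTR)
      suffices h : (⟨r * s, hk⟩ : M) ^ (2 ^ n) ∈ R.subgroupOf M from mem_subgroupOf.mp h
      rw [← QuotientGroup.eq_one_iff, QuotientGroup.mk_pow,
        show (⟨r * s, hk⟩ : M) = ⟨r, (le_sup_left : R ≤ M) hr⟩ * ⟨s, (le_sup_right : T ≤ M) hs⟩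
          from rfl, QuotientGroup.mk_mul,
        (QuotientGroup.eq_one_iff _).mpr
          (show (⟨r, (le_sup_left : R ≤ M) hr⟩ : M) ∈ R.subgroupOf M from hr), one_mul,
        ← QuotientGroup.mk_pow, QuotientGroup.eq_one_iff, mem_subgroupOf, Subgroup.coe_pow, ← hn,
        pow_orderOf_eq_one]
      exact one_mem R
    obtain ⟨e, he⟩ : ∃ e : ℕ, ((r * s) ^ (2 ^ n)) ^ e = r * s :=
      exists_pow_eq_self_of_coprime (hkodd.coprime_two_left.pow_left n)
    have hkR : r * s ∈ R := he ▸ pow_mem hpow e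
    exact semiregular_centStab hS h2 hF hG hIH hc hR hRodd hRn hR1
      (mem_centStab.mpr ⟨⟨hkS, hkc⟩, fun r' hr' =>
        congrArg Subtype.val (hRab.is_comm.comm ⟨r', hr'⟩ ⟨r * s, hkR⟩)⟩)
      hz (Ne.symm hcz) hkz
  have hnil := isNilpotent_of_fpf hp hx hxM hfix
  intro s hs
  refine ⟨hT hs, mem_centralizer_iff.mpr fun r hr => ?_⟩
  obtain ⟨n, hn⟩ := IsPGroup.iff_orderOf.mp hT2 ⟨s, hs⟩
  rw [Subgroup.orderOf_mk] at hn
  refine congrArg Subtype.val (H41.commute_of_coprime_orderOf hnil
    (x := (⟨r, (le_sup_left : R ≤ M) hr⟩ : M)) (y := (⟨s, (le_sup_right : T ≤ M) hs⟩ : M)) ?_).eq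
  rw [Subgroup.orderOf_mk, Subgroup.orderOf_mk, hn]
  have hro : Odd (orderOf r) := by
    rw [← Subgroup.orderOf_mk r hr]; exact hRodd.of_dvd_nat (orderOf_dvd_natCard _)
  exact (hro.coprime_two_left.pow_left n).symm

/-- For `p` prime to the centraliser of the involutions at the point, the largest `2`-subgroup of
that centraliser is normal in the point stabiliser, centralises `R`, and every odd normal subgroup. -/
theorem exists_normal_twoSylow (hS : SE S C) (h2 : RankTwo S) (hF : Faithful S C) (hG : Good S C)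
    (hIH : CoreBelow S Ω) {c z : Ω} (hc : c ∈ C) (hz : z ∈ C) (hcz : c ≠ z) {R : Subgroup G}
    (hR : R ≤ ptStab S c) (hRodd : Odd (Nat.card R)) (hRn : ptStab S c ≤ normalizer (R : Set G))
    (hR1 : R ≠ ⊥) (hRab : IsMulCommutative R) {p : ℕ} (hp : p.Prime) {x : G} (hx : orderOf x = p)
    (hxH : x ∈ ptStab S c) (hxz : x • z = z) (honly : ∀ y ∈ C, x • y = y → y = c ∨ y = z)
    (hpK : ¬ p ∣ Nat.card (ptStab S c ⊓ centralizer (invGen S c : Set G) : Subgroup G)) :
    ∃ T : Subgroup G, H29.Bender.IsSyl 2 (ptStab S c ⊓ centralizer (invGen S c : Set G)) T ∧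
      T ≤ centStab S c R ∧ ptStab S c ≤ normalizer (T : Set G) ∧
      (∀ W : Subgroup G, W ≤ ptStab S c → Odd (Nat.card W) → ptStab S c ≤ normalizer (W : Set G) →
        ∀ w ∈ W, ∀ s ∈ T, Commute w s) := by
  haveI : Fact (Nat.Prime 2) := ⟨Nat.prime_two⟩
  set K := ptStab S c ⊓ centralizer (invGen S c : Set G) with hK
  have hcop : Nat.Coprime (Nat.card (zpowers x)) (Nat.card K) := by
    rw [Nat.card_zpowers, hx]; exact (Nat.Prime.coprime_iff_not_dvd hp).mpr hpK
  obtain ⟨P, hP⟩ := Coprime.exists_invariant_sylow (A := zpowers x) (K := K)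
    (zpowers_le.mpr (ptStab_le_normalizer_centInv c hxH)) hcop (Or.inl inferInstance) 2
  set T : Subgroup G := (P : Subgroup K).map K.subtype with hTdef
  have hTsyl : H29.Bender.IsSyl 2 K T := H29.Bender.sylow_map P
  have hTC : T ≤ centStab S c R := le_centStab_of_twoGroup hS h2 hF hG hIH hc hz hcz hR hRodd hRn hR1
    hRab hp hx hxH hxz honly (hTsyl.le.trans inf_le_left) hTsyl.pgroup (hP (mem_zpowers x))
  have hCK : centStab S c R ≤ K := fun g hg => ⟨hg.1, mem_centralizer_iff.mpr fun e he => by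
    have hle : invGen S c ≤ centralizer ({g} : Set G) :=
      (Subgroup.closure_le _).mpr fun t ht => mem_centralizer_singleton_iff.mpr
        (commute_of_mem_centStab hS h2 hF hG hc hR hRn hR1 ht.1 ht.2.1 ht.2.2 hg).symm.eq
    exact mem_centralizer_singleton_iff.mp (hle he)⟩
  have hnil := isNilpotent_centStab hS h2 hF hG hIH hc hz hcz hR hRodd hRn hR1 hp hx hxH hxz honly
  have hodd : ∀ k : G, k ∈ centStab S c R → Odd (orderOf k) → ∀ s ∈ T, Commute k s := by
    intro k hk hko s hs
    obtain ⟨n, hn⟩ := IsPGroup.iff_orderOf.mp hTsyl.pgroup ⟨s, hs⟩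
    rw [Subgroup.orderOf_mk] at hn
    exact congrArg Subtype.val (H41.commute_of_coprime_orderOf hnil
      (x := (⟨k, hk⟩ : centStab S c R)) (y := (⟨s, hTC hs⟩ : centStab S c R))
      (by rw [Subgroup.orderOf_mk, Subgroup.orderOf_mk, hn]
          exact (hko.coprime_two_left.pow_left n).symm)).eq
  -- `T` is the only largest `2`-subgroup of the nilpotent centraliser
  have hTn : ptStab S c ≤ normalizer (T : Set G) := by
    intro g hg
    refine Coprime.mem_normalizer_of_map_conj ?_
    have hle : T.map (MulAut.conj g).toMonoidHom ≤ centStab S c R :=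
      H29.Bender.map_conj_le hTC (ptStab_le_normalizer_centStab hRn hg)
    have hle2 : T ⊔ T.map (MulAut.conj g).toMonoidHom ≤ centStab S c R := sup_le hTC hle
    haveI := hnil
    obtain ⟨Q, hQ⟩ := (hTsyl.pgroup.comap_subtype (K := centStab S c R)).exists_le_sylow
    obtain ⟨Q', hQ'⟩ := ((hTsyl.pgroup.map (MulAut.conj g).toMonoidHom).comap_subtype
      (K := centStab S c R)).exists_le_sylow
    have hQn : (Q : Subgroup (centStab S c R)).Normal :=
      ((Group.isNilpotent_of_finite_tfae (G := centStab S c R)).out 0 3 rfl rfl).1 hnil 2 inferInstance Q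
    haveI := Sylow.unique_of_normal Q hQn
    have hQQ : Q' = Q := Subsingleton.elim _ _
    have hsup : T ⊔ T.map (MulAut.conj g).toMonoidHom ≤
        (Q : Subgroup (centStab S c R)).map (centStab S c R).subtype := by
      refine sup_le (fun s hs => ⟨⟨s, hTC hs⟩, hQ hs, rfl⟩) (fun s hs => ?_)
      exact ⟨⟨s, hle hs⟩, hQQ ▸ hQ' hs, rfl⟩
    have he := hTsyl.eq_of_ge le_sup_left (hle2.trans hCK) ((Q.2.map _).to_le hsup)
    exact Subgroup.eq_of_le_of_card_ge (le_sup_right.trans he.le)
      (le_of_eq (card_map_of_injective (MulAut.conj g).injective).symm)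
  refine ⟨T, hTsyl, hTC, hTn, fun W hW hWodd hWn w hw s hs => ?_⟩
  -- the commutator lies in `W ⊓ T`
  have h1 : ⁅w, s⁆ ∈ W := by
    rw [commutatorElement_def, mul_assoc, mul_assoc]
    have h := (Subgroup.mem_normalizer_iff.mp (hWn (hTsyl.le.trans inf_le_left hs)) _).mp (inv_mem hw)
    rw [mul_assoc] at h
    exact mul_mem hw h
  have h2' : ⁅w, s⁆ ∈ T := by
    rw [commutatorElement_def]
    exact mul_mem ((Subgroup.mem_normalizer_iff.mp (hTn (hW hw)) s).mp hs) (inv_mem hs)
  obtain ⟨n, hn⟩ := IsPGroup.iff_orderOf.mp hTsyl.pgroup ⟨_, h2'⟩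
  rw [Subgroup.orderOf_mk] at hn
  have ho : Odd (orderOf ⁅w, s⁆) := by
    rw [← Subgroup.orderOf_mk _ h1]; exact hWodd.of_dvd_nat (orderOf_dvd_natCard _)
  have h' : orderOf ⁅w, s⁆ = 1 :=
    Nat.eq_one_of_dvd_coprimes (ho.coprime_two_left.pow_left n) (hn ▸ dvd_rfl) dvd_rfl
  exact commutatorElement_eq_one_iff_commute.mp (orderOf_eq_one_iff.mp h')

end Cfsg.Agent.Cores.SE
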