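import Cfsg.Agent.Cores.SE.CoreCommute

/-!
A faithful good rank-two action whose point stabiliser has a non-trivial odd normal subgroup `R`:
the centraliser of `R` in the point stabiliser fixes no second point, given the statement for smaller
groups, and centralises the involutions at the point, which form an elementary group
(notes/bender3_S1221.md S2-S4).
-/

set_option autoImplicit false
set_option linter.style.haveILetI false

namespace Cfsg.Agent.Cores.SE

open Subgroup MulAction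
open Cfsg.Agent.H39
open Cfsg.Agent.H73.Bender
open scoped commutatorElement

universe u v

variable {G : Type u} [Group G] {Ω : Type v} [MulAction G Ω] {S : Subgroup G} {C : Set Ω}

/-- The odd core of a point stabiliser fixes every point, in relative form. -/
def CoreAt (S : Subgroup G) (C : Set Ω) : Prop :=
  SE S C → RankTwo S → Good S C → ∀ c ∈ C, ∀ W : Subgroup G, W ≤ ptStab S c →
    Odd (Nat.card W) → ptStab S c ≤ normalizer (W : Set G) → W ≤ kernel S C

/-- The inductive hypothesis. -/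
def CoreBelow (S : Subgroup G) (Ω : Type v) [MulAction G Ω] : Prop :=
  ∀ (T : Subgroup G) (C' : Set Ω), T ≤ S → Nat.card T < Nat.card S → CoreAt T C'

/-- The centraliser of `R` in the point stabiliser. -/
def centStab (S : Subgroup G) (c : Ω) (R : Subgroup G) : Subgroup G :=
  ptStab S c ⊓ centralizer (R : Set G)

theorem mem_centStab {c : Ω} {R : Subgroup G} {g : G} :
    g ∈ centStab S c R ↔ (g ∈ S ∧ g • c = c) ∧ ∀ r ∈ R, Commute r g :=
  Iff.rfl

theorem ptStab_le_normalizer_centStab {c : Ω} {R : Subgroup G}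
    (hR : ptStab S c ≤ normalizer (R : Set G)) :
    ptStab S c ≤ normalizer (centStab S c R : Set G) := fun g hg => by
  have hc : ∀ g ∈ ptStab S c, ∀ n ∈ centStab S c R, g * n * g⁻¹ ∈ centStab S c R := by
    intro g hg n hn
    obtain ⟨hn1, hn2⟩ := hn
    refine ⟨(ptStab S c).mul_mem ((ptStab S c).mul_mem hg hn1) ((ptStab S c).inv_mem hg), mem_centralizer_iff.mpr fun r hr => ?_⟩
    have h := mem_centralizer_iff.mp hn2 _ ((Subgroup.mem_normalizer_iff''.mp (hR hg) r).mp hr)
    calc r * (g * n * g⁻¹) = g * (g⁻¹ * r * g * n) * g⁻¹ := by group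
      _ = g * (n * (g⁻¹ * r * g)) * g⁻¹ := by rw [h]
      _ = g * n * g⁻¹ * r := by group
  exact Subgroup.mem_normalizer_iff.mpr fun n => ⟨hc g hg n, fun h => by
    have h' := hc g⁻¹ (inv_mem hg) _ h
    simpa [mul_assoc] using h'⟩

theorem invBar_eq_card (hF : Faithful S C) (c : Ω) :
    invBar S C c = Nat.card {t : G // t ∈ S ∧ orderOf t = 2 ∧ t • c = c} := by
  have hK : kernel S C = ⊥ := hF
  rw [invBar]
  refine Nat.card_image_of_injective (f := fun t : G => (t : G ⧸ kernel S C)) ?_ _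
  intro a b h
  have h' := QuotientGroup.eq.mp h
  rw [hK, mem_bot, inv_mul_eq_one] at h'
  exact h'

variable [Finite G] [Finite Ω]

/-- The elements of the point stabiliser centralising `R` centralise the involutions at the point. -/
theorem commute_of_mem_centStab (hS : SE S C) (h2 : RankTwo S) (hF : Faithful S C) (hG : Good S C)
    {c : Ω} (hc : c ∈ C) {R : Subgroup G} (hR : R ≤ ptStab S c)
    (hRn : ptStab S c ≤ normalizer (R : Set G)) (hR1 : R ≠ ⊥) {t : G} (ht : t ∈ S)
    (ht2 : orderOf t = 2) (htc : t • c = c) {n : G} (hn : n ∈ centStab S c R) : Commute n t := by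
  have h := relIndex_eq_one.mp (relIndex_centralizer_eq_one hS h2 hF hG hc hR hR1
    (inf_le_left : centStab S c R ≤ ptStab S c) (ptStab_le_normalizer_centStab hRn)
    (fun w hw n hn => (mem_centStab.mp hn).2 w hw) ht ht2 htc)
  exact mem_centralizer_singleton_iff.mp (h hn)

/-- S2, S3: the centraliser of `R` in the point stabiliser fixes no other point. -/
theorem semiregular_centStab (hS : SE S C) (h2 : RankTwo S) (hF : Faithful S C) (hG : Good S C)
    (hIH : CoreBelow S Ω) {c : Ω} (hc : c ∈ C) {R : Subgroup G} (hR : R ≤ ptStab S c)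
    (hRodd : Odd (Nat.card R)) (hRn : ptStab S c ≤ normalizer (R : Set G)) (hR1 : R ≠ ⊥)
    {g : G} (hg : g ∈ centStab S c R) {x : Ω} (hx : x ∈ C) (hxc : x ≠ c) (hgx : g • x = x) :
    g = 1 := by
  by_contra hg1
  obtain ⟨q, hq, hqd⟩ := Nat.exists_prime_and_dvd (mt orderOf_eq_one_iff.mp hg1)
  haveI : Fact q.Prime := ⟨hq⟩
  obtain ⟨⟨h, hh⟩, hhq⟩ :=
    exists_prime_orderOf_dvd_card' (G := zpowers g) q (by rwa [Nat.card_zpowers])
  rw [Subgroup.orderOf_mk] at hhq
  have hhc : h ∈ centStab S c R := zpowers_le.mpr hg hh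
  obtain ⟨⟨hhS, hhcc⟩, hhR⟩ := mem_centStab.mp hhc
  have hhx : h • x = x :=
    (zpowers_le.mpr (mem_stabilizer_iff.mpr hgx) : zpowers g ≤ stabilizer G x) hh
  have hh1 : h ≠ 1 := fun h1 => hq.ne_one (by rw [← hhq, h1, orderOf_one])
  obtain ⟨t, ht, ht2, htc⟩ := hS.exists_inv_at hc
  have hht : Commute h t := commute_of_mem_centStab hS h2 hF hG hc hR hRn hR1 ht ht2 htc hhc
  -- a second point whose involution centralises `h`
  obtain ⟨f, hf, hfc, i, hi, hi2, hif, hih⟩ :
      ∃ f ∈ C, f ≠ c ∧ ∃ i ∈ S, orderOf i = 2 ∧ i • f = f ∧ Commute i h := by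
    have hPq : IsPGroup q (zpowers h) := IsPGroup.of_card (n := 1) (by
      rw [Nat.card_zpowers, hhq, pow_one])
    by_cases hdvd : q ∣ invBar S C c
    · have hfix : ∀ {z : Ω}, h • z = z → ∀ p ∈ zpowers h, p • z = z := fun {z} hz p hp =>
        mem_stabilizer_iff.mp ((zpowers_le.mpr (mem_stabilizer_iff.mpr hz)) hp)
      obtain ⟨i, hi, hi2, f, hf, hfc, hif, -, hih⟩ := exists_inv_centralizing hS hF hG hc hdvd
        (zpowers_le.mpr hhS) hPq hc hx (hS.smul_mem ht hx) (Ne.symm hxc)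
        (fun e => hxc (MulAction.injective t (e.trans htc.symm)))
        (fun e => hxc (hS.fix_unique ht ht2 hx hc e htc))
        (hfix hhcc) (hfix hhx) (hfix (by rw [← mul_smul, hht.eq, mul_smul, hhx])) c
      exact ⟨f, hf, hfc, i, hi, hi2, hif, hih h (mem_zpowers h)⟩
    · let J := {i : G // i ∈ S ∧ orderOf i = 2 ∧ i • x = x}
      have hact : ∀ p : zpowers h, ∀ i : J,
          (p : G) * i * (p : G)⁻¹ ∈ S ∧ orderOf ((p : G) * i * (p : G)⁻¹) = 2 ∧
            ((p : G) * i * (p : G)⁻¹) • x = x := by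
        rintro ⟨p, hp⟩ ⟨i, hi, hi2, hix⟩
        have hpx : p • x = x :=
          (zpowers_le.mpr (mem_stabilizer_iff.mpr hhx) : zpowers h ≤ stabilizer G x) hp
        refine ⟨conj_mem_of_mem (zpowers_le.mpr hhS hp) hi, by rw [orderOf_conj, hi2], ?_⟩
        have h' := conj_smul_of_smul (g := p) hix
        rwa [hpx] at h'
      letI : MulAction (zpowers h) J :=
        { smul := fun p i => ⟨(p : G) * i * (p : G)⁻¹, hact p i⟩
          one_smul := fun i => Subtype.ext
            (show ((1 : zpowers h) : G) * i * ((1 : zpowers h) : G)⁻¹ = i by simp)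
          mul_smul := fun p p' i => Subtype.ext
            (show ((p * p' : zpowers h) : G) * i * ((p * p' : zpowers h) : G)⁻¹ =
              p * (p' * i * (p' : G)⁻¹) * (p : G)⁻¹ by simp [mul_assoc]) }
      obtain ⟨⟨i, hi, hi2, hix⟩, hfx⟩ := hPq.nonempty_fixed_point_of_prime_not_dvd_card J (by
        rwa [hS.card_inv_at_eq hx hc, ← invBar_eq_card hF])
      have he : h * i * h⁻¹ = i := congrArg Subtype.val (hfx ⟨h, mem_zpowers h⟩)
      exact ⟨x, hx, hxc, i, hi, hi2, hix, (show Commute h i from mul_inv_eq_iff_eq_mul.mp he).symm⟩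
  -- the line of the centraliser of `h`
  set T : Subgroup G := S ⊓ centralizer {h} with hT
  have hTS : T ≤ S := inf_le_left
  have hmemT : ∀ k : G, k ∈ S → Commute k h → k ∈ T := fun k hk hkh =>
    ⟨hk, mem_centralizer_singleton_iff.mpr hkh.eq⟩
  have hcard : Nat.card T < Nat.card S := by
    by_contra hle
    have hTeq : T = S := Subgroup.eq_of_le_of_card_ge hTS (not_lt.mp hle)
    refine hh1 ((mem_bot (G := G)).mp ?_)
    rw [← (hF : kernel S C = ⊥)]
    refine mem_kernel.mpr ⟨hhS, fun z hz => ?_⟩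
    obtain ⟨k, hk, rfl⟩ := hS.trans hc hz
    have hkh : k * h = h * k := mem_centralizer_singleton_iff.mp (hTeq.symm ▸ hk : k ∈ T).2
    rw [← mul_smul, ← hkh, mul_smul, hhcc]
  have htT := hmemT t ht hht.symm
  have hcL : c ∈ points T C := ⟨hc, t, htT, ht2, htc⟩
  have hfL : f ∈ points T C := ⟨hf, i, hmemT i hi hih, hi2, hif⟩
  have hline := hS.line hTS hcL hfL (Ne.symm hfc)
  have hT2 : RankTwo T := by
    obtain ⟨v, hv, hv2, htv, hcomm⟩ := hS.exists_commute_inv h2 ht ht2
    have hvc : v • c = c := hS.fix_of_commute hv ht ht2 hcomm.symm hc htc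
    exact ⟨t, htT, v, hmemT v hv
      (commute_of_mem_centStab hS h2 hF hG hc hR hRn hR1 hv hv2 hvc hhc).symm, ht2, hv2, htv, hcomm⟩
  have hRT : R ≤ ptStab T c := fun r hr =>
    mem_ptStab.mpr ⟨hmemT r (mem_ptStab.mp (hR hr)).1 (hhR r hr), (mem_ptStab.mp (hR hr)).2⟩
  have hker := hIH T (points T C) hTS hcard hline hT2 (hG.subline hTS (points_subset T C)) c hcL R hRT
    hRodd fun k hk => hRn (mem_ptStab.mpr ⟨hTS (mem_ptStab.mp hk).1, (mem_ptStab.mp hk).2⟩)
  -- so `R` fixes every point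
  refine hR1 (eq_bot_iff.mpr fun r hr => ?_)
  rw [← (hF : kernel S C = ⊥)]
  refine mem_kernel.mpr ⟨(mem_ptStab.mp (hR hr)).1, fun y hy => ?_⟩
  by_cases hyc : y = c
  · rw [hyc]; exact (mem_ptStab.mp (hR hr)).2
  obtain ⟨k, hk, hkc, rfl⟩ := good_twoTrans hS h2 hG c hc f hf y hy hfc hyc
  have hr' := (Subgroup.mem_normalizer_iff''.mp (hRn (mem_ptStab.mpr ⟨hk, hkc⟩)) r).mp hr
  have h' := (mem_kernel.mp (hker hr')).2 f hfL
  rwa [mul_smul, mul_smul, inv_smul_eq_iff] at h'

/-- S4: no prime dividing the number of involutions at a point divides the centraliser of `R`. -/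
theorem not_dvd_card_centStab (hS : SE S C) (h2 : RankTwo S) (hF : Faithful S C) (hG : Good S C)
    (hIH : CoreBelow S Ω) {c : Ω} (hc : c ∈ C) {R : Subgroup G} (hR : R ≤ ptStab S c)
    (hRodd : Odd (Nat.card R)) (hRn : ptStab S c ≤ normalizer (R : Set G)) (hR1 : R ≠ ⊥) {q : ℕ}
    [Fact q.Prime] (hdvd : q ∣ invBar S C c) : ¬ q ∣ Nat.card (centStab S c R) := by
  intro hq
  obtain ⟨x, hx, hxc⟩ : ∃ x ∈ C, x ≠ c := by
    obtain ⟨a, ha, b, hb, hab⟩ := hS.exists_ne
    by_cases h : a = c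
    · exact ⟨b, hb, fun h' => hab (h.trans h'.symm)⟩
    · exact ⟨a, ha, h⟩
  obtain ⟨P, -, hP⟩ := H29.Bender.exists_isSyl_ge (D := pair S c x) (P := ⊥) bot_le
    (IsPGroup.of_bot (p := q))
  have hPc : P ≤ ptStab S c := fun r hr =>
    mem_ptStab.mpr ⟨(mem_pair.mp (hP.le hr)).1, (mem_pair.mp (hP.le hr)).2.1⟩
  have hPsyl : H29.Bender.IsSyl q (ptStab S c) P := isSyl_ptStab_of_pair hS hG hc hdvd hx hxc hP
  obtain ⟨g, hg⟩ := exists_prime_orderOf_dvd_card' q hq
  obtain ⟨P', hgP', hP'⟩ := H29.Bender.exists_isSyl_ge (D := ptStab S c) (P := zpowers (g : G))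
    (zpowers_le.mpr g.2.1) (IsPGroup.of_card (n := 1) (by
      rw [Nat.card_zpowers, Subgroup.orderOf_coe, hg, pow_one]))
  obtain ⟨d, hd, hdP⟩ := hP'.exists_conj hPsyl
  have hd' : d * g * d⁻¹ ∈ P := hdP ▸ ⟨g, hgP' (mem_zpowers _), rfl⟩
  have hone := semiregular_centStab hS h2 hF hG hIH hc hR hRodd hRn hR1
    ((Subgroup.mem_normalizer_iff.mp (ptStab_le_normalizer_centStab hRn hd) _).mp g.2) hx hxc
    (mem_pair.mp (hP.le hd')).2.2
  rw [conj_eq_one_iff] at hone
  rw [← Subgroup.orderOf_coe, hone, orderOf_one] at hg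
  exact (Fact.out : q.Prime).ne_one hg.symm

/-- The involutions at a point and `1` form the group they generate. -/
theorem mem_invGen_iff (hS : SE S C) (h2 : RankTwo S) (hF : Faithful S C) (hG : Good S C)
    {c : Ω} (hc : c ∈ C) {W : Subgroup G} (hW : W ≤ ptStab S c) (hWodd : Odd (Nat.card W))
    (hWn : ptStab S c ≤ normalizer (W : Set G)) (hW1 : W ≠ ⊥) {e : G} :
    e ∈ invGen S c ↔ e = 1 ∨ (e ∈ S ∧ orderOf e = 2 ∧ e • c = c) := by
  refine ⟨fun he => ?_, fun he => he.elim (fun h => h ▸ one_mem _) fun h => subset_closure h⟩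
  induction he using Subgroup.closure_induction with
  | mem t ht => exact Or.inr ht
  | one => exact Or.inl rfl
  | mul a b _ _ ha hb =>
    rcases ha with rfl | ⟨haS, ha2, hac⟩
    · rwa [one_mul]
    rcases hb with rfl | ⟨hbS, hb2, hbc⟩
    · rw [mul_one]; exact Or.inr ⟨haS, ha2, hac⟩
    by_cases h1 : a * b = 1
    · exact Or.inl h1
    have hab := commute_involutions hS h2 hF hG hc hW hWodd hWn hW1 haS hbS ha2 hb2 hac hbc
    refine Or.inr ⟨mul_mem haS hbS, orderOf_eq_two_of_mul_self ?_ h1, by rw [mul_smul, hbc, hac]⟩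
    rw [hab.symm.mul_mul_mul_comm a b, mul_self_of_orderOf_eq_two ha2, mul_self_of_orderOf_eq_two hb2,
      one_mul]
  | inv a _ ha =>
    rcases ha with rfl | ⟨haS, ha2, hac⟩
    · exact Or.inl inv_one
    · rw [inv_eq_of_orderOf_eq_two ha2]; exact Or.inr ⟨haS, ha2, hac⟩

/-- The group of the involutions at a point has one element more than there are such involutions. -/
theorem card_invGen (hS : SE S C) (h2 : RankTwo S) (hF : Faithful S C) (hG : Good S C)
    {c : Ω} (hc : c ∈ C) {W : Subgroup G} (hW : W ≤ ptStab S c) (hWodd : Odd (Nat.card W))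
    (hWn : ptStab S c ≤ normalizer (W : Set G)) (hW1 : W ≠ ⊥) :
    Nat.card (invGen S c) = invBar S C c + 1 := by
  have hset : (invGen S c : Set G) = insert 1 {t | t ∈ S ∧ orderOf t = 2 ∧ t • c = c} :=
    Set.ext fun _ => mem_invGen_iff hS h2 hF hG hc hW hWodd hWn hW1
  rw [invBar_eq_card hF, show Nat.card (invGen S c) = (invGen S c : Set G).ncard from rfl, hset,
    Set.ncard_insert_of_notMem (fun h => by
      have h' := h.2.1
      rw [orderOf_one] at h'
      exact absurd h' (by norm_num)) (Set.toFinite _)]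
  rfl

omit [Finite Ω] in
/-- A non-trivial odd subgroup contains a non-trivial abelian subgroup normalised by its normaliser. -/
theorem exists_abelian_normal {W : Subgroup G} (hW : Odd (Nat.card W)) (hW1 : W ≠ ⊥) :
    ∃ R : Subgroup G, R ≤ W ∧ R ≠ ⊥ ∧ IsMulCommutative R ∧
      (normalizer (W : Set G) ≤ normalizer (R : Set G)) := by
  classical
  have hex := H72.SE.exists_dser_eq_bot W hW
  have h0 : Nat.find hex ≠ 0 := fun h0 => hW1 ((Nat.find_eq_zero hex).mp h0)
  obtain ⟨d, hd⟩ := Nat.exists_eq_succ_of_ne_zero h0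
  refine ⟨H72.SE.dser W d, H72.SE.dser_le W d, Nat.find_min hex (by omega), ⟨⟨fun a b => ?_⟩⟩,
    fun g hg => mem_normalizer_iff_map_conj_eq.mpr (H72.SE.normalizer_le_dser W hg d)⟩
  have h : ⁅(a : G), (b : G)⁆ ∈ H72.SE.dser W (d + 1) := commutator_mem_commutator a.2 b.2
  have hbot := Nat.find_spec hex
  rw [hd] at hbot
  rw [hbot, mem_bot] at h
  exact Subtype.ext (commutatorElement_eq_one_iff_mul_comm.mp h)

end Cfsg.Agent.Cores.SE
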