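import Cfsg.Agent.Cores.SE.CoreNilpotent
import Cfsg.Agent.H53.SE.PairStruct
import Cfsg.Agent.H53.SE.FixInv
import Cfsg.Agent.Coprime.Generation

/-!
For a prime `p` dividing the number of involutions at a point there is an element of order `p` in
every pair stabiliser fixing exactly the pair, and `p` does not divide the centraliser of the
involutions at the point when an abelian odd normal subgroup `R ≠ 1` is present
(notes/helper30_bender_g2prime.md A).
-/

set_option autoImplicit false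
set_option linter.style.haveILetI false

namespace Cfsg.Agent.Cores.SE

open Subgroup MulAction
open Cfsg.Agent.H39
open Cfsg.Agent.H73.Bender
open scoped commutatorElement

universe u v

variable {G : Type u} [Group G] [Finite G] {Ω : Type v} [MulAction G Ω] [Finite Ω] {S : Subgroup G}
  {C : Set Ω}

/-- An element of order `p` fixing exactly a given pair, with `p` prime to the centraliser of the
involutions at a point of the pair. -/
theorem exists_fpf_element (hS : SE S C) (h2 : RankTwo S) (hF : Faithful S C) (hG : Good S C)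
    (hIH : CoreBelow S Ω) {c z : Ω} (hc : c ∈ C) (hz : z ∈ C) (hcz : c ≠ z) {R : Subgroup G}
    (hR : R ≤ ptStab S c) (hRodd : Odd (Nat.card R)) (hRn : ptStab S c ≤ normalizer (R : Set G))
    (hR1 : R ≠ ⊥) (hRab : IsMulCommutative R) {p : ℕ} [Fact p.Prime] (hdvd : p ∣ invBar S C c) :
    ∃ x : G, orderOf x = p ∧ x ∈ ptStab S c ∧ x • z = z ∧
      (∀ y ∈ C, x • y = y → y = c ∨ y = z) ∧
      (∀ t ∈ S, orderOf t = 2 → t • c = c → ¬ Commute x t) ∧
      ¬ p ∣ Nat.card (ptStab S c ⊓ centralizer (invGen S c : Set G) : Subgroup G) := by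
  have hcomm : H53.SE.CommAt S c := fun s hs t ht hs2 ht2 hsc htc =>
    commute_involutions hS h2 hF hG hc hR hRodd hRn hR1 hs ht hs2 ht2 hsc htc
  obtain ⟨w, hw, hw2, hwc⟩ := hS.exists_swap hc hz hcz
  obtain ⟨A, -, hAD, hAn, -, hAcard, hAfix, -, -⟩ :=
    H53.SE.exists_inverted_subgroup hS hF hG hc hz hcz hcomm hw hw2 hwc
  obtain ⟨⟨x, hxA⟩, hxp⟩ := exists_prime_orderOf_dvd_card' (G := A) p (hAcard ▸ hdvd)
  rw [Subgroup.orderOf_mk] at hxp
  obtain ⟨hxS, hxc, hxz⟩ := mem_pair.mp (hAD hxA)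
  obtain ⟨t, ht, ht2, htc⟩ := hS.exists_inv_at hc
  have hx1 : x ≠ 1 := fun h => (Fact.out : p.Prime).ne_one (by rw [← hxp, h, orderOf_one])
  -- an element centralising no involution at `c` fixes only the pair
  have hexact : ∀ b : G, b ∈ pair S c z → b ^ p = 1 →
      (∀ i ∈ S, orderOf i = 2 → i • c = c → ¬ Commute b i) →
      ∀ y ∈ C, b • y = y → y = c ∨ y = z := by
    intro b hb hbp hbi y hy hby
    by_contra! hne
    obtain ⟨hbS, hbc, hbz⟩ := mem_pair.mp hb
    have hfix : ∀ {e : Ω}, e ∈ C → b • e = e → e ∈ fixedIn C (zpowers b) := fun {e} he hbe =>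
      ⟨he, fun k hk => mem_stabilizer_iff.mp ((zpowers_le.mpr (mem_stabilizer_iff.mpr hbe) :
        zpowers b ≤ stabilizer G e) hk)⟩
    have hbp' : IsPGroup p (zpowers b) := fun g => ⟨1, by
      obtain ⟨g, hg⟩ := g
      obtain ⟨k, rfl⟩ := mem_zpowers_iff.mp hg
      refine Subtype.ext (show (b ^ k) ^ p ^ 1 = 1 from ?_)
      rw [pow_one, ← zpow_natCast, ← zpow_mul, mul_comm, zpow_mul, zpow_natCast, hbp, one_zpow]⟩
    obtain ⟨i, hi, hi2, hic, hib⟩ := H53.SE.exists_inv_fixed hS hF hG hc hdvd (zpowers b)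
      (zpowers_le.mpr hbS) hbp'
      ⟨c, hfix hc hbc, z, hfix hz hbz, y, hfix hy hby, hcz, hne.1, hne.2⟩ c (hfix hc hbc)
    exact hbi i hi hi2 hic (hib b (mem_zpowers b)).symm
  have hxnc : ∀ i ∈ S, orderOf i = 2 → i • c = c → ¬ Commute x i :=
    fun i hi hi2 hic h => hx1 (hAfix x hxA i hi hi2 hic h)
  have honly := hexact x (hAD hxA) (by rw [← hxp, pow_orderOf_eq_one]) hxnc
  have hxH : x ∈ ptStab S c := mem_ptStab.mpr ⟨hxS, hxc⟩
  refine ⟨x, hxp, hxH, hxz, honly, hxnc, fun hpK => ?_⟩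
  set K : Subgroup G := ptStab S c ⊓ centralizer (invGen S c : Set G) with hK
  -- an element of order `p` of `K` in the pair stabiliser
  obtain ⟨y, hyK, hyz, hyp⟩ : ∃ y ∈ K, y • z = z ∧ orderOf y = p := by
    obtain ⟨⟨y, hy⟩, hy'⟩ := exists_prime_orderOf_dvd_card' p hpK
    rw [Subgroup.orderOf_mk] at hy'
    obtain ⟨P, -, hP⟩ := H29.Bender.exists_isSyl_ge (D := pair S c z) (P := ⊥) bot_le
      (IsPGroup.of_bot (p := p))
    obtain ⟨P', hyP', hP'⟩ := H29.Bender.exists_isSyl_ge (D := ptStab S c) (P := zpowers y)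
      (zpowers_le.mpr hy.1) (IsPGroup.of_card (n := 1) (by rw [Nat.card_zpowers, hy', pow_one]))
    obtain ⟨d, hd, hdP⟩ := hP'.exists_conj (isSyl_ptStab_of_pair hS hG hc hdvd hz (Ne.symm hcz) hP)
    have hmem : d * y * d⁻¹ ∈ P := hdP ▸ ⟨y, hyP' (mem_zpowers y), rfl⟩
    exact ⟨d * y * d⁻¹,
      (Subgroup.mem_normalizer_iff.mp (ptStab_le_normalizer_centInv c hd) y).mp hy,
      (mem_pair.mp (hP.le hmem)).2.2, by rw [orderOf_conj, hy']⟩
  obtain ⟨hyS, hyc⟩ := mem_ptStab.mp hyK.1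
  have hyD : y ∈ pair S c z := mem_pair.mpr ⟨hyS, hyc, hyz⟩
  have hyE : ∀ i ∈ S, orderOf i = 2 → i • c = c → Commute y i := fun i hi hi2 hic =>
    (mem_centralizer_iff.mp hyK.2 i (subset_closure ⟨hi, hi2, hic⟩)).symm
  have hy1 : y ≠ 1 := fun h => (Fact.out : p.Prime).ne_one (by rw [← hyp, h, orderOf_one])
  -- it commutes with `x`
  have hxy : Commute x y := by
    have hxtx : ∀ i : G, i ∈ S → orderOf i = 2 → i • c = c →
        x * i * x⁻¹ ∈ S ∧ orderOf (x * i * x⁻¹) = 2 ∧ (x * i * x⁻¹) • c = c := by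
      intro i hi hi2 hic
      refine ⟨conj_mem_of_mem hxS hi, by rw [orderOf_conj, hi2], ?_⟩
      have h := conj_smul_of_smul (g := x) hic
      rwa [hxc] at h
    set j := y * x * y⁻¹ with hj
    have hjA : x⁻¹ * j ∈ A :=
      mul_mem (inv_mem hxA) ((Subgroup.mem_normalizer_iff.mp (hAn hyD) x).mp hxA)
    obtain ⟨h1, h2', h3⟩ := hxtx t ht ht2 htc
    have hyt : y⁻¹ * t * y = t := by
      rw [mul_assoc, ← (hyE t ht ht2 htc).eq, inv_mul_cancel_left]
    have he : j * t * j⁻¹ = x * t * x⁻¹ := by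
      calc j * t * j⁻¹ = y * (x * (y⁻¹ * t * y) * x⁻¹) * y⁻¹ := by rw [hj]; group
        _ = y * (x * t * x⁻¹) * y⁻¹ := by rw [hyt]
        _ = x * t * x⁻¹ := by rw [(hyE _ h1 h2' h3).eq, mul_inv_cancel_right]
    have hone : x⁻¹ * j = 1 := hAfix _ hjA t ht ht2 htc (by
      have h : x⁻¹ * j * t * (x⁻¹ * j)⁻¹ = t := by
        calc x⁻¹ * j * t * (x⁻¹ * j)⁻¹ = x⁻¹ * (j * t * j⁻¹) * x := by group
          _ = t := by rw [he]; group
      exact mul_inv_eq_iff_eq_mul.mp h)
    exact (mul_inv_eq_iff_eq_mul.mp (inv_mul_eq_one.mp hone).symm).symm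
  set B : Subgroup G := zpowers x ⊔ zpowers y with hB
  haveI : IsMulCommutative B := by
    rw [hB, zpowers_eq_closure, zpowers_eq_closure, ← Subgroup.closure_union, Set.singleton_union]
    exact Subgroup.isMulCommutative_closure (by
      rintro a (rfl | rfl) b (rfl | rfl) <;> first | rfl | exact hxy.eq | exact hxy.eq.symm)
  have hBmem : ∀ a ∈ B, ∃ i k : ℤ, a = x ^ i * y ^ k := by
    intro a ha
    have hn : zpowers y ≤ normalizer (zpowers x : Set G) :=
      (zpowers_le.mpr (mem_centralizer_iff.mpr fun e he => by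
        obtain ⟨i, rfl⟩ := mem_zpowers_iff.mp he
        exact (hxy.zpow_left i).eq) : zpowers y ≤ centralizer (zpowers x : Set G)).trans
        (Subgroup.centralizer_le_normalizer _)
    have ha' : a ∈ ((B : Subgroup G) : Set G) := ha
    rw [hB, Subgroup.coe_mul_of_right_le_normalizer_left _ _ hn] at ha'
    obtain ⟨a₁, ha₁, a₂, ha₂, rfl⟩ := Set.mem_mul.mp ha'
    obtain ⟨i, rfl⟩ := mem_zpowers_iff.mp ha₁
    obtain ⟨k, rfl⟩ := mem_zpowers_iff.mp ha₂
    exact ⟨i, k, rfl⟩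
  have hpow : ∀ a ∈ B, a ^ p = 1 := by
    intro a ha
    obtain ⟨i, k, rfl⟩ := hBmem a ha
    have hxp' : (x ^ i) ^ p = 1 := by
      rw [← zpow_natCast, ← zpow_mul, mul_comm, zpow_mul, zpow_natCast,
        show x ^ p = 1 from hxp ▸ pow_orderOf_eq_one x, one_zpow]
    have hyp' : (y ^ k) ^ p = 1 := by
      rw [← zpow_natCast, ← zpow_mul, mul_comm, zpow_mul, zpow_natCast,
        show y ^ p = 1 from hyp ▸ pow_orderOf_eq_one y, one_zpow]
    rw [(hxy.zpow_zpow i k).mul_pow, hxp', hyp', one_mul]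
  have hBp : IsPGroup p B := fun a => ⟨1, Subtype.ext (by rw [pow_one]; exact hpow a a.2)⟩
  have hBncyc : ¬ IsCyclic B := by
    intro hcyc
    obtain ⟨g, hg⟩ := IsCyclic.exists_ofOrder_eq_natCard (α := B)
    have hle : Nat.card B ≤ p :=
      hg ▸ Nat.le_of_dvd (Fact.out : p.Prime).pos (orderOf_dvd_of_pow_eq_one (Subtype.ext (hpow g g.2)))
    have heq : zpowers x = B := Subgroup.eq_of_le_of_card_ge le_sup_left
      (by rw [Nat.card_zpowers, hxp]; exact hle)
    exact hy1 (hAfix y (zpowers_le.mpr hxA (heq ▸ mem_sup_right (mem_zpowers y))) t ht ht2 htc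
      (hyE t ht ht2 htc))
  have hBH : B ≤ ptStab S c := sup_le (zpowers_le.mpr hxH) (zpowers_le.mpr hyK.1)
  have hRC : R ≤ centStab S c R := fun r hr => mem_centStab.mpr ⟨mem_ptStab.mp (hR hr), fun r' hr' =>
    congrArg Subtype.val (hRab.is_comm.comm ⟨r', hr'⟩ ⟨r, hr⟩)⟩
  have hcop : (Nat.card B).Coprime (Nat.card R) := by
    obtain ⟨n, hn⟩ := IsPGroup.iff_card.mp hBp
    rw [hn]
    refine Nat.Coprime.pow_left n ((Nat.Prime.coprime_iff_not_dvd Fact.out).mpr fun h => ?_)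
    exact not_dvd_card_centStab hS h2 hF hG hIH hc hR hRodd hRn hR1 hdvd
      (h.trans (Subgroup.card_dvd_of_le hRC))
  -- every non-trivial element of `B` is fixed point free on `R`
  refine hR1 (eq_bot_iff.mpr (Coprime.le_of_centralizer_noncyclic_le (A := B) (M := ⊥) hBncyc
    (hBH.trans hRn) hcop fun a ha ha1 r hr => ?_))
  obtain ⟨hrR, hra⟩ := hr
  have hra' : Commute r a := mem_centralizer_singleton_iff.mp hra
  obtain ⟨i, k, rfl⟩ := hBmem a ha
  refine mem_bot.mpr ?_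
  obtain ⟨hrS, hrc⟩ := mem_ptStab.mp (hR hrR)
  by_cases hi : x ^ i = 1
  · rw [hi, one_mul] at hra' ha1
    have hbK : y ^ k ∈ K := zpow_mem hyK k
    have hbD : y ^ k ∈ pair S c z := zpow_mem hyD k
    have hbw : Commute (y ^ k) w := H53.SE.commute_swapper_of_centralizing hS hF hG hc hz hcz
      ⟨hbD, hbK.2⟩ hw hw2 hwc
    obtain ⟨f, hf, hwf⟩ := hS.exists_fix hw hw2
    have hfc : f ≠ c := fun h => hcz (by
      have h' : w • c = c := h ▸ hwf
      exact h'.symm.trans hwc)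
    set T : Subgroup G := S ⊓ centralizer {y ^ k} with hT
    have hTS : T ≤ S := inf_le_left
    have hmemT : ∀ g : G, g ∈ S → Commute g (y ^ k) → g ∈ T := fun g hg hgb =>
      ⟨hg, mem_centralizer_singleton_iff.mpr hgb.eq⟩
    have hcard : Nat.card T < Nat.card S := by
      by_contra hle
      have hTeq : T = S := Subgroup.eq_of_le_of_card_ge hTS (not_lt.mp hle)
      refine ha1 ((mem_bot (G := G)).mp ?_)
      rw [← (hF : kernel S C = ⊥)]
      refine mem_kernel.mpr ⟨(mem_pair.mp hbD).1, fun e he => ?_⟩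
      obtain ⟨g, hg, rfl⟩ := hS.trans hc he
      have hgb : g * y ^ k = y ^ k * g :=
        mem_centralizer_singleton_iff.mp (hTeq.symm ▸ hg : g ∈ T).2
      rw [← mul_smul, ← hgb, mul_smul, (mem_pair.mp hbD).2.1]
    have htT := hmemT t ht ((hyE t ht ht2 htc).zpow_left k).symm
    have hcL : c ∈ points T C := ⟨hc, t, htT, ht2, htc⟩
    have hfL : f ∈ points T C := ⟨hf, w, hmemT w hw hbw.symm, hw2, hwf⟩
    have hT2 : RankTwo T := by
      obtain ⟨v, hv, hv2, htv, hcv⟩ := hS.exists_commute_inv h2 ht ht2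
      have hvc : v • c = c := hS.fix_of_commute hv ht ht2 hcv.symm hc htc
      exact ⟨t, htT, v, hmemT v hv ((hyE v hv hv2 hvc).zpow_left k).symm, ht2, hv2, htv, hcv⟩
    have hker := hIH T (points T C) hTS hcard (hS.line hTS hcL hfL (Ne.symm hfc)) hT2
      (hG.subline hTS (points_subset T C)) c hcL (R ⊓ T)
      (fun g hg => mem_ptStab.mpr ⟨hg.2, (mem_ptStab.mp (hR hg.1)).2⟩)
      (hRodd.of_dvd_nat (card_dvd_of_le inf_le_left)) (fun g hg => Subgroup.mem_normalizer_iff.mpr fun n => and_congr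
        (Subgroup.mem_normalizer_iff.mp
            (hRn (mem_ptStab.mpr ⟨hTS (mem_ptStab.mp hg).1, (mem_ptStab.mp hg).2⟩)) n)
        (Subgroup.mem_normalizer_iff.mp (Subgroup.le_normalizer (mem_ptStab.mp hg).1) n))
    exact semiregular_centStab hS h2 hF hG hIH hc hR hRodd hRn hR1 (hRC hrR) hf hfc
      ((mem_kernel.mp (hker ⟨hrR, hmemT r hrS hra'⟩)).2 f hfL)
  · have hbD : x ^ i * y ^ k ∈ pair S c z := mul_mem (zpow_mem (hAD hxA) i) (zpow_mem hyD k)
    have hexa := hexact _ hbD (hpow _ ha) fun v hv hv2 hvc h => hi (hAfix _ (zpow_mem hxA i) v hv hv2 hvc (by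
      have h' := h.mul_left ((hyE v hv hv2 hvc).zpow_left (-k))
      simpa [mul_assoc] using h'))
    exact semiregular_centStab hS h2 hF hG hIH hc hR hRodd hRn hR1 (hRC hrR) hz (Ne.symm hcz)
      (fix_of_commute_exact hS hz hcz (mem_pair.mp hbD).2.2 hexa hrS hrc hra')

end Cfsg.Agent.Cores.SE
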