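import Cfsg.Agent.Cores.SE.Key
import Cfsg.Agent.S0205
import Cfsg.Agent.S1469

/-!
KEY + Puig: if a special `p`-element normalises the odd group `D` with its inverting involution, `D`
fixes the point as soon as the normaliser in `D` of the centre of the Puig subgroup of a Sylow
`p`-subgroup does.
-/

set_option autoImplicit false
set_option linter.style.haveILetI false

namespace Cfsg.Agent.Cores.SE

open Subgroup

variable {G : Type*} [Group G] [Finite G] {H : Subgroup G}

omit [Finite G] in
/-- the conjugate of the characteristic subgroup of an invariant subgroup is itself. -/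
theorem mem_normalizer_map_characteristic {D : Subgroup G} (C : Subgroup D) [C.Characteristic] {g : G}
    (hg : g ∈ normalizer (D : Set G)) : g ∈ normalizer ((C.map D.subtype : Subgroup G) : Set G) := by
  let e : D ≃* D :=
    { toFun := fun d => ⟨g * d * g⁻¹, (Subgroup.mem_normalizer_iff.mp hg _).mp d.2⟩
      invFun := fun d => ⟨g⁻¹ * d * g, by
        simpa using (Subgroup.mem_normalizer_iff.mp (inv_mem hg) _).mp d.2⟩
      left_inv := fun d => Subtype.ext (by simp [mul_assoc])
      right_inv := fun d => Subtype.ext (by simp [mul_assoc])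
      map_mul' := fun c d => Subtype.ext (by simp [mul_assoc]) }
  refine Cfsg.Agent.Coprime.mem_normalizer_of_map_conj ?_
  conv_rhs => rw [← (Subgroup.characteristic_iff_map_eq (H := C)).mp inferInstance e]
  rw [Subgroup.map_map, Subgroup.map_map]
  rfl

/-- `D = O_{p'}(D) N_D(Z(L(S)))` and KEY. -/
theorem odd_fixes_of_puig (hH : Cfsg.IsStronglyEmbedded H) {p : ℕ} [Fact p.Prime] (hp : p ≠ 2)
    {x u : G} (hx : ∃ k : ℕ, orderOf x = p ^ k) (hu : orderOf u = 2) (hinv : u * x * u⁻¹ = x⁻¹)
    {a : G ⧸ H} (hua : u • a = a) (hxa : ∀ g : G, Commute g x → g • a = a)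
    {D : Subgroup G} (hodd : Odd (Nat.card D)) (hxD : x ∈ normalizer (D : Set G))
    (huD : u ∈ normalizer (D : Set G)) (S : Sylow p D)
    (hN : ∀ d : D, d ∈ normalizer ((((center ↥(Cfsg.puigSubgroup ↥(S : Subgroup D))).map
        (Cfsg.puigSubgroup ↥(S : Subgroup D)).subtype).map (S : Subgroup D).subtype : Subgroup D) : Set D) →
      (d : G) • a = a) :
    D ≤ MulAction.stabilizer G a := by
  haveI : Group.IsSolvable D := Cfsg.Agent.S0205.result hodd
  have hxodd : Odd (orderOf x) := by
    obtain ⟨k, hk⟩ := hx
    rw [hk]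
    exact ((Fact.out : p.Prime).odd_of_ne_two hp).pow
  haveI : (Cfsg.pPrimeCore p D).Characteristic := inferInstance
  set K : Subgroup G := (Cfsg.pPrimeCore p D).map D.subtype with hK
  have hKcop : (orderOf x).Coprime (Nat.card K) := by
    obtain ⟨k, hk⟩ := hx
    rw [hk, hK, Subgroup.card_map_of_injective D.subtype_injective]
    exact Nat.Coprime.pow_left _ Cores.coprime_card_pPrimeCore.symm
  have hKodd : Odd (Nat.card K) := hodd.of_dvd_nat (card_dvd_of_le (map_subtype_le _))
  have hKa : K ≤ MulAction.stabilizer G a :=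
    key hH hu hxodd hinv hua hxa K hKodd hKcop (mem_normalizer_map_characteristic _ hxD)
      (mem_normalizer_map_characteristic _ huD)
  have htop := (Cfsg.Agent.S1469.result hodd p hp S).1
  have hle : (⊤ : Subgroup D) ≤ (MulAction.stabilizer G a).comap D.subtype := by
    rw [← htop]
    exact sup_le (fun d hd => hKa ⟨d, hd, rfl⟩) fun d hd => hN d hd
  exact fun g hg => hle (mem_top (⟨g, hg⟩ : D))

end Cfsg.Agent.Cores.SE
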