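import Cfsg.Agent.Coprime.Centralize
import Cfsg.Agent.Cores.PCore
import Cfsg.Prelude.Def_CaseTheorems

/-!
If the odd elements centralising a normal `2`-subgroup `T` lie in the normal odd subgroup `W`, then
the centraliser of a `2`-element, modulo its part in `W`, has trivial odd core and self-centralising
largest normal `2`-subgroup; so it has a single `2`-block (S4487).
-/

set_option autoImplicit false
set_option linter.style.haveILetI false

namespace Cfsg.Agent.Cores.SE

open Subgroup
open scoped commutatorElement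

variable {H : Type*} [Group H] [Finite H]

omit [Finite H] in
/-- Two normal subgroups of coprime orders commute elementwise. -/
theorem commute_of_normal_of_coprime {A B : Subgroup H} [A.Normal] [B.Normal]
    (hAB : (Nat.card A).Coprime (Nat.card B)) {a b : H} (ha : a ∈ A) (hb : b ∈ B) : Commute a b := by
  exact Subgroup.commute_of_normal_of_disjoint A B inferInstance inferInstance
    (Subgroup.disjoint_of_coprime_natCard hAB) a b ha hb

/-- The hypotheses of the single-block criterion for the centraliser of a `2`-element modulo an odd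
normal subgroup. -/
theorem constrained_centralizer_quotient (W T : Subgroup H) [W.Normal] [T.Normal]
    (hW : Odd (Nat.card W)) (hT : IsPGroup 2 T)
    (hc : ∀ v : H, Odd (orderOf v) → v ∈ centralizer (T : Set H) → v ∈ W)
    {u : H} (hu : ∃ k, orderOf u = 2 ^ k) :
    Cfsg.pPrimeCore 2 (↥(centralizer ({u} : Set H)) ⧸ W.subgroupOf (centralizer ({u} : Set H))) = ⊥ ∧
    centralizer (Cfsg.pCore 2
        (↥(centralizer ({u} : Set H)) ⧸ W.subgroupOf (centralizer ({u} : Set H))) : Set _) ≤
      Cfsg.pCore 2 (↥(centralizer ({u} : Set H)) ⧸ W.subgroupOf (centralizer ({u} : Set H))) := by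
  haveI : Fact (Nat.Prime 2) := ⟨Nat.prime_two⟩
  set M : Subgroup H := centralizer {u} with hM
  set N : Subgroup M := W.subgroupOf M with hN
  let U : Subgroup (M ⧸ N) := (T.subgroupOf M).map (QuotientGroup.mk' N)
  haveI hUn : U.Normal := Subgroup.Normal.map inferInstance _ (QuotientGroup.mk'_surjective N)
  have hU2 : IsPGroup 2 U := (hT.comap_subtype).map _
  have hdisj : W ⊓ T = ⊥ := by
    obtain ⟨n, hn⟩ := IsPGroup.iff_card.mp hT
    exact (Subgroup.disjoint_of_coprime_natCard (hn ▸ (hW.coprime_two_left.pow_left n).symm)).eq_bot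
  -- the centraliser of `U` is a `2`-group
  have hK : ∀ x ∈ centralizer (U : Set (M ⧸ N)), Odd (orderOf x) → x = 1 := by
    intro x hx hodd
    obtain ⟨m, rfl⟩ := QuotientGroup.mk'_surjective N x
    obtain ⟨i, b, hb, hib⟩ := Nat.exists_eq_two_pow_mul_odd (orderOf_pos m).ne'
    obtain ⟨e, he⟩ := exists_pow_eq_self_of_coprime (x := QuotientGroup.mk' N m) (n := 2 ^ i)
      (hodd.coprime_two_left.pow_left i)
    set v : M := (m ^ 2 ^ i) ^ e with hv
    have hvm : QuotientGroup.mk' N v = QuotientGroup.mk' N m := by rw [hv, map_pow, map_pow, he]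
    have hvodd : Odd (orderOf (v : H)) := by
      rw [Subgroup.orderOf_coe]
      refine hb.of_dvd_nat (orderOf_dvd_of_pow_eq_one ?_)
      rw [hv, ← pow_mul, ← pow_mul, mul_comm e, ← mul_assoc, ← hib, pow_mul, pow_orderOf_eq_one,
        one_pow]
    have hvT : T ⊓ centralizer (zpowers u : Set H) ≤ centralizer (zpowers (v : H) : Set H) := by
      intro s hs
      have hsM : s ∈ M := mem_centralizer_singleton_iff.mpr
        (mem_centralizer_iff.mp hs.2 u (mem_zpowers u)).symm
      have hsU : QuotientGroup.mk' N ⟨s, hsM⟩ ∈ U := ⟨⟨s, hsM⟩, hs.1, rfl⟩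
      have hcomm := mem_centralizer_iff.mp hx _ hsU
      rw [← hvm, ← map_mul, ← map_mul] at hcomm
      have h1 : ⁅(v : H), s⁆ ∈ W := by
        have h := QuotientGroup.eq.mp hcomm
        rw [hN, mem_subgroupOf] at h
        have e' : ⁅(v : H), s⁆ = ((v : H) * s) * ((s * (v : H))⁻¹ * ((v : H) * s)) * ((v : H) * s)⁻¹ := by
          rw [commutatorElement_def]; group
        rw [e']
        refine Subgroup.Normal.conj_mem inferInstance _ ?_ _
        exact h
      have h2 : ⁅(v : H), s⁆ ∈ T := by
        rw [commutatorElement_def]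
        exact mul_mem (Subgroup.Normal.conj_mem inferInstance s hs.1 (v : H)) (inv_mem hs.1)
      have h3 : ⁅(v : H), s⁆ = 1 := mem_bot.mp (hdisj ▸ ⟨h1, h2⟩)
      rw [mem_centralizer_iff]
      intro w hw
      obtain ⟨k, rfl⟩ := mem_zpowers_iff.mp hw
      exact ((commutatorElement_eq_one_iff_commute.mp h3).zpow_left k).eq
    have hPQ : zpowers u ≤ centralizer (zpowers (v : H) : Set H) := zpowers_le.mpr
      (mem_centralizer_iff.mpr fun w hw => by
        obtain ⟨k, rfl⟩ := mem_zpowers_iff.mp hw
        exact ((show Commute (v : H) u from mem_centralizer_singleton_iff.mp v.2).zpow_left k).eq)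
    obtain ⟨k, hk⟩ := hu
    have hle := Coprime.thompson_AxB (p := 2)
      (IsPGroup.of_card (n := k) (by rw [Nat.card_zpowers, hk]))
      (by rw [Nat.card_zpowers]; exact hvodd.coprime_two_right) hPQ T hT
      (fun g _ => by rw [normalizer_eq_top]; exact mem_top g)
      (fun g _ => by rw [normalizer_eq_top]; exact mem_top g) hvT
    rw [← hvm]
    exact (QuotientGroup.eq_one_iff v).mpr
      (mem_subgroupOf.mpr (hc _ hvodd (hle (mem_zpowers _))))
  have hKp : IsPGroup 2 (centralizer (U : Set (M ⧸ N))) := by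
    intro x
    obtain ⟨i, b, hb, hib⟩ := Nat.exists_eq_two_pow_mul_odd (orderOf_pos x).ne'
    refine ⟨i, Subtype.ext (hK _ (x ^ 2 ^ i).2 ?_)⟩
    rw [Subgroup.orderOf_coe, orderOf_pow_of_dvd (pow_ne_zero _ two_ne_zero) (hib ▸ dvd_mul_right _ _),
      hib, Nat.mul_div_cancel_left _ (pow_pos two_pos i)]
    exact hb
  refine ⟨?_, ?_⟩
  · haveI : (Cfsg.oddCore (M ⧸ N)).Normal := Cfsg.pPrimeCore_normal _ _
    change Cfsg.oddCore (M ⧸ N) = ⊥
    rw [eq_bot_iff]
    intro x hx
    have hxodd : Odd (orderOf x) := by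
      rw [← Subgroup.orderOf_mk x hx]
      exact Cores.odd_card_oddCore.of_dvd_nat (orderOf_dvd_natCard _)
    refine mem_bot.mpr (hK x (mem_centralizer_iff.mpr fun y hy => ?_) hxodd)
    obtain ⟨n, hn⟩ := IsPGroup.iff_card.mp hU2
    exact ((commute_of_normal_of_coprime (A := Cfsg.oddCore (M ⧸ N)) (B := U)
      (hn ▸ (Cores.odd_card_oddCore.coprime_two_left.pow_left n).symm) hx hy).symm).eq
  · haveI : (Cfsg.pCore 2 (M ⧸ N)).Normal := Cfsg.pCore_normal _ _
    refine Cores.le_pCore (hKp.to_le (Subgroup.centralizer_le ?_))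
    exact Cores.le_pCore (N := U) hU2

end Cfsg.Agent.Cores.SE
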