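import Cfsg.Agent.Cores.SE.CoreNilpotent
import Cfsg.Agent.Cores.SE.CoreBlock
import Cfsg.Agent.H73.Bender.EndSQ
import Mathlib.GroupTheory.SchurZassenhaus

/-!
When the `2`-elements of a point stabiliser centralise the involutions at the point, its largest
`2`-subgroup `T` is normal and its odd elements centralising `T` lie in the odd core: the block
hypothesis of the character count (notes/helper57_bender_g2.md C3).
-/

set_option autoImplicit false
set_option linter.style.haveILetI false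

namespace Cfsg.Agent.Cores.SE

open Subgroup MulAction
open Cfsg.Agent.H39
open Cfsg.Agent.H73.Bender
open scoped commutatorElement

universe u v

section Pure

variable {H : Type*} [Group H] [Finite H]

/-- If the normal `2`-subgroup `T` contains every `2`-element, the odd elements centralising it lie in
the odd core. -/
theorem mem_oddCore_of_centralizer (T : Subgroup H) [T.Normal] (hT : IsPGroup 2 T)
    (hall : ∀ g : H, (∃ k, orderOf g = 2 ^ k) → g ∈ T) {v : H} (hv : Odd (orderOf v))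
    (hvc : v ∈ centralizer (T : Set H)) : v ∈ Cfsg.oddCore H := by
  haveI : Fact (Nat.Prime 2) := ⟨Nat.prime_two⟩
  set C : Subgroup H := centralizer (T : Set H) with hC
  set Z : Subgroup C := T.subgroupOf C with hZ
  have hZc : ∀ z ∈ Z, ∀ g : C, Commute z g := fun z hz g =>
    Subtype.ext (mem_centralizer_iff.mp g.2 (z : H) hz)
  have hZ2 : IsPGroup 2 Z := hT.comap_subtype
  have hodd : Odd Z.index := by
    rw [Subgroup.index, ← Nat.not_even_iff_odd, even_iff_two_dvd]
    intro h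
    obtain ⟨x, hx⟩ := exists_prime_orderOf_dvd_card' 2 h
    obtain ⟨g, rfl⟩ := QuotientGroup.mk'_surjective Z x
    obtain ⟨i, b, hb, hib⟩ := Nat.exists_eq_two_pow_mul_odd (orderOf_pos g).ne'
    have hmem : g ^ b ∈ Z := by
      rw [hZ, mem_subgroupOf]
      refine hall _ ⟨i, ?_⟩
      rw [Subgroup.orderOf_coe, orderOf_pow_of_dvd hb.pos.ne' (hib ▸ dvd_mul_left _ _), hib,
        Nat.mul_div_cancel _ hb.pos]
    have h1 : (QuotientGroup.mk' Z g) ^ b = 1 := by
      rw [← map_pow]; exact (QuotientGroup.eq_one_iff _).mpr hmem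
    have h2 := orderOf_dvd_of_pow_eq_one h1
    rw [hx] at h2
    exact (Nat.not_even_iff_odd.mpr hb) (even_iff_two_dvd.mpr h2)
  have hcop : (Nat.card Z).Coprime Z.index := by
    obtain ⟨n, hn⟩ := IsPGroup.iff_card.mp hZ2
    exact hn ▸ hodd.coprime_two_left.pow_left n
  obtain ⟨L, hL⟩ := Subgroup.exists_right_complement'_of_coprime hcop
  have hLodd : Odd (Nat.card L) := by rwa [← hL.symm.index_eq_card]
  -- the odd elements are those of `L`
  have hmemL : ∀ g : C, Odd (orderOf g) → g ∈ L := by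
    intro g hg
    obtain ⟨⟨z, l⟩, hzl⟩ := hL.2 g
    have hzl' : (z : C) * (l : C) = g := hzl
    obtain ⟨k, hk⟩ := IsPGroup.iff_orderOf.mp hZ2 z
    rw [← Subgroup.orderOf_coe] at hk
    have hlodd : Odd (orderOf (l : C)) := by
      rw [Subgroup.orderOf_coe]; exact hLodd.of_dvd_nat (orderOf_dvd_natCard _)
    have hz1 : (z : C) ^ (orderOf g * orderOf (l : C)) = 1 := by
      have hc := hZc z z.2 (l : C)
      have h : g ^ (orderOf g * orderOf (l : C)) = 1 := by rw [pow_mul, pow_orderOf_eq_one, one_pow]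
      rw [← hzl', hc.mul_pow, mul_comm (orderOf _) (orderOf (l : C)), pow_mul (l : C),
        pow_orderOf_eq_one, one_pow, mul_one, hzl'] at h
      rwa [mul_comm] at h
    have hone : orderOf (z : C) = 1 := Nat.eq_one_of_dvd_coprimes
      ((hg.mul hlodd).coprime_two_left.pow_left k) (hk ▸ dvd_rfl) (orderOf_dvd_of_pow_eq_one hz1)
    rw [orderOf_eq_one_iff] at hone
    rw [← hzl', hone, one_mul]
    exact l.2
  have hLn : (L.map C.subtype).Normal := ⟨by
    rintro _ ⟨l, hl, rfl⟩ g
    have hgC : g * (l : H) * g⁻¹ ∈ C := Subgroup.Normal.conj_mem inferInstance _ l.2 g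
    refine ⟨⟨_, hgC⟩, hmemL _ ?_, rfl⟩
    rw [Subgroup.orderOf_mk, orderOf_conj, Subgroup.orderOf_coe, ← Subgroup.orderOf_mk l hl]
    exact hLodd.of_dvd_nat (orderOf_dvd_natCard _)⟩
  refine Cores.le_oddCore (N := L.map C.subtype) ?_ ⟨⟨v, hvc⟩, hmemL _ (by rwa [Subgroup.orderOf_mk]), rfl⟩
  rwa [card_map_of_injective C.subtype_injective]

end Pure

variable {G : Type u} [Group G] [Finite G] {Ω : Type v} [MulAction G Ω] [Finite Ω] {S : Subgroup G}
  {C : Set Ω}

/-- When the `2`-elements at a point centralise the involutions there, the largest `2`-subgroup of the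
point stabiliser is normal, contains these involutions, and only the odd core centralises it among
the odd elements. -/
theorem exists_block_data (hS : SE S C) (h2 : RankTwo S) (hF : Faithful S C) (hG : Good S C)
    (hIH : CoreBelow S Ω) {c z : Ω} (hc : c ∈ C) (hz : z ∈ C) (hcz : c ≠ z) {R : Subgroup G}
    (hR : R ≤ ptStab S c) (hRodd : Odd (Nat.card R)) (hRn : ptStab S c ≤ normalizer (R : Set G))
    (hR1 : R ≠ ⊥) (hRab : IsMulCommutative R) {p : ℕ} (hp : p.Prime) {x : G} (hx : orderOf x = p)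
    (hxH : x ∈ ptStab S c) (hxz : x • z = z) (honly : ∀ y ∈ C, x • y = y → y = c ∨ y = z)
    (hpK : ¬ p ∣ Nat.card (ptStab S c ⊓ centralizer (invGen S c : Set G) : Subgroup G))
    (hH1 : ∀ v ∈ ptStab S c, (∃ k, orderOf v = 2 ^ k) →
      ∀ t ∈ S, orderOf t = 2 → t • c = c → Commute v t) :
    ∃ T : Subgroup G, H29.Bender.IsSyl 2 (ptStab S c) T ∧ ptStab S c ≤ normalizer (T : Set G) ∧
      T ≤ centStab S c R ∧ invGen S c ≤ T ∧
      (∀ v ∈ ptStab S c, (∃ k, orderOf v = 2 ^ k) → v ∈ T) ∧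
      (∀ W : Subgroup G, W ≤ ptStab S c → Odd (Nat.card W) → ptStab S c ≤ normalizer (W : Set G) →
        ∀ w ∈ W, ∀ s ∈ T, Commute w s) ∧
      ∀ v ∈ ptStab S c, Odd (orderOf v) → v ∈ centralizer (T : Set G) → v ∈ oddPart (ptStab S c) := by
  haveI : Fact (Nat.Prime 2) := ⟨Nat.prime_two⟩
  obtain ⟨T, hT, hTC, hTn, hTW⟩ := exists_normal_twoSylow hS h2 hF hG hIH hc hz hcz hR hRodd hRn hR1
    hRab hp hx hxH hxz honly hpK
  set K : Subgroup G := ptStab S c ⊓ centralizer (invGen S c : Set G) with hK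
  -- every `2`-element of the point stabiliser lies in `T`
  have hall : ∀ v ∈ ptStab S c, (∃ k, orderOf v = 2 ^ k) → v ∈ T := by
    intro v hv h2v
    have hle : invGen S c ≤ centralizer ({v} : Set G) := (Subgroup.closure_le _).mpr fun t ht =>
      mem_centralizer_singleton_iff.mpr (hH1 v hv h2v t ht.1 ht.2.1 ht.2.2).symm.eq
    have hvK : v ∈ K := ⟨hv, mem_centralizer_iff.mpr fun e he =>
      mem_centralizer_singleton_iff.mp (hle he)⟩
    obtain ⟨k, hk⟩ := h2v
    have hvp : IsPGroup 2 (zpowers v) := IsPGroup.of_card (n := k) (by rw [Nat.card_zpowers, hk])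
    have hnorm : zpowers v ≤ normalizer (T : Set G) := zpowers_le.mpr (hTn hv)
    have hsup : IsPGroup 2 (T ⊔ zpowers v : Subgroup G) :=
      hT.pgroup.to_sup_of_normal_left' hvp hnorm
    exact hT.eq_of_ge le_sup_left (sup_le hT.le (zpowers_le.mpr hvK)) hsup ▸
      mem_sup_right (mem_zpowers v)
  have hTH : T ≤ ptStab S c := hT.le.trans inf_le_left
  have hTsyl : H29.Bender.IsSyl 2 (ptStab S c) T := ⟨hTH, hT.pgroup, fun P hP hPq =>
    Nat.le_of_dvd Nat.card_pos (card_dvd_of_le fun g hg => hall g (hP hg) (by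
      obtain ⟨k, hk⟩ := IsPGroup.iff_orderOf.mp hPq ⟨g, hg⟩
      exact ⟨k, by rwa [Subgroup.orderOf_mk] at hk⟩))⟩
  refine ⟨T, hTsyl, hTn, hTC, (Subgroup.closure_le _).mpr fun t ht =>
    hall t (mem_ptStab.mpr ⟨ht.1, ht.2.2⟩) ⟨1, by rw [pow_one]; exact ht.2.1⟩, hall, hTW, ?_⟩
  intro v hv hvodd hvc
  set T' : Subgroup (ptStab S c) := T.subgroupOf (ptStab S c) with hT'
  haveI : T'.Normal := normal_subgroupOf_of_le_normalizer hTn
  refine ⟨⟨v, hv⟩, mem_oddCore_of_centralizer T' hT.pgroup.comap_subtype ?_ ?_ ?_, rfl⟩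
  · rintro ⟨g, hg⟩ hg2
    rw [hT', mem_subgroupOf]
    exact hall g hg (by rwa [Subgroup.orderOf_mk] at hg2)
  · rwa [Subgroup.orderOf_mk]
  · exact mem_centralizer_iff.mpr fun s hs => Subtype.ext (mem_centralizer_iff.mp hvc (s : G) hs)

end Cfsg.Agent.Cores.SE
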