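import Cfsg.Agent.Cores.SE.Point
import Cfsg.Agent.Coprime.Action
import Cfsg.Agent.H40.SupSolvable
import Mathlib.GroupTheory.Nilpotent

/-!
KEY: if `x` is an element of odd prime power order inverted by an involution `u` at the point `a`
and centralised by some involution, every odd subgroup of coprime order normalised by `x` and `u`
fixes `a`.  No solvability of groups of odd order is used.
-/

set_option autoImplicit false
set_option linter.style.haveILetI false

namespace Cfsg.Agent.Cores.SE

open Subgroup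
open Cfsg.Agent.H39
open scoped commutatorElement

variable {G : Type*} [Group G] [Finite G] {H : Subgroup G}

/-- an element `x` with `x ^ 2 ≠ 1` inverted by the involution `u` and centralised by an involution:
the centraliser of `x` fixes the point of `u`. -/
theorem centralizer_fixes_of_inverted (hH : Cfsg.IsStronglyEmbedded H) {x u v : G} (hu : orderOf u = 2)
    (hinv : u * x * u⁻¹ = x⁻¹) (hx2 : x * x ≠ 1) (hv : orderOf v = 2) (hvx : Commute v x) {a : G ⧸ H}
    (hua : u • a = a) {g : G} (hg : Commute g x) : g • a = a := by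
  refine le_stabilizer_of_single hH (C := centralizer {x}) hu ?_ ?_ hv
    (mem_centralizer_singleton_iff.mpr hvx.eq) hua
    (Subgroup.le_normalizer (mem_centralizer_singleton_iff.mpr hg.eq))
  · rw [Subgroup.mem_normalizer_iff]
    intro c
    have hx' : u⁻¹ * x * u = x⁻¹ := by
      rw [inv_eq_of_orderOf_eq_two hu] at hinv ⊢
      exact hinv
    simp only [mem_centralizer_singleton_iff]
    constructor
    · intro h
      have h' : Commute c x⁻¹ := Commute.inv_right h
      have := congrArg (MulAut.conj u) h'.eq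
      simpa [map_mul, map_inv, hinv] using this
    · intro h
      have h' : Commute (u * c * u⁻¹) x⁻¹ := Commute.inv_right h
      have := congrArg (MulAut.conj u⁻¹) h'.eq
      simpa [map_mul, map_inv, hx', mul_assoc] using this
  · intro h
    have hc := mem_centralizer_singleton_iff.mp h
    apply hx2
    rw [hc, mul_inv_cancel_right] at hinv
    exact eq_inv_iff_mul_eq_one.mp hinv

omit [Finite G] in
theorem mem_normalizer_inf_stabilizer {K : Subgroup G} {g : G} (hgK : g ∈ normalizer (K : Set G)) {a : G ⧸ H}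
    (hga : g • a = a) : g ∈ normalizer ((K ⊓ MulAction.stabilizer G a : Subgroup G) : Set G) := by
  rw [Subgroup.mem_normalizer_iff]
  intro k
  have hga' : g⁻¹ • a = a := inv_smul_eq_iff.mpr hga.symm
  simp only [mem_inf, MulAction.mem_stabilizer_iff, ← Subgroup.mem_normalizer_iff.mp hgK k]
  refine and_congr_right fun _ => ⟨fun h => ?_, fun h => ?_⟩
  · rw [mul_smul, mul_smul, hga', h, hga]
  · rw [mul_smul, mul_smul, hga', ← eq_inv_smul_iff, hga'] at h
    exact h

/-- an element fixing a coset modulo `K ⊓ Gₐ` whose centraliser fixes `a`: the coset is trivial. -/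
theorem mem_stabilizer_of_coset_fix {K : Subgroup G} {g : G} (hgK : g ∈ normalizer (K : Set G))
    (hcop : (orderOf g).Coprime (Nat.card K)) {a : G ⧸ H} (hga : g • a = a)
    (hC : ∀ c : G, Commute c g → c • a = a) {k : G} (hk : k ∈ K)
    (hfix : k⁻¹ * (g * k * g⁻¹) ∈ K ⊓ MulAction.stabilizer G a) : k • a = a := by
  set N := K ⊓ MulAction.stabilizer G a with hN
  have hgN := mem_normalizer_inf_stabilizer hgK hga
  let S : Subgroup G :=
    { carrier := {b | b ∈ normalizer (N : Set G) ∧ k⁻¹ * (b * k * b⁻¹) ∈ N}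
      one_mem' := ⟨one_mem _, by simp⟩
      mul_mem' := fun {b c} hb hc => ⟨mul_mem hb.1 hc.1, by
        have := mul_mem hb.2 ((Subgroup.mem_normalizer_iff.mp hb.1 _).mp hc.2)
        simpa [mul_assoc] using this⟩
      inv_mem' := fun {b} hb => ⟨inv_mem hb.1, by
        have := (Subgroup.mem_normalizer_iff.mp (inv_mem hb.1) _).mp (inv_mem hb.2)
        simpa [mul_assoc] using this⟩ }
  have hle : zpowers g ≤ S := zpowers_le.mpr ⟨hgN, hfix⟩
  obtain ⟨c, hc, hkc⟩ := Cfsg.Agent.Coprime.exists_centralizer_mem_coset (A := zpowers g) (K := K) (N := N)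
    (zpowers_le.mpr hgK) (by rwa [Nat.card_zpowers]) (Or.inl (Cfsg.Agent.Coprime.isSolvable_zpowers g))
    inf_le_left (fun b hb => (hle hb).1) hk (fun b hb => (hle hb).2)
  have hca : c • a = a := hC c (mem_centralizer_iff.mp hc.2 g (mem_zpowers g)).symm
  have h := hkc.2
  change (k⁻¹ * c) • a = a at h
  rw [mul_smul, hca, inv_smul_eq_iff] at h
  exact h.symm

/-- the case of a solvable subgroup. -/
theorem key_solvable (hH : Cfsg.IsStronglyEmbedded H) {x u : G} (hu : orderOf u = 2) (hxodd : Odd (orderOf x))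
    (hinv : u * x * u⁻¹ = x⁻¹) {a : G ⧸ H} (hua : u • a = a) (hxa : ∀ g : G, Commute g x → g • a = a)
    (K : Subgroup G) [Group.IsSolvable K] (hodd : Odd (Nat.card K)) (hcop : (orderOf x).Coprime (Nat.card K))
    (hxK : x ∈ normalizer (K : Set G)) (huK : u ∈ normalizer (K : Set G)) : K ≤ MulAction.stabilizer G a := by
  induction hn : Nat.card K using Nat.strong_induction_on generalizing K with
  | _ n ih =>
  subst hn
  by_cases hbot : K = ⊥
  · rw [hbot]; exact bot_le
  have hlt : ⁅K, K⁆ < K := by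
    refine lt_of_le_of_ne (Subgroup.commutator_le.mpr fun k hk l hl =>
      mul_mem (mul_mem (mul_mem hk hl) (inv_mem hk)) (inv_mem hl)) fun h => ?_
    haveI : Nontrivial K := (Subgroup.nontrivial_iff_ne_bot K).mpr hbot
    refine (Group.IsSolvable.commutator_lt_top_of_nontrivial (G := K)).ne ?_
    apply Subgroup.map_injective K.subtype_injective
    rw [← MonoidHom.range_eq_map, Subgroup.range_subtype, _root_.commutator_def, Subgroup.map_commutator,
      ← MonoidHom.range_eq_map, Subgroup.range_subtype, h]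
  haveI : Group.IsSolvable ↥⁅K, K⁆ := Cfsg.Agent.Coprime.isSolvable_of_le hlt.le inferInstance
  have hnorm : ∀ g ∈ normalizer (K : Set G), g ∈ normalizer ((⁅K, K⁆ : Subgroup G) : Set G) := fun g hg =>
    Cfsg.Agent.Coprime.mem_normalizer_of_map_conj (by
      rw [Subgroup.map_commutator, Cfsg.Agent.Coprime.map_conj_eq hg])
  have hdvd := Subgroup.card_dvd_of_le hlt.le
  have hsub : ⁅K, K⁆ ≤ MulAction.stabilizer G a :=
    ih _ (Nat.lt_of_le_of_ne (Nat.le_of_dvd Nat.card_pos hdvd)
        fun h => hlt.ne (Subgroup.eq_of_le_of_card_ge hlt.le h.ge))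
      ⁅K, K⁆ (hodd.of_dvd_nat hdvd) (Nat.Coprime.coprime_dvd_right hdvd hcop) (hnorm x hxK) (hnorm u huK) rfl
  obtain ⟨N, hN⟩ : ∃ N, N = K ⊓ MulAction.stabilizer G a := ⟨_, rfl⟩
  have hcomm : ∀ k ∈ K, ∀ l ∈ K, ⁅k, l⁆ ∈ N := fun k hk l hl =>
    have h := Subgroup.commutator_mem_commutator hk hl
    hN ▸ ⟨hlt.le h, hsub h⟩
  have hKN : ∀ g ∈ K, ∀ n ∈ N, g * n * g⁻¹ ∈ N := fun g hg n hn => by
    have := mul_mem (hcomm g hg n (hN.le hn).1) hn
    simpa [commutatorElement_def, mul_assoc] using this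
  have hxa' : x • a = a := hxa x (Commute.refl x)
  have hu2 := mul_self_of_orderOf_eq_two hu
  have hui : u⁻¹ = u := inv_eq_of_orderOf_eq_two hu
  have hucop : (orderOf u).Coprime (Nat.card K) := by rw [hu]; exact hodd.coprime_two_left
  have hCu : ∀ c : G, Commute c u → c • a = a := fun c hc =>
    se_fix_unique hH hu (by rw [← mul_smul, ← hc.eq, mul_smul, hua]) hua
  have huk : ∀ k ∈ K, k * (u * k * u⁻¹) ∈ N := by
    intro k hk
    have hk' : u * k * u⁻¹ ∈ K := (Subgroup.mem_normalizer_iff.mp huK k).mp hk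
    refine hN.ge ⟨mul_mem hk hk', mem_stabilizer_of_coset_fix huK hucop hua hCu (mul_mem hk hk') ?_⟩
    rw [← hN]
    have := hcomm _ (inv_mem hk') _ (inv_mem hk)
    simpa [commutatorElement_def, hui, mul_assoc, hu2,
      show ∀ r, u * (u * r) = r from fun r => by rw [← mul_assoc, hu2, one_mul]] using this
  intro k hk
  have hxN : x ∈ normalizer (N : Set G) := hN ▸ mem_normalizer_inf_stabilizer hxK hxa'
  have hl : x * k * x⁻¹ ∈ K := (Subgroup.mem_normalizer_iff.mp hxK k).mp hk
  have h1 : (x * k * x⁻¹) * (x⁻¹ * (u * k * u⁻¹) * x) ∈ N := by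
    have := huk _ hl
    rwa [show u * (x * k * x⁻¹) * u⁻¹ = (u * x * u⁻¹) * (u * k * u⁻¹) * (u * x * u⁻¹)⁻¹ by group, hinv,
      inv_inv] at this
  have h2 : (x⁻¹ * k * x) * (x⁻¹ * (u * k * u⁻¹) * x) ∈ N := by
    have := (Subgroup.mem_normalizer_iff.mp (inv_mem hxN) _).mp (huk k hk)
    simpa [mul_assoc] using this
  have h3 : (x * x) * k * (x * x)⁻¹ * k⁻¹ ∈ N := by
    have := (Subgroup.mem_normalizer_iff.mp hxN _).mp (mul_mem h1 (inv_mem h2))
    simpa [mul_assoc] using this
  have h4 : k⁻¹ * ((x * x) * k * (x * x)⁻¹) ∈ N := by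
    have := hKN _ (inv_mem hk) _ h3
    simpa [mul_assoc] using this
  refine mem_stabilizer_of_coset_fix (g := x * x) (mul_mem hxK hxK) ?_ (by rw [mul_smul, hxa', hxa'])
    (fun c hc => hxa c ?_) hk (hN.le h4)
  · exact Nat.Coprime.coprime_dvd_left (orderOf_dvd_of_mem_zpowers (mul_mem (mem_zpowers x) (mem_zpowers x))) hcop
  · obtain ⟨m, hm⟩ := hxodd
    have hx : (x * x) ^ (m + 1) = x := by
      rw [← sq, ← pow_mul, show 2 * (m + 1) = orderOf x + 1 by omega, pow_succ, pow_orderOf_eq_one, one_mul]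
    rw [← hx]
    exact hc.pow_right _

/-- KEY: odd subgroups of order prime to `orderOf x` normalised by `x` and `u` fix the point of `u`. -/
theorem key (hH : Cfsg.IsStronglyEmbedded H) {x u : G} (hu : orderOf u = 2) (hxodd : Odd (orderOf x))
    (hinv : u * x * u⁻¹ = x⁻¹) {a : G ⧸ H} (hua : u • a = a) (hxa : ∀ g : G, Commute g x → g • a = a)
    (K : Subgroup G) (hodd : Odd (Nat.card K)) (hcop : (orderOf x).Coprime (Nat.card K))
    (hxK : x ∈ normalizer (K : Set G)) (huK : u ∈ normalizer (K : Set G)) : K ≤ MulAction.stabilizer G a := by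
  set A : Subgroup G := zpowers x ⊔ zpowers u with hA
  have hun : zpowers u ≤ normalizer (zpowers x : Set G) := by
    rw [zpowers_le]
    refine Cfsg.Agent.Coprime.mem_normalizer_of_map_conj ?_
    rw [MonoidHom.map_zpowers]
    simp [hinv]
  have hdisj : zpowers x ⊓ zpowers u = ⊥ := Cfsg.Agent.Coprime.inf_eq_bot (by
    rw [Nat.card_zpowers, Nat.card_zpowers, hu]; exact hxodd.coprime_two_right)
  have hcard : Nat.card A = orderOf x * 2 := by
    rw [hA, Cfsg.Agent.Coprime.card_sup hun hdisj, Nat.card_zpowers, Nat.card_zpowers, hu]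
  have hAK : A ≤ normalizer (K : Set G) := sup_le (zpowers_le.mpr hxK) (zpowers_le.mpr huK)
  have hAcop : (Nat.card A).Coprime (Nat.card K) := by
    rw [hcard]; exact Nat.Coprime.mul_left hcop hodd.coprime_two_left
  have hAs : Group.IsSolvable A := H40.isSolvable_sup hun (Cfsg.Agent.Coprime.isSolvable_zpowers x)
    (Cfsg.Agent.Coprime.isSolvable_zpowers u)
  refine Cfsg.Agent.Coprime.le_of_exists_sylow_le fun q hq => ?_
  haveI := Fact.mk hq
  obtain ⟨P, hP⟩ := Cfsg.Agent.Coprime.exists_invariant_sylow hAK hAcop (Or.inl hAs) q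
  refine ⟨P, ?_⟩
  haveI : Group.IsNilpotent ↥((P : Subgroup K).map K.subtype) := (P.2.map K.subtype).isNilpotent
  have hdvd := Subgroup.card_dvd_of_le (Subgroup.map_subtype_le (P : Subgroup K))
  exact key_solvable hH hu hxodd hinv hua hxa _ (hodd.of_dvd_nat hdvd) (Nat.Coprime.coprime_dvd_right hdvd hcop)
    (hP (mem_sup_left (mem_zpowers x))) (hP (mem_sup_right (mem_zpowers u)))

/-- KEY for a special element: inverted by `u` and centralised by an involution. -/
theorem key_special (hH : Cfsg.IsStronglyEmbedded H) {x u v : G} (hu : orderOf u = 2) (hxodd : Odd (orderOf x))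
    (hx1 : x ≠ 1) (hinv : u * x * u⁻¹ = x⁻¹) (hv : orderOf v = 2) (hvx : Commute v x) {a : G ⧸ H}
    (hua : u • a = a) (K : Subgroup G) (hodd : Odd (Nat.card K)) (hcop : (orderOf x).Coprime (Nat.card K))
    (hxK : x ∈ normalizer (K : Set G)) (huK : u ∈ normalizer (K : Set G)) : K ≤ MulAction.stabilizer G a := by
  refine key hH hu hxodd hinv hua (fun g hg => centralizer_fixes_of_inverted hH hu hinv (fun h => ?_) hv hvx hua hg)
    K hodd hcop hxK huK
  have hd : orderOf x ∣ 2 := orderOf_dvd_of_pow_eq_one (by rw [sq, h])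
  rcases (Nat.dvd_prime Nat.prime_two).mp hd with h1 | h1
  · exact hx1 (orderOf_eq_one_iff.mp h1)
  · rw [h1] at hxodd; exact absurd hxodd (by decide)

end Cfsg.Agent.Cores.SE
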