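import Cfsg.Agent.Cores.SE.Pair
import Cfsg.Agent.H39.StronglyEmbedded
import Cfsg.Agent.Coprime.Generation

/-!
Point facts for a strongly embedded subgroup: an involution outside a normalised subgroup fixes the
point of every involution inside it, an odd subgroup normalised by a four-group fixes its point, and
an inverted quadratic element fixes the point of the inverting four-group.
-/

set_option autoImplicit false
set_option linter.style.haveILetI false

namespace Cfsg.Agent.Cores.SE

open Subgroup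
open Cfsg.Agent.H39

variable {G : Type*} [Group G] [Finite G] {H : Subgroup G}

/-- SINGLE: if the involution `j` normalises `C` and is outside it, every involution of `C` fixes
the point of `j`. -/
theorem single (hH : Cfsg.IsStronglyEmbedded H) {C : Subgroup G} {j t : G} (hj : orderOf j = 2)
    (hjN : j ∈ normalizer (C : Set G)) (hjC : j ∉ C) (ht : orderOf t = 2) (htC : t ∈ C) {a : G ⧸ H}
    (hja : j • a = a) : t • a = a := by
  rcases Nat.even_or_odd (orderOf (t * j)) with heven | hodd
  · obtain ⟨w, hw, -, hwj, hwt⟩ := exists_central_involution hj ht heven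
    have hwa : w • a = a := se_fix_unique hH hj (by rw [← mul_smul, ← hwj.eq, mul_smul, hja]) hja
    exact se_fix_unique hH hw (by rw [← mul_smul, hwt.eq, mul_smul, hwa]) hwa
  exfalso
  obtain ⟨k, hk, -, -, hkc⟩ := exists_conj_of_odd hj ht hodd
  have hkN : k ∈ normalizer (C : Set G) :=
    (Subgroup.zpowers_le.mpr (mul_mem (Subgroup.le_normalizer htC) hjN)) hk
  exact hjC ((Subgroup.mem_normalizer_iff.mp hkN _).mpr (hkc.symm ▸ htC))

/-- a subgroup with an involution, normalised by an outside involution, fixes that involution's point. -/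
theorem le_stabilizer_of_single (hH : Cfsg.IsStronglyEmbedded H) {C : Subgroup G} {j t : G} (hj : orderOf j = 2)
    (hjN : j ∈ normalizer (C : Set G)) (hjC : j ∉ C) (ht : orderOf t = 2) (htC : t ∈ C) {a : G ⧸ H}
    (hja : j • a = a) {g : G} (hg : g ∈ normalizer (C : Set G)) : g • a = a := by
  have hta := single hH hj hjN hjC ht htC hja
  have hconj : orderOf (g⁻¹ * t * g) = 2 := by
    have := orderOf_conj g⁻¹ t
    rw [inv_inv] at this
    rw [this, ht]
  have hmem : g⁻¹ * t * g ∈ C := by
    simpa using (Subgroup.mem_normalizer_iff.mp (inv_mem hg) t).mp htC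
  have h := single hH hj hjN hjC hconj hmem hja
  rw [mul_smul, mul_smul, inv_smul_eq_iff] at h
  exact se_fix_unique hH ht h hta

omit [Finite G] in
theorem mul_ne_one_of_ne {u v : G} (hv : orderOf v = 2) (huv : u ≠ v) : u * v ≠ 1 := fun h =>
  huv (by rw [eq_inv_of_mul_eq_one_left h, inv_eq_of_orderOf_eq_two hv])

/-- an odd subgroup normalised by a four-group fixes the point of the four-group. -/
theorem four_odd_fix (hH : Cfsg.IsStronglyEmbedded H) {K : Subgroup G} (hodd : Odd (Nat.card K))
    {u v : G} (hu : orderOf u = 2) (hv : orderOf v = 2) (huv : u ≠ v) (hc : Commute u v)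
    (huK : u ∈ normalizer (K : Set G)) (hvK : v ∈ normalizer (K : Set G)) {a : G ⧸ H}
    (hua : u • a = a) (hva : v • a = a) {g : G} (hg : g ∈ K) : g • a = a := by
  set A : Subgroup G := zpowers u ⊔ zpowers v with hA
  have hAeq : A = closure ({u, v} : Set G) := by
    rw [hA, zpowers_eq_closure, zpowers_eq_closure, ← Subgroup.closure_union, Set.singleton_union]
  haveI : IsMulCommutative A := by
    rw [hAeq]
    exact Subgroup.isMulCommutative_closure (by
      rintro x (rfl | rfl) y (rfl | rfl) <;> first | rfl | exact hc.eq | exact hc.eq.symm)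
  have hu2 := mul_self_of_orderOf_eq_two hu
  have hv2 := mul_self_of_orderOf_eq_two hv
  have hu3 : ∀ r, u * (u * r) = r := fun r => by rw [← mul_assoc, hu2, one_mul]
  have hv3 : ∀ r, v * (v * r) = r := fun r => by rw [← mul_assoc, hv2, one_mul]
  have hvu : v * u = u * v := hc.eq.symm
  have hvu' : ∀ r, v * (u * r) = u * (v * r) := fun r => by rw [← mul_assoc, hvu, mul_assoc]
  have hmem : ∀ x ∈ A, x = 1 ∨ x = u ∨ x = v ∨ x = u * v := by
    intro x hx
    rw [hAeq] at hx
    induction hx using Subgroup.closure_induction with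
    | mem y hy => rcases hy with rfl | rfl <;> simp
    | one => simp
    | mul y z _ _ h h' =>
      rcases h with rfl | rfl | rfl | rfl <;> rcases h' with rfl | rfl | rfl | rfl <;>
        simp [hu2, hv2, hu3, hvu, hvu', mul_assoc]
    | inv y _ h =>
      rcases h with rfl | rfl | rfl | rfl <;>
        simp [inv_eq_of_orderOf_eq_two hu, inv_eq_of_orderOf_eq_two hv, hvu]
  have huA : u ∈ A := mem_sup_left (mem_zpowers u)
  have hvA : v ∈ A := mem_sup_right (mem_zpowers v)
  have hsq : ∀ x : A, x * x = 1 := fun x => Subtype.ext (by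
    rcases hmem x x.2 with h | h | h | h <;> simp [h, hu2, hv2, hvu', mul_assoc])
  have hp : IsPGroup 2 A := fun x => ⟨1, by rw [pow_one, sq, hsq]⟩
  have hncyc : ¬ IsCyclic A := by
    rintro ⟨g, hg⟩
    have hcase : ∀ x : A, x = 1 ∨ x = g := fun x => by
      obtain ⟨k, rfl⟩ := hg x
      have hg2 : g ^ (2 : ℤ) = 1 := by rw [zpow_two]; exact hsq g
      rcases Int.even_or_odd k with ⟨m, rfl⟩ | ⟨m, rfl⟩
      · exact Or.inl (by simp only [← two_mul, zpow_mul, hg2, one_zpow])
      · exact Or.inr (by simp only [zpow_add, zpow_mul, hg2, one_zpow, one_mul, zpow_one])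
    have h1 : ∀ x : G, orderOf x = 2 → ∀ hx : x ∈ A, (⟨x, hx⟩ : A) = g := fun x hx hxA =>
      (hcase _).resolve_left fun h => by
        have h' : x = 1 := congrArg Subtype.val h
        rw [h', orderOf_one] at hx
        exact absurd hx (by norm_num)
    exact huv (congrArg Subtype.val ((h1 u hu huA).trans (h1 v hv hvA).symm))
  obtain ⟨n, hn⟩ := IsPGroup.iff_card.mp hp
  have hcop : (Nat.card A).Coprime (Nat.card K) := hn ▸ hodd.coprime_two_left.pow_left n
  refine Cfsg.Agent.Coprime.le_of_centralizer_noncyclic_le (A := A) (M := MulAction.stabilizer G a) hncyc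
    (sup_le (zpowers_le.mpr huK) (zpowers_le.mpr hvK)) hcop ?_ hg
  intro x hx hx1 k hk
  have hx2 : orderOf x = 2 ∧ x • a = a := by
    rcases hmem x hx with rfl | rfl | rfl | rfl
    · exact absurd rfl hx1
    · exact ⟨hu, hua⟩
    · exact ⟨hv, hva⟩
    · refine ⟨orderOf_eq_two_of_mul_self ?_ hx1, by rw [mul_smul, hva, hua]⟩
      rw [mul_assoc, ← mul_assoc v, ← hc.eq, mul_assoc, mul_self_of_orderOf_eq_two hv, mul_one,
        mul_self_of_orderOf_eq_two hu]
  have hkx : x * k = k * x := mem_centralizer_iff.mp hk.2 x rfl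
  exact se_fix_unique hH hx2.1 (by rw [← mul_smul, hkx, mul_smul, hx2.2]) hx2.2

omit [Finite G] in
theorem conj_involution_iff {u x : G} (hu : u * u = 1) : u * x * u = x ↔ Commute x u := by
  have hi : u⁻¹ = u := inv_eq_of_mul_eq_one_right hu
  constructor
  · intro h
    have := congrArg (u * ·) h
    simp only [← mul_assoc, hu, one_mul] at this
    exact this
  · intro h
    rw [mul_assoc, h.eq, ← mul_assoc, hu, one_mul]

/-- an even subgroup normalised by an involution has even centraliser. -/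
theorem even_card_inf_centralizer {K : Subgroup G} {u : G} (hu : u * u = 1)
    (huK : u ∈ normalizer (K : Set G)) (heven : Even (Nat.card K)) :
    Even (Nat.card (K ⊓ centralizer {u} : Subgroup G)) := by
  classical
  have hi : u⁻¹ = u := inv_eq_of_mul_eq_one_right hu
  haveI := Fintype.ofFinite K
  let f : Function.End K := fun x => ⟨u * x * u, by
    simpa [hi] using (Subgroup.mem_normalizer_iff.mp huK _).mp x.2⟩
  have hf : f ^ 2 ^ 1 = 1 := by
    rw [pow_one, pow_two]
    funext x
    apply Subtype.ext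
    change u * (u * (x : G) * u) * u = x
    simp only [mul_assoc, hu, mul_one]
    rw [← mul_assoc, hu, one_mul]
  have h := Equiv.Perm.card_fixedPoints_modEq (p := 2) hf
  have hcard : Fintype.card f.fixedPoints = Nat.card (K ⊓ centralizer {u} : Subgroup G) := by
    rw [← Nat.card_eq_fintype_card]
    refine Nat.card_congr
      { toFun := fun x => ⟨x.1.1, x.1.2, mem_centralizer_singleton_iff.mpr
          ((conj_involution_iff hu).mp (congrArg Subtype.val x.2)).eq⟩
        invFun := fun x => ⟨⟨x.1, x.2.1⟩, Subtype.ext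
          ((conj_involution_iff hu).mpr (mem_centralizer_singleton_iff.mp x.2.2))⟩
        left_inv := fun x => rfl
        right_inv := fun x => rfl }
  rw [hcard, ← Nat.card_eq_fintype_card] at h
  rw [Nat.even_iff] at heven ⊢
  exact Eq.trans h.symm heven

/-- an even subgroup normalised by commuting involutions has an involution commuting with both. -/
theorem exists_involution_commute {K : Subgroup G} {u v : G} (hu : u * u = 1) (hv : v * v = 1)
    (hc : Commute u v) (huK : u ∈ normalizer (K : Set G)) (hvK : v ∈ normalizer (K : Set G))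
    (heven : Even (Nat.card K)) : ∃ t ∈ K, orderOf t = 2 ∧ Commute t u ∧ Commute t v := by
  have h1 := even_card_inf_centralizer hu huK heven
  have hvN : v ∈ normalizer ((K ⊓ centralizer {u} : Subgroup G) : Set G) := by
    rw [Subgroup.mem_normalizer_iff]
    intro x
    have hcv : Commute v⁻¹ u := hc.symm.inv_left
    simp only [mem_inf, mem_centralizer_singleton_iff, ← Subgroup.mem_normalizer_iff.mp hvK x]
    refine and_congr_right fun _ => ⟨fun h => ?_, fun h => ?_⟩
    · exact ((hc.symm.mul_left h).mul_left hcv).eq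
    · have : Commute (v⁻¹ * (v * x * v⁻¹) * v) u := (hcv.mul_left h).mul_left hc.symm
      simpa [mul_assoc] using this.eq
  have h2 := even_card_inf_centralizer hv hvN h1
  obtain ⟨t, ht⟩ := exists_prime_orderOf_dvd_card' 2 (even_iff_two_dvd.mp h2)
  exact ⟨t, t.2.1.1, by rw [Subgroup.orderOf_coe, ht], mem_centralizer_singleton_iff.mp t.2.1.2,
    mem_centralizer_singleton_iff.mp t.2.2⟩

section Quadratic

variable {A : Type*} [AddCommGroup A] {Γ : Subgroup G} (ρ : Γ →* AddMonoid.End A)

omit [Finite G] in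
theorem rho_inv_apply {g : Γ} {w w' : A} (h : ρ g w = w') : ρ g⁻¹ w' = w := by
  rw [← h]
  change (ρ g⁻¹ * ρ g) w = w
  rw [← map_mul, inv_mul_cancel, map_one]
  rfl

omit [Finite G] in
theorem rho_mul_apply (g h : Γ) (w : A) : ρ (g * h) w = ρ g (ρ h w) := by rw [map_mul]; rfl

/-- if `z ≠ 0` is fixed by `y` and the involution `i`, and negated by the involution `j`, then `y` fixes
the point of `j`. -/
theorem fixes_of_fixed_vector (hH : Cfsg.IsStronglyEmbedded H) (h2 : ∀ w : A, w + w = 0 → w = 0)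
    {i j y : Γ} (hi : orderOf (i : G) = 2) (hj : orderOf (j : G) = 2) {a : G ⧸ H} (hja : (j : G) • a = a)
    {z : A} (hz : z ≠ 0) (hiz : ρ i z = z) (hjz : ρ j z = -z) (hyz : ρ y z = z) : (y : G) • a = a := by
  let C : Subgroup Γ :=
    { carrier := {g | ρ g z = z}
      one_mem' := by simp
      mul_mem' := fun {g h} hg hh => by
        simp only [Set.mem_ofPred_eq] at *
        rw [rho_mul_apply, hh, hg]
      inv_mem' := fun {g} hg => rho_inv_apply ρ hg }
  have hjC : (j : G) ∉ C.map Γ.subtype := by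
    rintro ⟨g, hg, hgj⟩
    obtain rfl : g = j := Subtype.ext hgj
    exact hz (h2 z (add_eq_zero_iff_eq_neg.mpr (by rw [← hjz]; exact hg.symm)))
  have hjN : j ∈ normalizer (C : Set Γ) := by
    rw [Subgroup.mem_normalizer_iff]
    intro g
    have hj' : ρ j⁻¹ z = -z := by
      have := rho_inv_apply ρ hjz
      rw [map_neg, neg_eq_iff_eq_neg] at this
      exact this
    show ρ g z = z ↔ ρ (j * g * j⁻¹) z = z
    rw [rho_mul_apply, rho_mul_apply, hj', map_neg, map_neg]
    constructor
    · intro h; rw [h, hjz, neg_neg]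
    · intro h
      have h' := rho_inv_apply ρ (neg_eq_iff_eq_neg.mp h)
      rw [map_neg, hj', neg_neg] at h'
      exact h'.symm
  refine le_stabilizer_of_single hH hj ?_ hjC hi ⟨i, hiz, rfl⟩ hja (Subgroup.le_normalizer ⟨y, hyz, rfl⟩)
  exact (le_normalizer_map Γ.subtype) ⟨j, hjN, rfl⟩

/-- PROP Q: an element inverted by `u` and quadratic on an odd abelian group on which the four-group
`⟨u, v⟩` is nontrivial fixes the point of this four-group. -/
theorem quadratic_fixes [Finite A] (hH : Cfsg.IsStronglyEmbedded H) (hodd : Odd (Nat.card A))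
    {u v y : Γ} (hu : orderOf (u : G) = 2) (hv : orderOf (v : G) = 2) (huv : u ≠ v) (hc : Commute u v)
    (hinv : u * y * u⁻¹ = y⁻¹) (hq : (ρ y - 1) * (ρ y - 1) = 0) (hne : ρ u ≠ 1 ∨ ρ v ≠ 1)
    {a : G ⧸ H} (hua : (u : G) • a = a) (hva : (v : G) • a = a) : (y : G) • a = a := by
  have huo : u * u = 1 := Subtype.ext (mul_self_of_orderOf_eq_two hu)
  have hvo : v * v = 1 := Subtype.ext (mul_self_of_orderOf_eq_two hv)
  have hvi : v⁻¹ = v := inv_eq_of_mul_eq_one_right hvo
  have hui : u⁻¹ = u := inv_eq_of_mul_eq_one_right huo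
  set L : Subgroup Γ := closure {y, v * y * v⁻¹} with hL
  have hinv' : u * (v * y * v⁻¹) * u⁻¹ = (v * y * v⁻¹)⁻¹ := by
    rw [show u * (v * y * v⁻¹) * u⁻¹ = (u * v) * y * (u * v)⁻¹ by group, hc.eq,
      show (v * u) * y * (v * u)⁻¹ = v * (u * y * u⁻¹) * v⁻¹ by group, hinv]
    group
  have hyL : y ∈ L := subset_closure (Set.mem_insert _ _)
  have hy'L : v * y * v⁻¹ ∈ L := subset_closure (Set.mem_insert_of_mem _ rfl)
  have norm : ∀ x : Γ, x * x = 1 → x * y * x⁻¹ ∈ L → x * (v * y * v⁻¹) * x⁻¹ ∈ L → x ∈ normalizer (L : Set Γ) := by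
    intro x hx h1 h2
    have hle : L ≤ L.comap (MulAut.conj x).toMonoidHom :=
      (closure_le _).mpr (by rintro z (rfl | rfl) <;> simpa using by assumption)
    rw [Subgroup.mem_normalizer_iff]
    refine fun g => ⟨fun hg => by simpa using hle hg, fun hg => ?_⟩
    have := hle hg
    simpa [mem_comap, inv_eq_of_mul_eq_one_right hx, mul_assoc, hx,
      show x * (x * g) = g by rw [← mul_assoc, hx, one_mul]] using this
  have huL : u ∈ normalizer (L : Set Γ) :=
    norm u huo (hinv ▸ inv_mem hyL) (hinv' ▸ inv_mem hy'L)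
  have hvL : v ∈ normalizer (L : Set Γ) := norm v hvo hy'L (by
    rw [show v * (v * y * v⁻¹) * v⁻¹ = (v * v) * y * (v * v)⁻¹ by group, hvo]
    simpa using hyL)
  rcases Nat.even_or_odd (Nat.card L) with heven | hLodd
  swap
  · refine four_odd_fix hH (K := L.map Γ.subtype) ?_ hu hv (fun h => huv (Subtype.ext h))
      (congrArg Subtype.val hc.eq) ?_ ?_ hua hva ⟨y, hyL, rfl⟩
    · rwa [Subgroup.card_map_of_injective Γ.subtype_injective]
    · exact (le_normalizer_map Γ.subtype) ⟨u, huL, rfl⟩
    · exact (le_normalizer_map Γ.subtype) ⟨v, hvL, rfl⟩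
  obtain ⟨t, htL, ht, htu, htv⟩ := exists_involution_commute huo hvo hc huL hvL heven
  have hto : orderOf (t : G) = 2 := by rw [Subgroup.orderOf_coe, ht]
  have hto' : t * t = 1 := mul_self_of_orderOf_eq_two ht
  have h2A : ∀ w : A, w + w = 0 → w = 0 := fun w hw =>
    AddMonoid.addOrderOf_eq_one_iff.mp (Nat.eq_one_of_dvd_coprimes hodd.coprime_two_left
      (addOrderOf_dvd_of_nsmul_eq_zero (by rw [two_nsmul]; exact hw)) (addOrderOf_dvd_natCard w))
  have h2E : ∀ r : AddMonoid.End A, r + r = 0 → r = 0 := fun r hr =>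
    DFunLike.ext _ _ fun w => h2A _ (DFunLike.congr_fun hr w)
  have hta : (t : G) • a = a := se_fix_unique hH hu
    (by rw [← mul_smul, show (u : G) * t = t * u from congrArg Subtype.val htu.eq.symm, mul_smul, hua]) hua
  by_cases htriv : ρ t = 1
  · obtain ⟨x, hxρ, hx, hxa⟩ : ∃ x : Γ, ρ x ≠ 1 ∧ orderOf (x : G) = 2 ∧ (x : G) • a = a :=
      hne.elim (fun h => ⟨u, h, hu, hua⟩) (fun h => ⟨v, h, hv, hva⟩)
    let K : Subgroup G := ρ.ker.map Γ.subtype
    have hN : ∀ g : Γ, (g : G) ∈ normalizer (K : Set G) := fun g =>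
      (le_normalizer_map Γ.subtype) ⟨g, by rw [normalizer_eq_top_iff.mpr ρ.normal_ker]; exact mem_top _, rfl⟩
    refine le_stabilizer_of_single hH (C := K) hx (hN x) ?_ hto ⟨t, htriv, rfl⟩ hxa (hN y)
    rintro ⟨g, hg, hgx⟩
    obtain rfl : g = x := Subtype.ext hgx
    exact hxρ hg
  -- the unit version of the action
  let φ := ρ.toHomUnits
  have hqy' : (ρ (v * y * v⁻¹) - 1) * (ρ (v * y * v⁻¹) - 1) = 0 := by
    have hv1 : ρ v * ρ v = 1 := by rw [← map_mul, hvo, map_one]
    have e : ρ (v * y * v⁻¹) - 1 = ρ v * (ρ y - 1) * ρ v := by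
      rw [map_mul, map_mul, hvi, mul_sub, sub_mul, mul_one, hv1]
    rw [e, show ρ v * (ρ y - 1) * ρ v * (ρ v * (ρ y - 1) * ρ v) =
      ρ v * ((ρ y - 1) * (ρ v * ρ v) * (ρ y - 1)) * ρ v by simp [mul_assoc], hv1, mul_one, hq, mul_zero, zero_mul]
  have hmem : φ t ∈ closure ({φ y, φ (v * y * v⁻¹)} : Set (AddMonoid.End A)ˣ) := by
    rw [← Set.image_pair, ← MonoidHom.map_closure]
    exact ⟨t, htL, rfl⟩
  have hcomm : Commute (ρ t) (ρ y) := by
    have := commute_of_sq_eq_one (y := φ y) (z := φ (v * y * v⁻¹)) (g := φ t) h2E hq hqy' hmem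
      (by rw [← map_mul, hto', map_one])
    exact congrArg Units.val this.eq
  have hut : u ≠ t := by
    rintro rfl
    apply htriv
    have hinvy : ρ u * ρ y * ρ u⁻¹ = ρ y⁻¹ := by rw [← map_mul, ← map_mul, hinv]
    rw [hcomm.eq, mul_assoc, ← map_mul, mul_inv_cancel, map_one, mul_one] at hinvy
    have hyy : ρ y * ρ y = 1 := by
      nth_rewrite 2 [hinvy]
      rw [← map_mul, mul_inv_cancel, map_one]
    have hy1 : ρ y = 1 := by
      refine (sub_eq_zero.mp (h2E _ ?_)).symm
      rw [← hq]
      simp only [mul_sub, sub_mul, hyy, one_mul, mul_one]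
      abel
    have hle : L ≤ ρ.ker := (closure_le _).mpr (by
      rintro z (rfl | rfl)
      · exact hy1
      · exact ρ.normal_ker.conj_mem y hy1 v)
    exact hle htL
  obtain ⟨w₁, hw₁, htw₁⟩ : ∃ w : A, w ≠ 0 ∧ ρ t w = -w := by
    obtain ⟨w₀, hw₀⟩ : ∃ w, ρ t w ≠ w := not_forall.mp fun h => htriv (DFunLike.ext _ _ h)
    refine ⟨ρ t w₀ - w₀, sub_ne_zero.mpr hw₀, ?_⟩
    rw [map_sub, ← rho_mul_apply, hto', map_one, neg_sub]
    rfl
  obtain ⟨w, hw, htw, hyw⟩ : ∃ w : A, w ≠ 0 ∧ ρ t w = -w ∧ ρ y w = w := by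
    by_cases h : ρ y w₁ = w₁
    · exact ⟨w₁, hw₁, htw₁, h⟩
    refine ⟨ρ y w₁ - w₁, sub_ne_zero.mpr h, ?_, ?_⟩
    · have hc' : ρ t (ρ y w₁) = ρ y (ρ t w₁) := DFunLike.congr_fun hcomm.eq w₁
      rw [map_sub, hc', htw₁, map_neg]
      abel
    · exact sub_eq_zero.mp (DFunLike.congr_fun hq w₁)
  have hyuw : ρ y (ρ u w) = ρ u w := by
    have e : y * u = u * y⁻¹ := by
      rw [← hinv, ← mul_assoc, ← mul_assoc, huo, one_mul, hui]
    rw [← rho_mul_apply, e, rho_mul_apply, rho_inv_apply ρ hyw]
  have htuw : ρ t (ρ u w) = -ρ u w := by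
    rw [← rho_mul_apply, htu.eq, rho_mul_apply, htw, map_neg]
  have huuw : ρ u (ρ u w) = w := by
    rw [← rho_mul_apply, huo, map_one]; rfl
  by_cases h : w + ρ u w = 0
  · have huw : ρ u w = -w := eq_neg_of_add_eq_zero_right h
    have hi : orderOf ((u * t : Γ) : G) = 2 := by
      rw [Subgroup.orderOf_coe]
      refine orderOf_eq_two_of_mul_self ?_ (mul_ne_one_of_ne ht hut)
      rw [mul_assoc, ← mul_assoc t, htu.eq, mul_assoc, hto', mul_one, huo]
    exact fixes_of_fixed_vector ρ hH h2A hi hto hta hw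
      (by rw [rho_mul_apply, htw, map_neg, huw, neg_neg]) htw hyw
  · exact fixes_of_fixed_vector ρ hH h2A hu hto hta h
      (by rw [map_add, huuw, add_comm]) (by rw [map_add, htw, htuw, neg_add]) (by rw [map_add, hyw, hyuw])

end Quadratic

end Cfsg.Agent.Cores.SE
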