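import Cfsg.Agent.Cores.SE.QuadraticPush
import Cfsg.Agent.Coprime.SE.Singleton
import Cfsg.Agent.Coprime.Action

/-!
THEOREM L: a maximal strongly embedded subgroup with trivial core whose Sylow `p`-subgroup fixes a
second point does not have characteristic `p`.
-/

set_option autoImplicit false
set_option linter.style.haveILetI false
set_option linter.unusedVariables false

namespace Cfsg.Agent.Cores.SE

open Subgroup
open Cfsg.Agent.H39
open Cfsg.Agent.Coprime.SE (atPoint map_conj_atPoint atPoint_le_stabilizer RankTwo)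

variable {G : Type*} [Group G] {H : Subgroup G}

/-- the base point. -/
local notation "o" => (QuotientGroup.mk (1 : G) : G ⧸ H)

theorem smul_base_iff {h : G} : h • o = o ↔ h ∈ H := by
  rw [MulAction.Quotient.smul_mk, QuotientGroup.eq, smul_eq_mul, mul_one, mul_one, inv_mem_iff]

theorem atPoint_base {N : Subgroup G} (hN : H ≤ normalizer (N : Set G)) : atPoint N o = N := by
  have hq : Quotient.out (o : G ⧸ H) ∈ H := by
    have h : (QuotientGroup.mk (Quotient.out (o : G ⧸ H)) : G ⧸ H) = o := Quotient.out_eq _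
    simpa using inv_mem (QuotientGroup.eq.mp h)
  exact Thompson.map_conj_of_mem_normalizer (hN hq)

theorem smul_mem_stabilizer_map {g : G} {z : G ⧸ H} {K : Subgroup G}
    (hK : K ≤ MulAction.stabilizer G z) :
    K.map (MulAut.conj g).toMonoidHom ≤ MulAction.stabilizer G (g • z) := by
  rintro _ ⟨k, hk, rfl⟩
  rw [MulAction.mem_stabilizer_iff]
  simp [mul_smul, MulAction.mem_stabilizer_iff.mp (hK hk)]

/-- the orbital of `(o, b)`. -/
def Adj (b x z : G ⧸ H) : Prop := ∃ g : G, g • o = x ∧ g • b = z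

/-- `y` is at distance at most `n` from `x`. -/
def Reach (b : G ⧸ H) : ℕ → G ⧸ H → G ⧸ H → Prop
  | 0, x, y => x = y
  | n + 1, x, y => Reach b n x y ∨ ∃ z, Adj b x z ∧ Reach b n z y

theorem Adj.smul {b x z : G ⧸ H} (h : Adj b x z) (g : G) : Adj b (g • x) (g • z) := by
  obtain ⟨k, rfl, rfl⟩ := h
  exact ⟨g * k, mul_smul _ _ _, mul_smul _ _ _⟩

theorem Reach.smul {b : G ⧸ H} : ∀ {n : ℕ} {x y : G ⧸ H}, Reach b n x y → ∀ g : G,
    Reach b n (g • x) (g • y)
  | 0, x, y, h, g => congrArg (g • ·) h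
  | n + 1, x, y, h, g => h.imp (fun h => Reach.smul h g)
      fun ⟨z, hz, h⟩ => ⟨g • z, hz.smul g, Reach.smul h g⟩

theorem Reach.snoc {b : G ⧸ H} : ∀ {n : ℕ} {x z y : G ⧸ H}, Reach b n x z → Adj b z y →
    Reach b (n + 1) x y
  | 0, x, z, y, h, hzy => Or.inr ⟨y, (show x = z from h) ▸ hzy, rfl⟩
  | n + 1, x, z, y, h, hzy => h.elim (fun h => Or.inl (Reach.snoc h hzy))
      fun ⟨w, hw, h⟩ => Or.inr ⟨w, hw, Reach.snoc h hzy⟩

theorem Reach.split {b : G ⧸ H} : ∀ {n : ℕ} {x y : G ⧸ H}, Reach b (n + 1) x y →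
    x = y ∨ ∃ z, Reach b n x z ∧ Adj b z y
  | 0, x, y, h => h.imp id fun ⟨z, hz, (h : z = y)⟩ => ⟨x, rfl, h ▸ hz⟩
  | n + 1, x, y, h => h.elim
      (fun h => (Reach.split h).imp id fun ⟨z, h, hz⟩ => ⟨z, Or.inl h, hz⟩)
      fun ⟨w, hw, h⟩ => (Reach.split h).elim
        (fun hwy => Or.inr ⟨x, Or.inl (reach_refl n x), hwy ▸ hw⟩)
        fun ⟨z, h, hz⟩ => Or.inr ⟨z, Or.inr ⟨w, hw, h⟩, hz⟩
where
  reach_refl : ∀ (n : ℕ) (x : G ⧸ H), Reach b n x x
  | 0, _ => rfl
  | n + 1, x => Or.inl (reach_refl n x)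

theorem Reach.trans {b : G ⧸ H} : ∀ {m n : ℕ} {x z y : G ⧸ H}, Reach b n x z → Reach b m z y →
    ∃ k, Reach b k x y
  | 0, n, x, z, y, h, h' => ⟨n, (show z = y from h') ▸ h⟩
  | m + 1, n, x, z, y, h, h' => h'.elim (fun h' => Reach.trans h h')
      fun ⟨w, hw, h'⟩ => Reach.trans (h.snoc hw) h'

theorem Reach.symm {b : G ⧸ H} (hs : ∀ x z, Adj b x z → Adj b z x) : ∀ {n : ℕ} {x y : G ⧸ H},
    Reach b n x y → Reach b n y x
  | 0, _, _, h => Eq.symm h
  | n + 1, _, _, h => h.elim (fun h => Or.inl (Reach.symm hs h))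
      fun ⟨_, hz, h⟩ => (Reach.symm hs h).snoc (hs _ _ hz)

variable [Finite G] {p : ℕ} [Fact p.Prime]

/-- Lemma Q, pair condition: two elements of conjugates of `V` at a common point generate an odd group. -/
theorem odd_pair_conj (hH : Cfsg.IsStronglyEmbedded H) (h2 : RankTwo G) (hp : p ≠ 2) {V : Subgroup G}
    (hVN : H ≤ normalizer (V : Set G)) (hV : IsPGroup p V) {x y : G ⧸ H}
    (hyx : atPoint V y ≤ MulAction.stabilizer G x) {a : G} (ha : a ∈ atPoint V y) {g : G}
    (hg : g • x = x) : Odd (Nat.card (closure ({a, g * a * g⁻¹} : Set G))) := by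
  have hb : g * a * g⁻¹ ∈ atPoint V (g • y) := by
    rw [← map_conj_atPoint hVN g y]; exact ⟨a, ha, rfl⟩
  by_cases hgy : g • y = y
  · rw [hgy] at hb
    have hle : closure ({a, g * a * g⁻¹} : Set G) ≤ atPoint V y :=
      (closure_le _).mpr (by rintro c (rfl | rfl) <;> assumption)
    obtain ⟨k, hk⟩ := IsPGroup.iff_card.mp ((hV.map (MulAut.conj (Quotient.out y)).toMonoidHom).to_le
      (show closure ({a, g * a * g⁻¹} : Set G) ≤ V.map _ from hle))
    rw [hk]
    exact ((Fact.out : p.Prime).odd_of_ne_two hp).pow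
  · have hgyx : atPoint V (g • y) ≤ MulAction.stabilizer G x := by
      rw [← map_conj_atPoint hVN g y]
      have h := smul_mem_stabilizer_map (g := g) hyx
      rwa [hg] at h
    have hodd := Coprime.SE.odd_card_atPoint_sup hH h2 hVN (Ne.symm hgy) (e := x)
      fun c hc => MulAction.mem_stabilizer_iff.mp (sup_le hyx hgyx hc)
    refine hodd.of_dvd_nat (card_dvd_of_le ((closure_le _).mpr ?_))
    rintro c (rfl | rfl)
    · exact mem_sup_left ha
    · exact mem_sup_right hb

/-- THEOREM L. -/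
theorem pCore_eq_bot_of_sylow_fixes (hH : Cfsg.IsStronglyEmbedded H) (h2 : RankTwo G)
    (hmax : IsCoatom H) (hcore : H.normalCore = ⊥) (S : Sylow p H) {b : G ⧸ H}
    (hb : b ≠ (QuotientGroup.mk (1 : G) : G ⧸ H))
    (hS : ∀ s ∈ (S : Subgroup H), (s : G) • b = b)
    (hC : centralizer ((Cfsg.pCore p H : Subgroup H) : Set H) ≤ Cfsg.pCore p H) :
    Cfsg.pCore p H = ⊥ := by
  by_contra hP0
  set P : Subgroup G := (Cfsg.pCore p H).map H.subtype with hPdef
  have hPH : P ≤ H := map_subtype_le _
  have hPp : IsPGroup p P := Cores.pCore_isPGroup.map _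
  have hHnorm : ∀ K : Subgroup H, K.Normal → H ≤ normalizer ((K.map H.subtype : Subgroup G) : Set G) :=
    fun K hK g hg => le_normalizer_map H.subtype ⟨⟨g, hg⟩, by rw [normalizer_eq_top]; exact mem_top _, rfl⟩
  have hHP : H ≤ normalizer (P : Set G) := hHnorm _ inferInstance
  -- a `p`-subgroup of `H` normal modulo `centralizer M` lies in `S (centralizer M)`
  have hpush : ∀ (D M : Subgroup G), D ≤ H → H ≤ normalizer (D : Set G) → H ≤ normalizer (M : Set G) →
      (∀ d ∈ D, ∃ k : ℕ, d ^ p ^ k ∈ centralizer (M : Set G)) →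
      ∀ d ∈ D, ∃ s ∈ (S : Subgroup H), ∃ c ∈ centralizer (M : Set G), c ∈ H ∧ d = (s : G) * c := by
    intro D M hDH hHD hHM hD d hd
    set C : Subgroup H := (centralizer (M : Set G)).subgroupOf H with hC'
    have hCn : C.Normal := ⟨fun c hc g => by
      rw [hC', mem_subgroupOf, mem_centralizer_iff] at hc ⊢
      intro m hm
      have hm' : (g : G)⁻¹ * m * g ∈ M := by
        simpa using (Subgroup.mem_normalizer_iff.mp (inv_mem (hHM g.2)) m).mp hm
      have h := hc _ hm'
      calc m * ((g * c * g⁻¹ : H) : G) = g * (((g : G)⁻¹ * m * g) * c) * (g : G)⁻¹ := by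
            simp [mul_assoc]
        _ = g * ((c : G) * ((g : G)⁻¹ * m * g)) * (g : G)⁻¹ := by rw [h]
        _ = ((g * c * g⁻¹ : H) : G) * m := by simp [mul_assoc]⟩
    have hDn : (D.subgroupOf H).Normal := normal_subgroupOf_of_le_normalizer hHD
    have hDn' : ((D.subgroupOf H).map (QuotientGroup.mk' C)).Normal :=
      hDn.map _ (QuotientGroup.mk'_surjective C)
    have hle : (D.subgroupOf H).map (QuotientGroup.mk' C) ≤
        (S : Subgroup H).map (QuotientGroup.mk' C) := by
      rw [← Sylow.coe_mapSurjective (QuotientGroup.mk'_surjective C) S]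
      refine le_trans (Cores.le_pCore (hN := hDn') ?_) (Cores.pCore_le_sylow _)
      rintro ⟨_, e, he, rfl⟩
      obtain ⟨k, hk⟩ := hD e (mem_subgroupOf.mp he)
      refine ⟨k, Subtype.ext ?_⟩
      change QuotientGroup.mk' C e ^ p ^ k = 1
      rw [← map_pow]
      exact (QuotientGroup.eq_one_iff _).mpr (by simpa [hC', mem_subgroupOf] using hk)
    obtain ⟨s, hs, hse⟩ := hle ⟨⟨d, hDH hd⟩, mem_subgroupOf.mpr hd, rfl⟩
    obtain ⟨c, hc, hcd⟩ := (QuotientGroup.mk'_eq_mk' C).mp hse
    exact ⟨s, hs, c, hc, c.2, (congrArg Subtype.val hcd).symm⟩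
  -- the prime is odd
  have hp : p ≠ 2 := by
    rintro rfl
    have : Nontrivial (S : Subgroup H) := by
      rw [nontrivial_iff_ne_bot]
      exact fun h => hP0 (le_bot_iff.mp (h ▸ Cores.pCore_le_sylow S))
    obtain ⟨n, hn, hcard⟩ := S.isPGroup'.nontrivial_iff_card.mp this
    obtain ⟨t, ht⟩ := exists_prime_orderOf_dvd_card' (G := (S : Subgroup H)) 2
      (hcard ▸ dvd_pow_self 2 hn.ne')
    rw [← Subgroup.orderOf_coe, ← Subgroup.orderOf_coe] at ht
    exact hb (se_fix_unique hH ht (hS _ t.2) (smul_base_iff.mpr (t : H).2))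
  have hPb : P ≤ MulAction.stabilizer G b := by
    rintro _ ⟨s, hs, rfl⟩
    exact MulAction.mem_stabilizer_iff.mpr (hS _ (Cores.pCore_le_sylow S hs))
  -- the orbital is symmetric
  obtain ⟨j, hj, hjo⟩ : ∃ j : G, orderOf j = 2 ∧ j • o = b := by
    obtain ⟨t, ht, htH⟩ := se_exists_involution hH
    obtain ⟨i, hi, hit⟩ : ∃ i : G, orderOf i = 2 ∧ i • o = b := by
      have : Nonempty {i : G // orderOf i = 2 ∧ i • o = b} := by
        refine Finite.card_pos_iff.mp ?_
        rw [se_card_swap hH]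
        exact Finite.card_pos_iff.mpr ⟨⟨t, ht, htH⟩⟩
      obtain ⟨i, hi⟩ := Classical.arbitrary {i : G // orderOf i = 2 ∧ i • o = b}
      exact ⟨i, hi⟩
    exact ⟨i, hi, hit⟩
  have hs : ∀ x z, Adj b x z → Adj b z x := by
    rintro _ _ ⟨g, rfl, rfl⟩
    exact ⟨g * j, by rw [mul_smul, hjo], by rw [mul_smul, Coprime.SE.swap_symm hj hjo]⟩
  -- every point of the orbital is fixed by `P`
  have hPadj : ∀ x z, Adj b x z → atPoint P x ≤ MulAction.stabilizer G z := by
    rintro _ _ ⟨g, rfl, rfl⟩
    rw [← map_conj_atPoint hHP g, atPoint_base hHP]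
    exact smul_mem_stabilizer_map hPb
  -- a minimal normal subgroup in the centre of `P`
  obtain ⟨V, ⟨hV0, hVP, hVN, hVc⟩, hVmin⟩ := Set.Finite.exists_minimal
    (s := {V : Subgroup G | V ≠ ⊥ ∧ V ≤ P ∧ H ≤ normalizer (V : Set G) ∧ V ≤ centralizer (P : Set G)})
    (Set.toFinite _) (by
      refine ⟨((Subgroup.center ↥(Cfsg.pCore p H)).map (Cfsg.pCore p H).subtype).map H.subtype, ?_, ?_, ?_, ?_⟩
      · intro h
        rw [map_eq_bot_iff_of_injective _ H.subtype_injective,
          map_eq_bot_iff_of_injective _ (Cfsg.pCore p H).subtype_injective] at h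
        have : Nontrivial (Cfsg.pCore p H) := (nontrivial_iff_ne_bot _).mpr hP0
        exact (nontrivial_iff_ne_bot _).mp Cores.pCore_isPGroup.center_nontrivial h
      · exact Subgroup.map_mono (map_subtype_le _)
      · exact hHnorm _ inferInstance
      · rintro _ ⟨_, ⟨z, hz, rfl⟩, rfl⟩
        rw [mem_centralizer_iff]
        rintro _ ⟨q, hq, rfl⟩
        exact congrArg (fun c : Cfsg.pCore p H => ((c : H) : G)) (mem_center_iff.mp hz ⟨q, hq⟩))
  have hVH : V ≤ H := hVP.trans hPH
  have hVp : IsPGroup p V := hPp.to_le hVP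
  have hVcomm : ∀ y : G ⧸ H, ∀ u ∈ atPoint V y, ∀ v ∈ atPoint V y, Commute u v := by
    rintro y _ ⟨u, hu, rfl⟩ _ ⟨v, hv, rfl⟩
    exact (show Commute u v from (mem_centralizer_iff.mp (hVc hu) v (hVP hv)).symm).map _
  have hVy : ∀ y : G ⧸ H, atPoint V y ≤ MulAction.stabilizer G y := atPoint_le_stabilizer hVH
  have hnormV : ∀ {y : G ⧸ H} {g : G}, g • y = y → g ∈ normalizer (atPoint V y : Set G) := by
    intro y g hg
    refine Coprime.mem_normalizer_of_map_conj ?_
    rw [map_conj_atPoint hVN, hg]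
  have hVnot : normalizer (V : Set G) = H := by
    refine (hmax.le_iff.mp hVN).resolve_left fun h => hV0 (le_bot_iff.mp ?_)
    have : V.Normal := normalizer_eq_top_iff.mp h
    exact hcore ▸ (Subgroup.normal_le_normalCore.mpr hVH)
  have hinj : ∀ {y : G ⧸ H} {g : G}, g ∈ normalizer (atPoint V y : Set G) → g • y = y := by
    intro y g hg
    obtain ⟨k, rfl⟩ := MulAction.exists_smul_eq G o y
    have h1 := Thompson.map_conj_of_mem_normalizer hg
    rw [← map_conj_atPoint hVN k, atPoint_base hVN] at h1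
    have h2 : k⁻¹ * g * k ∈ normalizer (V : Set G) := by
      refine Coprime.mem_normalizer_of_map_conj ?_
      have h3 := congrArg (Subgroup.map (MulAut.conj k⁻¹).toMonoidHom) h1
      have e : ∀ K : Subgroup G, (K.map (MulAut.conj k).toMonoidHom).map (MulAut.conj k⁻¹).toMonoidHom = K :=
        fun K => by
          rw [Subgroup.map_map]
          convert Subgroup.map_id K using 2
          ext c; simp [mul_assoc]
      rw [e, Subgroup.map_map, Subgroup.map_map] at h3
      conv_rhs => rw [← h3]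
      refine congrArg (fun f => Subgroup.map f V) (MonoidHom.ext fun c => ?_)
      simp [mul_assoc]
    rw [hVnot, ← smul_base_iff, mul_smul, mul_smul, inv_smul_eq_iff] at h2
    exact h2
  -- STEP A: neighbours lie in the `p`-core
  have hA0 : ∀ y : G ⧸ H, Adj b o y → atPoint V y ≤ P := by
    intro y hy a ha
    have hyo : atPoint V y ≤ MulAction.stabilizer G o :=
      (Subgroup.map_mono hVP).trans (hPadj y _ (hs _ _ hy))
    have haH : a ∈ H := smul_base_iff.mp (MulAction.mem_stabilizer_iff.mp (hyo ha))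
    obtain ⟨D, hDH, hHD, haD, hD⟩ := exists_quadratic_push hp hPH hHP hPp haH ha
      (fun c hc => hVcomm y c hc a ha)
      (fun m hm => hnormV (MulAction.mem_stabilizer_iff.mp (hPadj o y hy (by rw [atPoint_base hHP]; exact hm))))
      (fun g hg => odd_pair_conj hH h2 hp hVN hVp hyo ha (smul_base_iff.mpr hg))
    have hDP : D.subgroupOf H ≤ Cfsg.pCore p H := by
      refine Cores.le_pCore (hN := normal_subgroupOf_of_le_normalizer hHD) ?_
      rintro ⟨d, hd⟩
      obtain ⟨k, hk⟩ := hD d (mem_subgroupOf.mp hd)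
      have hdP : d ^ p ^ k ∈ Cfsg.pCore p H := hC (mem_centralizer_iff.mpr fun m hm =>
        Subtype.ext (by simpa using mem_centralizer_iff.mp hk m ⟨m, hm, rfl⟩))
      obtain ⟨l, hl⟩ := Cores.pCore_isPGroup (p := p) ⟨_, hdP⟩
      refine ⟨k + l, Subtype.ext ?_⟩
      change d ^ p ^ (k + l) = 1
      rw [pow_add, pow_mul]
      exact congrArg Subtype.val hl
    exact ⟨⟨a, haH⟩, hDP (mem_subgroupOf.mpr haD), rfl⟩
  have hA : ∀ x y, Adj b x y → atPoint V y ≤ atPoint P x := by
    intro x y hxy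
    obtain ⟨g, rfl⟩ := MulAction.exists_smul_eq G o x
    have h : Adj b o (g⁻¹ • y) := by simpa using hxy.smul g⁻¹
    have h' := Subgroup.map_mono (f := (MulAut.conj g).toMonoidHom) ((hA0 _ h).trans (atPoint_base hHP).ge)
    rwa [map_conj_atPoint hVN, map_conj_atPoint hHP, smul_inv_smul] at h'
  -- STEP B: two copies fixing each other's point commute
  have hB0 : ∀ y : G ⧸ H, atPoint V y ≤ MulAction.stabilizer G o → V ≤ MulAction.stabilizer G y →
      ∀ a ∈ atPoint V y, ∀ v ∈ V, Commute a v := by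
    intro y hyo hoy a ha v hv
    have haH : a ∈ H := smul_base_iff.mp (MulAction.mem_stabilizer_iff.mp (hyo ha))
    obtain ⟨D, hDH, hHD, haD, hD⟩ := exists_quadratic_push hp hVH hVN hVp haH ha
      (fun c hc => hVcomm y c hc a ha)
      (fun m hm => hnormV (MulAction.mem_stabilizer_iff.mp (hoy hm)))
      (fun g hg => odd_pair_conj hH h2 hp hVN hVp hyo ha (smul_base_iff.mpr hg))
    obtain ⟨w, hwV, hw1, hwD⟩ := exists_vector_fixed (hDH.trans hVN) hVp hV0 hD
    have hle : V ≤ centralizer (D : Set G) := by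
      refine le_trans ?_ (inf_le_right (a := V))
      refine hVmin ⟨?_, inf_le_left.trans hVP, ?_, inf_le_left.trans hVc⟩ inf_le_left
      · exact fun h => hw1 (mem_bot.mp (h ▸ ⟨hwV, mem_centralizer_iff.mpr fun d hd => (hwD d hd).eq.symm⟩))
      · intro g hg
        refine Coprime.mem_normalizer_of_map_conj ?_
        have hgD := Thompson.map_conj_of_mem_normalizer (hHD hg)
        rw [Subgroup.map_inf _ _ _ (MulAut.conj g).injective, Thompson.map_conj_of_mem_normalizer (hVN hg)]
        congr 1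
        ext c
        constructor
        · rintro ⟨e, he, rfl⟩
          rw [mem_centralizer_iff]
          intro d hd
          rw [← hgD] at hd
          obtain ⟨d', hd', rfl⟩ := hd
          exact ((show Commute d' e from mem_centralizer_iff.mp he d' hd').map _).eq
        · intro hc
          refine ⟨g⁻¹ * c * g, mem_centralizer_iff.mpr fun d hd => ?_, by simp [mul_assoc]⟩
          have hd' : g * d * g⁻¹ ∈ D := (Subgroup.mem_normalizer_iff.mp (hHD hg) d).mp hd
          have h := mem_centralizer_iff.mp hc _ hd'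
          calc d * (g⁻¹ * c * g) = g⁻¹ * ((g * d * g⁻¹) * c) * g := by group
            _ = g⁻¹ * (c * (g * d * g⁻¹)) * g := by rw [h]
            _ = g⁻¹ * c * g * d := by group
    exact mem_centralizer_iff.mp (hle hv) a haD
  have hB : ∀ x y : G ⧸ H, atPoint V y ≤ MulAction.stabilizer G x → atPoint V x ≤ MulAction.stabilizer G y →
      ∀ a ∈ atPoint V y, ∀ v ∈ atPoint V x, Commute a v := by
    intro x y hyx hxy a ha v hv
    obtain ⟨g, rfl⟩ := MulAction.exists_smul_eq G o x
    have e1 : atPoint V y = (atPoint V (g⁻¹ • y)).map (MulAut.conj g).toMonoidHom := by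
      rw [map_conj_atPoint hVN, smul_inv_smul]
    have e2 : atPoint V (g • o) = V.map (MulAut.conj g).toMonoidHom := by
      rw [← map_conj_atPoint hVN g, atPoint_base hVN]
    rw [e1] at ha; rw [e2] at hv
    obtain ⟨a', ha', rfl⟩ := ha
    obtain ⟨v', hv', rfl⟩ := hv
    refine (hB0 (g⁻¹ • y) ?_ ?_ a' ha' v' hv').map _
    · rw [← map_conj_atPoint hVN g⁻¹ y]
      simpa using smul_mem_stabilizer_map (g := g⁻¹) hyx
    · conv_lhs => rw [← atPoint_base hVN]
      have h := smul_mem_stabilizer_map (g := g⁻¹) hxy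
      rw [map_conj_atPoint hVN, inv_smul_smul] at h
      exact h
  -- every copy fixes the balls around its point
  have hadj1 : ∀ x y, Adj b x y → atPoint V y ≤ MulAction.stabilizer G x := fun x y h =>
    (Subgroup.map_mono hVP).trans (hPadj y x (hs _ _ h))
  have hball : ∀ n x y, Reach b (n + 2) x y → atPoint V y ≤ MulAction.stabilizer G x := by
    intro n
    induction n with
    | zero =>
      rintro x y h
      rcases Reach.split h with rfl | ⟨z, hxz, hzy⟩
      · exact hVy x
      rcases Reach.split hxz with rfl | ⟨w, hwz, hadj⟩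
      · exact hadj1 _ _ hzy
      obtain rfl : x = w := hwz
      exact (hA z y hzy).trans (hPadj z x (hs _ _ hadj))
    | succ n ih =>
      intro x y h
      rcases h with h | ⟨w, hxw, h⟩
      · exact ih x y h
      -- push from `w` to its neighbour `x`
      rcases Reach.split h with rfl | ⟨z, hwz, hzy⟩
      · exact hadj1 _ _ hxw
      obtain ⟨g, rfl⟩ := MulAction.exists_smul_eq G o w
      suffices hkey : atPoint V (g⁻¹ • y) ≤ MulAction.stabilizer G (g⁻¹ • x) by
        have h' := smul_mem_stabilizer_map (g := g) hkey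
        rwa [map_conj_atPoint hVN, smul_inv_smul, smul_inv_smul] at h'
      have hox : Adj b o (g⁻¹ • x) := by simpa using (hs _ _ hxw).smul g⁻¹
      have hzy' : Adj b (g⁻¹ • z) (g⁻¹ • y) := hzy.smul g⁻¹
      have hoz : Reach b (n + 1) o (g⁻¹ • z) := by simpa using hwz.smul g⁻¹
      have hoy : Reach b (n + 2) o (g⁻¹ • y) := hoz.snoc hzy'
      generalize g⁻¹ • x = x', g⁻¹ • y = y', g⁻¹ • z = z' at hox hzy' hoz hoy
      clear h hwz hzy hxw
      intro a ha
      have haH : a ∈ H := smul_base_iff.mp (MulAction.mem_stabilizer_iff.mp (ih o y' hoy ha))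
      let U : Subgroup G := ⨆ u : {u : G ⧸ H // Adj b o u}, atPoint V u.1
      let A : Subgroup G := ⨆ u : {u : G ⧸ H // Adj b z' u}, atPoint V u.1
      have hUP : U ≤ P := iSup_le fun u => hA0 u.1 u.2
      have hHU : H ≤ normalizer (U : Set G) := fun k hk => Coprime.mem_normalizer_of_map_conj (by
        refine le_antisymm ?_ ?_
        · rw [Subgroup.map_iSup]
          refine iSup_le fun u => ?_
          rw [map_conj_atPoint hVN]
          exact le_iSup (fun u : {u : G ⧸ H // Adj b o u} => atPoint V u.1)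
            ⟨k • u.1, by simpa [smul_base_iff.mpr hk] using u.2.smul k⟩
        · refine iSup_le fun u => ?_
          rw [Subgroup.map_iSup]
          refine le_trans ?_ (le_iSup _ ⟨k⁻¹ • u.1, by
            simpa [inv_smul_eq_iff.mpr (smul_base_iff.mpr hk).symm] using u.2.smul k⁻¹⟩)
          rw [map_conj_atPoint hVN, smul_inv_smul])
      have hUA : U ≤ normalizer (A : Set G) := iSup_le fun u c hc => by
        have hreach : Reach b (n + 2) u.1 z' := Or.inr ⟨o, hs _ _ u.2, hoz⟩
        have hcz : c • z' = z' := MulAction.mem_stabilizer_iff.mp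
          (ih z' u.1 (Reach.symm hs hreach) hc)
        refine Coprime.mem_normalizer_of_map_conj (le_antisymm ?_ ?_)
        · rw [Subgroup.map_iSup]
          refine iSup_le fun v => ?_
          rw [map_conj_atPoint hVN]
          exact le_iSup (fun v : {v : G ⧸ H // Adj b z' v} => atPoint V v.1)
            ⟨c • v.1, by simpa [hcz] using v.2.smul c⟩
        · refine iSup_le fun v => ?_
          rw [Subgroup.map_iSup]
          refine le_trans ?_ (le_iSup _ ⟨c⁻¹ • v.1, by
            simpa [inv_smul_eq_iff.mpr hcz.symm] using v.2.smul c⁻¹⟩)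
          rw [map_conj_atPoint hVN, smul_inv_smul]
      have haA : a ∈ A := le_iSup (fun v : {v : G ⧸ H // Adj b z' v} => atPoint V v.1) ⟨y', hzy'⟩ ha
      have hAa : ∀ c ∈ A, Commute c a := by
        have hle : A ≤ centralizer {a} := iSup_le fun v c hc => by
          rw [mem_centralizer_singleton_iff]
          refine (hB y' v.1 ?_ ?_ c hc a ha).eq
          · exact (hA z' v.1 v.2).trans (hPadj z' y' hzy')
          · exact (hA z' y' hzy').trans (hPadj z' v.1 v.2)
        exact fun c hc => mem_centralizer_singleton_iff.mp (hle hc)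
      obtain ⟨D, hDH, hHD, haD, hD⟩ := exists_quadratic_push hp (hUP.trans hPH) hHU (hPp.to_le hUP) haH
        haA hAa hUA (fun k hk => odd_pair_conj hH h2 hp hVN hVp (ih o y' hoy) ha (smul_base_iff.mpr hk))
      -- `D` fixes every neighbour of `o`
      have hfix : ∀ d ∈ D, d • b = b := by
        intro d hd
        obtain ⟨s, hs', c, hc, -, rfl⟩ := hpush D U hDH hHD hHU hD d hd
        have hcb : c • b = b := by
          refine hinj (Coprime.mem_normalizer_of_map_conj ?_)
          have hbU : atPoint V b ≤ U :=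
            le_iSup (fun u : {u : G ⧸ H // Adj b o u} => atPoint V u.1)
              ⟨b, 1, one_smul _ _, one_smul _ _⟩
          ext e
          constructor
          · rintro ⟨e', he', rfl⟩
            simpa [← mem_centralizer_iff.mp hc e' (hbU he')] using he'
          · intro he
            refine ⟨e, he, ?_⟩
            simp [← mem_centralizer_iff.mp hc e (hbU he)]
        rw [mul_smul, hcb, hS s hs']
      obtain ⟨k, hko, rfl⟩ := hox
      have hk : k ∈ H := smul_base_iff.mp hko
      have hd' : k⁻¹ * a * k ∈ D := by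
        simpa using (Subgroup.mem_normalizer_iff.mp (inv_mem (hHD hk)) a).mp haD
      have h := hfix _ hd'
      rw [mul_smul, mul_smul, inv_smul_eq_iff] at h
      exact MulAction.mem_stabilizer_iff.mpr h
  -- the orbital graph is connected
  let R : Subgroup G :=
    { carrier := {g | ∃ n, Reach b n o (g • o)}
      one_mem' := ⟨0, (one_smul _ _).symm⟩
      mul_mem' := fun {g k} hg hk => by
        obtain ⟨n, hn⟩ := hg
        obtain ⟨m, hm⟩ := hk
        have hm' := hm.smul g
        rw [← mul_smul] at hm'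
        exact hn.trans hm'
      inv_mem' := fun {g} hg => by
        obtain ⟨n, hn⟩ := hg
        have h := (Reach.symm hs hn).smul g⁻¹
        rw [inv_smul_smul] at h
        exact ⟨n, h⟩ }
  have hRtop : R = ⊤ := by
    refine (hmax.le_iff.mp (fun h hh => ⟨0, (smul_base_iff.mpr hh).symm⟩ : H ≤ R)).resolve_right
      fun h => hb ?_
    have hjR : j ∈ R := ⟨1, Or.inr ⟨b, ⟨1, one_smul _ _, one_smul _ _⟩, hjo.symm⟩⟩
    rw [h] at hjR
    rw [← hjo]
    exact smul_base_iff.mpr hjR
  refine hV0 (le_bot_iff.mp ?_)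
  rw [← hcore]
  intro v hv g
  have hmem : ∀ x : G ⧸ H, v • x = x := fun x => by
    obtain ⟨k, rfl⟩ := MulAction.exists_smul_eq G o x
    obtain ⟨n, hn⟩ : k ∈ R := hRtop ▸ mem_top k
    refine MulAction.mem_stabilizer_iff.mp (hball n (k • o) o ?_ ((atPoint_base hVN).ge hv))
    exact Or.inl (Or.inl (Reach.symm hs hn))
  have h := hmem (g⁻¹ • o)
  refine smul_base_iff.mp ?_
  rw [mul_smul, mul_smul, h, smul_inv_smul]

end Cfsg.Agent.Cores.SE
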