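import Cfsg.Agent.Cores.SE.CoreWrapper

/-!
Inputs of the character count for the odd core of a point stabiliser: it may be assumed that the group
is generated by its involutions, and then every non-trivial normal subgroup is the whole group; a
`2`-singular element fixes one point; a product of two involutions which is a `2`-singular element of
a point stabiliser is an involution.
-/

set_option autoImplicit false
set_option linter.style.haveILetI false

namespace Cfsg.Agent.Cores.SE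

open Subgroup MulAction
open Cfsg.Agent.H39
open Cfsg.Agent.H73.Bender
open scoped commutatorElement

universe u v

variable {G : Type u} [Group G] {Ω : Type v} [MulAction G Ω] {S : Subgroup G} {C : Set Ω}

/-- The subgroup generated by the involutions of `S`. -/
def invClosure (S : Subgroup G) : Subgroup G := closure {t | t ∈ S ∧ orderOf t = 2}

theorem invClosure_le (S : Subgroup G) : invClosure S ≤ S :=
  (closure_le _).mpr fun _ h => h.1

theorem mem_invClosure {t : G} (ht : t ∈ S) (ht2 : orderOf t = 2) : t ∈ invClosure S :=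
  subset_closure ⟨ht, ht2⟩

theorem le_normalizer_invClosure (S : Subgroup G) : S ≤ normalizer (invClosure S : Set G) := by
  have hc : ∀ g ∈ S, (invClosure S).map (MulAut.conj g).toMonoidHom ≤ invClosure S := by
    intro g hg
    rw [invClosure, MonoidHom.map_closure, closure_le]
    rintro _ ⟨t, ⟨ht, ht2⟩, rfl⟩
    exact mem_invClosure (conj_mem_of_mem hg ht) (by simpa [orderOf_conj] using ht2)
  intro g hg
  exact Subgroup.mem_normalizer_iff.mpr fun n => ⟨fun hn => hc g hg ⟨n, hn, rfl⟩, fun hn => by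
    have h := hc g⁻¹ (inv_mem hg) ⟨_, hn, rfl⟩
    simpa [mul_assoc] using h⟩

variable [Finite G] [Finite Ω]

omit [Finite G] [Finite Ω] in
/-- A `2`-singular element of a point stabiliser fixes just the point. -/
theorem fixed_eq_of_even (hS : SE S C) {c : Ω} (hc : c ∈ C) {h : G} (hh : h ∈ S) (hhc : h • c = c)
    (heven : Even (orderOf h)) (hpos : orderOf h ≠ 0) {y : Ω} (hy : y ∈ C) (hhy : h • y = y) :
    y = c := by
  obtain ⟨k, hk⟩ := heven
  have hk' : orderOf h = k * 2 := by omega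
  have hi2 : orderOf (h ^ k) = 2 := by
    rw [orderOf_pow_of_dvd (by omega) ⟨2, hk'⟩, hk', Nat.mul_div_cancel_left _ (by omega)]
  exact hS.fix_unique (pow_mem hh k) hi2 hy hc
    (mem_stabilizer_iff.mp (pow_mem (mem_stabilizer_iff.mpr hhy) k))
    (mem_stabilizer_iff.mp (pow_mem (mem_stabilizer_iff.mpr hhc) k))

omit [Finite Ω] in
/-- A product of two involutions which is a `2`-singular element of a point stabiliser with
commuting involutions is an involution. -/
theorem orderOf_mul_eq_two (hS : SE S C) {c : Ω} (hc : c ∈ C)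
    (hcomm : ∀ s ∈ S, orderOf s = 2 → s • c = c → ∀ t ∈ S, orderOf t = 2 → t • c = c → Commute s t)
    {i j : G} (hi : i ∈ S) (hj : j ∈ S) (hi2 : orderOf i = 2) (hj2 : orderOf j = 2)
    (hfix : (i * j) • c = c) (heven : Even (orderOf (i * j))) : orderOf (i * j) = 2 := by
  obtain ⟨w, hw2, hwz, hwj, hwi⟩ := exists_central_involution hj2 hi2 heven
  have hw : w ∈ S := zpowers_le.mpr (mul_mem hi hj) hwz
  have hwc : w • c = c :=
    mem_stabilizer_iff.mp ((zpowers_le.mpr (mem_stabilizer_iff.mpr hfix) :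
      zpowers (i * j) ≤ stabilizer G c) hwz)
  have hcij : Commute i j := hcomm i hi hi2 (hS.fix_of_commute hi hw hw2 hwi.symm hc hwc) j hj hj2
    (hS.fix_of_commute hj hw hw2 hwj.symm hc hwc)
  refine orderOf_eq_two_of_mul_self ?_ fun h => ?_
  · rw [hcij.symm.mul_mul_mul_comm i j, mul_self_of_orderOf_eq_two hi2,
      mul_self_of_orderOf_eq_two hj2, one_mul]
  · rw [h, orderOf_one] at heven
    exact absurd heven Nat.not_even_one

omit [Finite Ω] in
/-- In a faithful rank-two action a non-trivial normal subgroup contains every involution. -/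
theorem invClosure_le_of_normal (hS : SE S C) (h2 : RankTwo S) (hF : Faithful S C) {N : Subgroup G}
    (hNS : N ≤ S) (hN : S ≤ normalizer (N : Set G)) (hN1 : N ≠ ⊥) : invClosure S ≤ N := by
  have heven : Even (Nat.card N) := by
    rw [← Nat.not_odd_iff_even]
    intro hodd
    have h := hS.le_kernel_of_odd h2 hNS hodd hN
    rw [(hF : kernel S C = ⊥)] at h
    exact hN1 (eq_bot_iff.mpr h)
  obtain ⟨⟨s, hsN⟩, hs⟩ := exists_prime_orderOf_dvd_card' 2 (even_iff_two_dvd.mp heven)
  rw [Subgroup.orderOf_mk] at hs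
  refine (closure_le _).mpr fun t ht => ?_
  obtain ⟨g, hg, rfl⟩ := hS.exists_conj (hNS hsN) ht.1 hs ht.2
  exact (Subgroup.mem_normalizer_iff.mp (hN hg) s).mp hsN

omit [Finite Ω] in
/-- The faithful step at `S` follows from the same step at its subgroup generated by the
involutions. -/
theorem eq_bot_of_generated
    (h : ∀ S₀ : Subgroup G, S₀ ≤ S → CoreBelow S₀ Ω → SE S₀ C → RankTwo S₀ → Faithful S₀ C →
      Good S₀ C → TwoTrans S₀ C → invClosure S₀ = S₀ →
      (∀ N : Subgroup G, N ≤ S₀ → S₀ ≤ normalizer (N : Set G) → N = ⊥ ∨ N = S₀) →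
      ∀ c ∈ C, ∀ W : Subgroup G, W ≤ ptStab S₀ c → Odd (Nat.card W) →
        ptStab S₀ c ≤ normalizer (W : Set G) → W = ⊥)
    (hIH : CoreBelow S Ω) (hS : SE S C) (h2 : RankTwo S) (hF : Faithful S C) (hG : Good S C)
    {c : Ω} (hc : c ∈ C) {W : Subgroup G} (hW : W ≤ ptStab S c) (hWodd : Odd (Nat.card W))
    (hWn : ptStab S c ≤ normalizer (W : Set G)) : W = ⊥ := by
  set S₀ := invClosure S with hS₀def
  have hle : S₀ ≤ S := invClosure_le S
  have hpts : points S₀ C = C := Set.Subset.antisymm (points_subset S₀ C) fun z hz => by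
    obtain ⟨t, ht, ht2, htz⟩ := hS.exists_inv_at hz
    exact ⟨hz, t, mem_invClosure ht ht2, ht2, htz⟩
  obtain ⟨a, ha, b, hb, hab⟩ := hS.exists_ne
  have hS₀ : SE S₀ C := hpts ▸ hS.line hle (hpts.symm ▸ ha) (hpts.symm ▸ hb) hab
  have h2₀ : RankTwo S₀ := by
    obtain ⟨s, hs, t, ht, hs2, ht2, hne, hcm⟩ := h2
    exact ⟨s, mem_invClosure hs hs2, t, mem_invClosure ht ht2, hs2, ht2, hne, hcm⟩
  have hF₀ : Faithful S₀ C := eq_bot_iff.mpr fun g hg => by
    rw [← (hF : kernel S C = ⊥), mem_kernel]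
    exact ⟨hle (mem_kernel.mp hg).1, (mem_kernel.mp hg).2⟩
  have hG₀ : Good S₀ C := hG.subline hle subset_rfl
  have hIH₀ : CoreBelow S₀ Ω := fun T C' hT hlt =>
    hIH T C' (hT.trans hle) (hlt.trans_le (Nat.card_le_card_of_injective
      (Subgroup.inclusion hle) (Subgroup.inclusion_injective hle)))
  have hgen : invClosure S₀ = S₀ := le_antisymm (invClosure_le S₀)
    ((closure_le _).mpr fun t ht => mem_invClosure (mem_invClosure ht.1 ht.2) ht.2)
  have hsimple : ∀ N : Subgroup G, N ≤ S₀ → S₀ ≤ normalizer (N : Set G) → N = ⊥ ∨ N = S₀ :=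
    fun N hNS hN => or_iff_not_imp_left.mpr fun hN1 =>
      le_antisymm hNS (hgen ▸ invClosure_le_of_normal hS₀ h2₀ hF₀ hNS hN hN1)
  have hH₀ : ptStab S₀ c ≤ ptStab S c := fun g hg =>
    mem_ptStab.mpr ⟨hle (mem_ptStab.mp hg).1, (mem_ptStab.mp hg).2⟩
  have hWS : W ≤ S := fun w hw => (mem_ptStab.mp (hW hw)).1
  -- the part of `W` in `S₀` is trivial
  have hW₀n : ptStab S₀ c ≤ normalizer ((W ⊓ S₀ : Subgroup G) : Set G) := fun g hg =>
    Subgroup.mem_normalizer_iff.mpr fun n => by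
      rw [Subgroup.mem_inf, Subgroup.mem_inf,
        Subgroup.mem_normalizer_iff.mp (hWn (hH₀ hg)) n,
        Subgroup.mem_normalizer_iff.mp (Subgroup.le_normalizer (mem_ptStab.mp hg).1) n]
  have hW₀ : W ⊓ S₀ = ⊥ := h S₀ hle hIH₀ hS₀ h2₀ hF₀ hG₀ (good_twoTrans hS₀ h2₀ hG₀) hgen hsimple
    c hc (W ⊓ S₀) (fun g hg => mem_ptStab.mpr ⟨hg.2, (mem_ptStab.mp (hW hg.1)).2⟩)
    (hWodd.of_dvd_nat (card_dvd_of_le inf_le_left)) hW₀n
  -- so `W` commutes with a pair Sylow subgroup of every pair at `c`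
  have hcomm : ∀ w ∈ W, ∀ g ∈ ptStab S₀ c, Commute w g := by
    intro w hw g hg
    rw [← commutatorElement_eq_one_iff_commute, ← mem_bot, ← hW₀, Subgroup.mem_inf, commutatorElement_def]
    constructor
    · rw [mul_assoc, mul_assoc, ← mul_assoc g]
      exact mul_mem hw ((Subgroup.mem_normalizer_iff.mp (hWn (hH₀ hg)) _).mp (inv_mem hw))
    · exact mul_mem ((Subgroup.mem_normalizer_iff.mp (le_normalizer_invClosure S (hWS hw)) g).mp
        (mem_ptStab.mp hg).1) (inv_mem (mem_ptStab.mp hg).1)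
  haveI := kerIn_normal hS₀
  obtain ⟨t, ht, ht2, htc⟩ := hS₀.exists_inv_at hc
  obtain ⟨s, hs, hs2, hts, hcts⟩ := hS₀.exists_commute_inv h2₀ ht ht2
  have hsc : s • c = c := hS₀.fix_of_commute hs ht ht2 hcts.symm hc htc
  have hone : 1 < invBar S₀ C c := by
    rw [invBar_eq_card hF₀]
    haveI : Nontrivial {t : G // t ∈ S₀ ∧ orderOf t = 2 ∧ t • c = c} :=
      ⟨⟨t, ht, ht2, htc⟩, ⟨s, hs, hs2, hsc⟩, fun e => hts (congrArg Subtype.val e)⟩
    exact Finite.one_lt_card
  haveI : Fact (invBar S₀ C c).minFac.Prime := ⟨Nat.minFac_prime hone.ne'⟩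
  refine eq_bot_iff.mpr fun w hw => ?_
  rw [← (hF : kernel S C = ⊥)]
  refine mem_kernel.mpr ⟨hWS hw, fun x hx => ?_⟩
  obtain ⟨hwS, hwc⟩ := mem_ptStab.mp (hW hw)
  by_cases hxc : x = c
  · rw [hxc, hwc]
  obtain ⟨P, -, hP⟩ := H29.Bender.exists_isSyl_ge (D := pair S₀ c x) (P := ⊥) bot_le
    (IsPGroup.of_bot (p := (invBar S₀ C c).minFac))
  refine (pairSylow_fixed_eq hS₀ hG₀ hc (Nat.minFac_dvd _) hc hx (Ne.symm hxc) (hS.smul_mem hwS hx) hP
    fun r hr => ?_).resolve_left fun e => hxc (MulAction.injective w (e.trans hwc.symm))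
  obtain ⟨hrS, hrc, hrx⟩ := mem_pair.mp (hP.le hr)
  rw [← mul_smul, ← (hcomm w hw r (mem_ptStab.mpr ⟨hrS, hrc⟩)).eq, mul_smul, hrx]

/-- The inductive step need only be proved for groups generated by their involutions. -/
theorem coreFaithful_of_generated
    (h : ∀ (G : Type u) [Group G] [Finite G] (Ω : Type v) [MulAction G Ω] [Finite Ω] (S : Subgroup G)
      (C : Set Ω), CoreBelow S Ω → SE S C → RankTwo S → Faithful S C → Good S C → TwoTrans S C →
      invClosure S = S → (∀ N : Subgroup G, N ≤ S → S ≤ normalizer (N : Set G) → N = ⊥ ∨ N = S) →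
      ∀ c ∈ C, ∀ W : Subgroup G, W ≤ ptStab S c → Odd (Nat.card W) →
        ptStab S c ≤ normalizer (W : Set G) → W = ⊥) :
    CoreFaithful.{u, v} := fun G _ _ Ω _ _ _ C hIH hS h2 hF hG _ _ hc _ hW hWodd hWn =>
  eq_bot_of_generated (fun S₀ _ => h G Ω S₀ C) hIH hS h2 hF hG hc hW hWodd hWn

end Cfsg.Agent.Cores.SE
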