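import Cfsg.Agent.Cores.SE.CoreTwo
import Cfsg.Agent.Cores.SE.CoreElement
import Cfsg.Agent.Cores.SE.CoreFeeder
import Cfsg.Agent.H10.SECount.Main
import Cfsg.Agent.H24.QuotientDefect
import Cfsg.Agent.H29.Bender.Sylow
import Cfsg.Agent.S4487
import Cfsg.Agent.H73.Bender.ClosedLine

/-!
The character count applied to a point stabiliser with non-trivial odd core: given that the
`2`-elements at the point centralise the involutions there and the bound on inertia groups, a
contradiction.
-/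

set_option autoImplicit false
set_option linter.style.haveILetI false

namespace Cfsg.Agent.Cores.SE

open Subgroup MulAction
open Cfsg.Agent.H39
open Cfsg.Agent.H73.Bender
open scoped commutatorElement

universe u v

/-- The hypotheses of the single-block criterion pass through isomorphisms. -/
theorem constrained_of_equiv {A B : Type u} [Group A] [Finite A] [Group B] [Finite B] (e : A ≃* B)
    (hcore : Cfsg.pPrimeCore 2 B = ⊥)
    (hcon : centralizer (Cfsg.pCore 2 B : Set B) ≤ Cfsg.pCore 2 B) :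
    Cfsg.pPrimeCore 2 A = ⊥ ∧ centralizer (Cfsg.pCore 2 A : Set A) ≤ Cfsg.pCore 2 A := by
  haveI : Fact (Nat.Prime 2) := ⟨Nat.prime_two⟩
  refine ⟨?_, fun x hx => ?_⟩
  · haveI : (Cfsg.oddCore A).Normal := Cfsg.pPrimeCore_normal _ _
    haveI : ((Cfsg.oddCore A).map e.toMonoidHom).Normal :=
      Subgroup.Normal.map inferInstance _ e.surjective
    have h : (Cfsg.oddCore A).map e.toMonoidHom ≤ Cfsg.oddCore B := Cores.le_oddCore (by
      rw [card_map_of_injective e.injective]; exact Cores.odd_card_oddCore)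
    rw [show Cfsg.oddCore B = ⊥ from hcore, le_bot_iff] at h
    exact (Subgroup.map_eq_bot_iff_of_injective _ e.injective).mp h
  · have hmap := Cores.pCore_map_mulEquiv (p := 2) e
    have h : e x ∈ Cfsg.pCore 2 B := hcon (mem_centralizer_iff.mpr fun y hy => by
      rw [← hmap] at hy
      obtain ⟨a, ha, rfl⟩ := hy
      show e a * e x = e x * e a
      rw [← map_mul, mem_centralizer_iff.mp hx a ha, map_mul])
    rw [← hmap] at h
    obtain ⟨a, ha, he⟩ := h
    exact e.injective he ▸ ha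

/-- If the centraliser of an element modulo an odd normal subgroup has the hypotheses of the
single-block criterion, a character trivial there lies in the principal block. -/
theorem mem_principalBlock_of_constrained {C : Type u} [Group C] [Finite C] (N : Subgroup C)
    [N.Normal] (hcore : Cfsg.pPrimeCore 2 (C ⧸ N) = ⊥)
    (hcon : centralizer (Cfsg.pCore 2 (C ⧸ N) : Set (C ⧸ N)) ≤ Cfsg.pCore 2 (C ⧸ N))
    {M : Ideal Cfsg.AlgInt} (hM : Cfsg.IsPModular 2 M) (ψ : Cfsg.IrrCharacter C)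
    (hψ : ∀ n ∈ N, (ψ : C → ℂ) n = (ψ : C → ℂ) 1) : ψ ∈ Cfsg.principalBlock M C := by
  haveI : Fact (Nat.Prime 2) := ⟨Nat.prime_two⟩
  obtain ⟨f, -, hf, hirr⟩ :=
    CharInduce.IsChar.exists_deflate (CharBasic.IsIrr.isCharacter ψ.2) N hψ
  let ξ : Cfsg.IrrCharacter (C ⧸ N) := ⟨f, hirr ψ.2⟩
  let one : Cfsg.IrrCharacter (C ⧸ N) := ⟨fun _ => 1, CharBasic.isIrrCharacter_one⟩
  have h := H24.QuotientDefect.sameBlock_infl hM N (S4487.result 2 M hM hcore hcon one ξ)
  have e1 : (H24.QuotientDefect.infl N ξ : C → ℂ) = (ψ : C → ℂ) := funext fun g => (hf g).symm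
  have e2 : (H24.QuotientDefect.infl N one : C → ℂ) = fun _ => (1 : ℂ) := rfl
  rw [e1, e2] at h
  exact h

/-- A constant irreducible character is trivial. -/
theorem eq_one_of_const {A : Type u} [Group A] [Finite A] (χ : Cfsg.IrrCharacter A)
    (h : ∀ g : A, (χ : A → ℂ) g = (χ : A → ℂ) 1) : (χ : A → ℂ) 1 = 1 := by
  classical
  letI := Fintype.ofFinite A
  obtain ⟨d, -, hd, -⟩ := CharBasic.IsIrr.degree_dvd χ.2
  have horth := CharBasic.classInner_irr_self χ.2
  rw [CharBasic.classInner_def, Finset.sum_congr rfl fun g _ => by rw [h g, hd]] at horth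
  rw [Finset.sum_const, Finset.card_univ, nsmul_eq_mul, Nat.card_eq_fintype_card,
    Complex.conj_natCast, inv_mul_cancel_left₀ (Nat.cast_ne_zero.mpr Fintype.card_ne_zero)] at horth
  have hd2 : d * d = 1 := by exact_mod_cast horth
  rw [hd, Nat.eq_one_of_mul_eq_one_right hd2, Nat.cast_one]

variable {G : Type u} [Group G] [Finite G] {Ω : Type v} [MulAction G Ω] [Finite Ω] {S : Subgroup G}
  {C : Set Ω}

/-- The point stabiliser, inside `S`. -/
abbrev stabIn (S : Subgroup G) (c : Ω) : Subgroup S := (ptStab S c).subgroupOf S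

/-- The odd core of the point stabiliser, inside `S`. -/
abbrev coreIn (S : Subgroup G) (c : Ω) : Subgroup S := (oddPart (ptStab S c)).subgroupOf S

omit [Finite Ω] [Finite G] in
theorem card_invs_stabIn (hF : Faithful S C) (c : Ω) [Fintype S] :
    (H10.SECount.invs (stabIn S c)).card = invBar S C c := by
  rw [invBar_eq_card hF, ← Nat.card_eq_finsetCard]
  refine Nat.card_congr
    { toFun := fun i => ⟨(i : S), (H10.SECount.mem_invs.1 i.2).1.1,
        by rw [Subgroup.orderOf_coe]; exact (H10.SECount.mem_invs.1 i.2).2,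
        (mem_ptStab.mp (mem_subgroupOf.mp (H10.SECount.mem_invs.1 i.2).1)).2⟩
      invFun := fun i => ⟨⟨i, i.2.1⟩, H10.SECount.mem_invs.2
        ⟨mem_subgroupOf.mpr (mem_ptStab.mpr ⟨i.2.1, i.2.2.2⟩),
          by rw [Subgroup.orderOf_mk]; exact i.2.2.1⟩⟩
      left_inv := fun _ => rfl
      right_inv := fun _ => rfl }

/-- The bound on inertia groups of linear characters of `R` and the index bounds consumed by the
count. -/
def InertiaBound (S : Subgroup G) (c : Ω) (R : Subgroup G) : Prop :=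
  ∀ [Fintype S], ∃ σ : ℕ,
    (∀ [((R.subgroupOf S).subgroupOf (stabIn S c)).Normal],
      ∀ θ : (R.subgroupOf S).subgroupOf (stabIn S c) →* ℂˣ, θ ≠ 1 →
        ordCompl[2] (Nat.card (H10.SECount.stab θ)) ≤ σ * Nat.card (coreIn S c)) ∧
    3 * ((H10.SECount.invs (stabIn S c)).card + 1) ≤ (stabIn S c).index ∧
    (σ = 1 ∨ (7 ≤ (H10.SECount.invs (stabIn S c)).card ∧ 3 ≤ σ ∧
      σ ^ 2 ≤ (H10.SECount.invs (stabIn S c)).card + 2 ∧
      (2 * (H10.SECount.invs (stabIn S c)).card + 1) *
        ((H10.SECount.invs (stabIn S c)).card + 1) ≤ (stabIn S c).index ∧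
      ∃ Y : Subgroup S, (∀ h ∈ stabIn S c,
          (∀ i ∈ H10.SECount.invs (stabIn S c), Commute h i) → h ∈ Y) ∧
        (H10.SECount.invs (stabIn S c)).card * σ * Nat.card Y ≤ Nat.card (stabIn S c)))

/-- The count: `H1` and the inertia bound contradict a non-trivial abelian odd normal subgroup of a
point stabiliser. -/
theorem false_of_inertia (hS : SE S C) (h2 : RankTwo S) (hF : Faithful S C) (hG : Good S C)
    (hIH : CoreBelow S Ω)
    (hsimple : ∀ N : Subgroup G, N ≤ S → S ≤ normalizer (N : Set G) → N = ⊥ ∨ N = S)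
    {c : Ω} (hc : c ∈ C) {R : Subgroup G}
    (hR : R ≤ ptStab S c) (hRodd : Odd (Nat.card R)) (hRn : ptStab S c ≤ normalizer (R : Set G))
    (hR1 : R ≠ ⊥) (hRab : IsMulCommutative R)
    (hH1 : ∀ v ∈ ptStab S c, (∃ k, orderOf v = 2 ^ k) →
      ∀ t ∈ S, orderOf t = 2 → t • c = c → Commute v t)
    (hbound : InertiaBound S c R) : False := by
  classical
  letI := Fintype.ofFinite S
  haveI := kerIn_normal hS
  obtain ⟨t, ht, ht2, htc⟩ := hS.exists_inv_at hc
  obtain ⟨s, hs, hs2, hts, hcts⟩ := hS.exists_commute_inv h2 ht ht2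
  have hsc : s • c = c := hS.fix_of_commute hs ht ht2 hcts.symm hc htc
  have hm1 : 1 < invBar S C c := by
    rw [invBar_eq_card hF]
    haveI : Nontrivial {t : G // t ∈ S ∧ orderOf t = 2 ∧ t • c = c} :=
      ⟨⟨t, ht, ht2, htc⟩, ⟨s, hs, hs2, hsc⟩, fun e => hts (congrArg Subtype.val e)⟩
    exact Finite.one_lt_card
  haveI : Fact (invBar S C c).minFac.Prime := ⟨Nat.minFac_prime hm1.ne'⟩
  have hm3 : 3 ≤ invBar S C c := by
    obtain ⟨k, hk⟩ := odd_invBar hS hc
    omega
  obtain ⟨z, hz, hcz⟩ : ∃ z ∈ C, c ≠ z := by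
    obtain ⟨a, ha, b, hb, hab⟩ := hS.exists_ne
    by_cases h : c = a
    · exact ⟨b, hb, h ▸ hab⟩
    · exact ⟨a, ha, h⟩
  obtain ⟨x, hxp, hxH, hxz, honly, -, hpK⟩ := exists_fpf_element hS h2 hF hG hIH hc hz hcz hR hRodd
    hRn hR1 hRab (p := (invBar S C c).minFac) (Nat.minFac_dvd _)
  obtain ⟨T, hTsyl, hTn, -, -, -, -, hcentT⟩ := exists_block_data hS h2 hF hG hIH hc hz hcz hR hRodd
    hRn hR1 hRab Fact.out hxp hxH hxz honly hpK hH1
  set W := oddPart (ptStab S c) with hWdef
  have hWH : W ≤ ptStab S c := oddPart_le _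
  have hWn : ptStab S c ≤ normalizer (W : Set G) := le_normalizer_oddPart _
  have hRW : R ≤ W := le_oddPart hR hRn hRodd
  have hHS : ∀ g ∈ ptStab S c, g ∈ S := fun g hg => (mem_ptStab.mp hg).1
  set H' : Subgroup S := stabIn S c with hH'
  have hmemH : ∀ g : S, g ∈ H' ↔ (g : G) • c = c := fun g => by
    rw [hH', mem_subgroupOf, mem_ptStab]; exact ⟨fun h => h.2, fun h => ⟨g.2, h⟩⟩
  have hcomm := fun i hi j hj hi2 hj2 hic hjc =>
    commute_involutions hS h2 hF hG hc hR hRodd hRn hR1 (s := i) (t := j) hi hj hi2 hj2 hic hjc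
  have hset : H10.SECount.Setting H' (⟨t, ht⟩ : S) :=
    { t_mem := (hmemH _).mpr htc
      t_ord := by rw [Subgroup.orderOf_mk, ht2]
      ti := fun u hu hu2 hu1 g hg => by
        obtain ⟨k, hk⟩ := hu2
        have hk0 : k ≠ 0 := fun h => hu1 (orderOf_eq_one_iff.mp (by rw [hk, h, pow_zero]))
        have hueven : Even (orderOf (u : G)) := by
          rw [Subgroup.orderOf_coe, hk]; exact even_two.pow_of_ne_zero hk0
        have hfix : (u : G) • ((g : G)⁻¹ • c) = (g : G)⁻¹ • c := by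
          have h : ((g : G) * (u : G) * (g : G)⁻¹) • c = c := (hmemH _).mp hg
          rw [mul_smul, mul_smul, ← eq_inv_smul_iff] at h
          exact h
        have := fixed_eq_of_even hS hc u.2 ((hmemH u).mp hu) hueven (orderOf_pos (u : G)).ne'
          (hS.smul_mem (inv_mem g.2) hc) hfix
        exact (hmemH g).mpr (inv_smul_eq_iff.mp this).symm
      conjugate := fun i hi hi2 => by
        obtain ⟨d, hd, hdi⟩ := hS.fix_conj hc hz hcz ht i.2 ht2
          (by rw [Subgroup.orderOf_coe]; exact hi2) htc ((hmemH i).mp hi)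
        exact ⟨⟨d, (mem_pair.mp hd).1⟩, (hmemH _).mpr (mem_pair.mp hd).2.1, Subtype.ext hdi⟩
      comm := fun i hi j hj hi2 hj2 => Subtype.ext
        (hcomm i i.2 j j.2 (by rw [Subgroup.orderOf_coe]; exact hi2)
          (by rw [Subgroup.orderOf_coe]; exact hj2) ((hmemH i).mp hi) ((hmemH j).mp hj)).eq }
  haveI : Fact (Nat.Prime 2) := ⟨Nat.prime_two⟩
  obtain ⟨M, hM⟩ := BlockBasic.exists_isPModular Nat.prime_two
  -- the single block of the centraliser of a `2`-element
  haveI hW'n : ((W.subgroupOf S).subgroupOf H').Normal := ⟨fun n hn g => by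
    rw [mem_subgroupOf, mem_subgroupOf] at hn ⊢
    exact (Subgroup.mem_normalizer_iff.mp (hWn (mem_subgroupOf.mp g.2)) _).mp hn⟩
  haveI hT'n : ((T.subgroupOf S).subgroupOf H').Normal := ⟨fun n hn g => by
    rw [mem_subgroupOf, mem_subgroupOf] at hn ⊢
    exact (Subgroup.mem_normalizer_iff.mp (hTn (mem_subgroupOf.mp g.2)) _).mp hn⟩
  let W'' : Subgroup H' := (W.subgroupOf S).subgroupOf H'
  let T'' : Subgroup H' := (T.subgroupOf S).subgroupOf H'
  have hWS : W ≤ S := fun g hg => hHS g (hWH hg)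
  have hW''odd : Odd (Nat.card W'') := by
    rw [Nat.card_congr (subgroupOfEquivOfLe (fun g hg => mem_subgroupOf.mpr (hWH hg) :
      W.subgroupOf S ≤ H')).toEquiv, Nat.card_congr (subgroupOfEquivOfLe hWS).toEquiv]
    exact odd_oddPart _
  have hcore : H10.SECount.Core H' (W.subgroupOf S) M :=
    { le := fun g hg => mem_subgroupOf.mpr (hWH hg)
      norm := fun h hh w hw => mem_subgroupOf.mpr
        ((Subgroup.mem_normalizer_iff.mp (hWn (mem_subgroupOf.mp hh)) _).mp (mem_subgroupOf.mp hw))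
      odd := by
        rw [Nat.card_congr (subgroupOfEquivOfLe hWS).toEquiv]; exact odd_oddPart _
      oneBlock := fun u hu hu2 hu1 ψ hψ => by
        let Cu : Subgroup S := centralizer ({u} : Set S)
        have hCH : Cu ≤ H' := hset.centralizer_le hu hu2 hu1
        set M₁ : Subgroup H' := centralizer ({⟨u, hu⟩} : Set H') with hM₁
        have hM₁eq : Cu.subgroupOf H' = M₁ := by
          ext g
          rw [mem_subgroupOf, hM₁, mem_centralizer_singleton_iff, mem_centralizer_singleton_iff]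
          exact ⟨fun h => Subtype.ext h, fun h => congrArg Subtype.val h⟩
        let e : Cu ≃* M₁ :=
          (subgroupOfEquivOfLe hCH).symm.trans (MulEquiv.subgroupCongr hM₁eq)
        let N : Subgroup Cu := (W.subgroupOf S).subgroupOf Cu
        have hmapN : N.map e.toMonoidHom = W''.subgroupOf M₁ := by
          ext g
          constructor
          · rintro ⟨n, hn, rfl⟩
            exact hn
          · intro hg
            exact ⟨e.symm g, hg, e.apply_symm_apply g⟩
        haveI : N.Normal := ⟨fun n hn g => mem_subgroupOf.mpr (mem_subgroupOf.mpr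
          ((Subgroup.mem_normalizer_iff.mp (hWn (mem_subgroupOf.mp (hCH g.2))) _).mp
            (mem_subgroupOf.mp (mem_subgroupOf.mp hn))))⟩
        obtain ⟨h1, h2⟩ := constrained_centralizer_quotient W'' T'' hW''odd
          hTsyl.pgroup.comap_subtype.comap_subtype
          (fun v hv hvc => mem_subgroupOf.mpr (mem_subgroupOf.mpr (hcentT _ (mem_subgroupOf.mp v.2)
            (by rwa [Subgroup.orderOf_coe, Subgroup.orderOf_coe])
            (mem_centralizer_iff.mpr fun y hy =>
              congrArg (fun g : H' => ((g : S) : G)) (mem_centralizer_iff.mp hvc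
                ⟨⟨y, hHS y (hTsyl.le hy)⟩, mem_subgroupOf.mpr (hTsyl.le hy)⟩ hy)))))
          (u := (⟨u, hu⟩ : H')) (by simpa [Subgroup.orderOf_mk] using hu2)
        obtain ⟨h1', h2'⟩ := constrained_of_equiv
          (QuotientGroup.congr N (W''.subgroupOf M₁) e hmapN) h1 h2
        exact mem_principalBlock_of_constrained N h1' h2' hM ψ fun n hn => hψ n hn }
  have htW : W.subgroupOf S ≤ centralizer ({⟨t, ht⟩} : Set S) := fun w hw => by
    have h := H72.SE.cent_holds G Ω S C c W hS h2 hG hc hWH (odd_oddPart _) hWn t ht ht2 htc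
      (w : G) (mem_subgroupOf.mp hw)
    rw [(hF : kernel S C = ⊥), mem_bot] at h
    exact mem_centralizer_singleton_iff.mpr
      (Subtype.ext (commutatorElement_eq_one_iff_mul_comm.mp h).symm)
  have hker : ∀ χ : Cfsg.IrrCharacter S, (χ : S → ℂ) ≠ (fun _ => 1) →
      ∃ r ∈ R.subgroupOf S, (χ : S → ℂ) r ≠ (χ : S → ℂ) 1 := by
    intro χ hχ
    by_contra! hall'
    obtain ⟨K, hKn, hKmem, -⟩ := CharBasic.IsChar.exists_kernel (CharBasic.IsIrr.isCharacter χ.2)
    have hRK : R.subgroupOf S ≤ K := fun r hr => (hKmem r).mpr (hall' r hr)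
    have hK : K.map S.subtype = ⊥ ∨ K.map S.subtype = S := hsimple _ (map_subtype_le _) fun g hg => by
      refine le_normalizer_map _ ⟨⟨g, hg⟩, ?_, rfl⟩
      rw [normalizer_eq_top]; exact mem_top _
    rcases hK with hK | hK
    · refine hR1 (eq_bot_iff.mpr fun r hr => ?_)
      rw [← hK]
      exact ⟨⟨r, hHS r (hR hr)⟩, hRK (mem_subgroupOf.mpr hr), rfl⟩
    · refine hχ ?_
      have hconst : ∀ g : S, (χ : S → ℂ) g = (χ : S → ℂ) 1 := fun g => (hKmem g).mp (by
        obtain ⟨k, hk, he⟩ : (g : G) ∈ K.map S.subtype := by rw [hK]; exact g.2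
        exact Subtype.ext he ▸ hk)
      exact funext fun g => (hconst g).trans (eq_one_of_const χ hconst)
  obtain ⟨σ, hσ, hN, hcase⟩ := hbound
  have hinv : 3 ≤ (H10.SECount.invs H').card := by rw [hH', card_invs_stabIn hF c]; exact hm3
  exact H10.SECount.false_of_count hset hcore hM htW
    (fun r hr => mem_subgroupOf.mpr (hRW (mem_subgroupOf.mp hr)))
    (fun h hh r hr => mem_subgroupOf.mpr
      ((Subgroup.mem_normalizer_iff.mp (hRn (mem_subgroupOf.mp hh)) _).mp (mem_subgroupOf.mp hr)))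
    (fun a ha b hb => Subtype.ext (congrArg (Subtype.val : R → G) (hRab.is_comm.comm
      ⟨(a : G), mem_subgroupOf.mp ha⟩ ⟨(b : G), mem_subgroupOf.mp hb⟩)))
    hker hσ hinv hN hcase

/-- The first half left open: the `2`-elements at a point centralise the involutions there. -/
def H1Step : Prop :=
  ∀ (G : Type u) [Group G] [Finite G] (Ω : Type v) [MulAction G Ω] [Finite Ω] (S : Subgroup G)
    (C : Set Ω), CoreBelow S Ω → SE S C → RankTwo S → Faithful S C → Good S C → TwoTrans S C →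
    (∀ N : Subgroup G, N ≤ S → S ≤ normalizer (N : Set G) → N = ⊥ ∨ N = S) →
    ∀ c ∈ C, ∀ R : Subgroup G, R ≤ ptStab S c → Odd (Nat.card R) →
      ptStab S c ≤ normalizer (R : Set G) → R ≠ ⊥ → IsMulCommutative R →
      (∀ R' : Subgroup G, R' ≤ R → R' ≠ ⊥ → ptStab S c ≤ normalizer (R' : Set G) → R' = R) →
      ∀ v ∈ ptStab S c, (∃ k, orderOf v = 2 ^ k) →
        ∀ t ∈ S, orderOf t = 2 → t • c = c → Commute v t

/-- The second half left open: the inertia bound, given the first. -/
def InertiaStep : Prop :=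
  ∀ (G : Type u) [Group G] [Finite G] (Ω : Type v) [MulAction G Ω] [Finite Ω] (S : Subgroup G)
    (C : Set Ω), CoreBelow S Ω → SE S C → RankTwo S → Faithful S C → Good S C → TwoTrans S C →
    (∀ N : Subgroup G, N ≤ S → S ≤ normalizer (N : Set G) → N = ⊥ ∨ N = S) →
    ∀ c ∈ C, ∀ R : Subgroup G, R ≤ ptStab S c → Odd (Nat.card R) →
      ptStab S c ≤ normalizer (R : Set G) → R ≠ ⊥ → IsMulCommutative R →
      (∀ R' : Subgroup G, R' ≤ R → R' ≠ ⊥ → ptStab S c ≤ normalizer (R' : Set G) → R' = R) →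
      (∀ v ∈ ptStab S c, (∃ k, orderOf v = 2 ^ k) →
        ∀ t ∈ S, orderOf t = 2 → t • c = c → Commute v t) →
      InertiaBound S c R

/-- The faithful step from the two halves. -/
theorem coreFaithful_of_steps (h1 : H1Step.{u, v}) (h2' : InertiaStep.{u, v}) :
    CoreFaithful.{u, v} := by
  refine coreFaithful_of_generated ?_
  intro G _ _ Ω _ _ S C hIH hS h2 hF hG h2T _ hsimple c hc W hW hWodd hWn
  by_contra hW1
  obtain ⟨R₀, hR₀W, hR₀1, hR₀ab, hR₀n⟩ := exists_abelian_normal hWodd hW1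
  let P : Subgroup G → Prop := fun R =>
    R ≤ R₀ ∧ R ≠ ⊥ ∧ ptStab S c ≤ normalizer (R : Set G)
  obtain ⟨R, ⟨hRR, hR1, hRn⟩, hmin⟩ := Set.Finite.exists_minimalFor id {R | P R} (Set.toFinite _)
    ⟨R₀, le_rfl, hR₀1, hWn.trans hR₀n⟩
  have hR : R ≤ ptStab S c := (hRR.trans hR₀W).trans hW
  have hRodd : Odd (Nat.card R) := hWodd.of_dvd_nat (card_dvd_of_le (hRR.trans hR₀W))
  have hRab : IsMulCommutative R := ⟨⟨fun a b => Subtype.ext
    (congrArg (Subtype.val : R₀ → G) (hR₀ab.is_comm.comm ⟨a, hRR a.2⟩ ⟨b, hRR b.2⟩))⟩⟩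
  have hminR : ∀ R' : Subgroup G, R' ≤ R → R' ≠ ⊥ → ptStab S c ≤ normalizer (R' : Set G) → R' = R :=
    fun R' hle hne hn => le_antisymm hle (hmin ⟨hle.trans hRR, hne, hn⟩ hle)
  have hH1 := h1 G Ω S C hIH hS h2 hF hG h2T hsimple c hc R hR hRodd hRn hR1 hRab hminR
  exact false_of_inertia hS h2 hF hG hIH hsimple hc hR hRodd hRn hR1 hRab hH1
    (h2' G Ω S C hIH hS h2 hF hG h2T hsimple c hc R hR hRodd hRn hR1 hRab hminR hH1)

/-- S1221 from the two halves. -/
theorem map_oddCore_le_of_steps {G : Type u} [Group G] [Finite G] (h1 : H1Step.{u, u})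
    (h2' : InertiaStep.{u, u}) (H : Subgroup G) (hH : Cfsg.IsStronglyEmbedded H) :
    (Cfsg.oddCore ↥H).map H.subtype ≤ Cfsg.oddCore G :=
  map_oddCore_le H73.Bender.main (coreFaithful_of_steps h1 h2') H hH

end Cfsg.Agent.Cores.SE
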