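import Cfsg.Agent.H72.SE.SecSeven
import Cfsg.Agent.H72.SE.OddFix
import Cfsg.Agent.H73.Bender.EndSQ
import Cfsg.Agent.Cores.GlaubermanZStar

/-!
A point stabiliser with a non-trivial odd normal subgroup `W` in a faithful good action: every
normal subgroup centralising `W` has the centraliser of an involution of index prime to the number of
involutions at the point, so the involutions at the point commute (notes/helper70_bender_core.md).
-/

set_option autoImplicit false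
set_option linter.style.haveILetI false

namespace Cfsg.Agent.Cores.SE

open Subgroup MulAction
open Cfsg.Agent.H39
open Cfsg.Agent.H73.Bender
open scoped commutatorElement

universe u v

variable {G : Type u} [Group G] {Ω : Type v} [MulAction G Ω] {S : Subgroup G} {C : Set Ω}

/-- A1: in a faithful good action a subgroup normalised by an involution, fixing the point of the
involution and a second point, is centralised by it. -/
theorem commute_of_fix_point (hF : Faithful S C) (hG : Good S C) {X : Subgroup G} (hXS : X ≤ S)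
    {i : G} (hi : i ∈ S) (hi2 : orderOf i = 2) (hiX : i ∈ normalizer (X : Set G))
    {f a : Ω} (hf : f ∈ C) (ha : a ∈ C) (hfa : f ≠ a) (hif : i • f = f)
    (hXf : ∀ x ∈ X, x • f = f) (hXa : ∀ x ∈ X, x • a = a) {x : G} (hx : x ∈ X) : Commute i x := by
  have hd : ⁅i, x⁆ ∈ X := by
    rw [commutatorElement_def]
    exact mul_mem ((Subgroup.mem_normalizer_iff.mp hiX x).mp hx) (inv_mem hx)
  have h := hG.commutator_mem_kernel hi hi2 (hXS hx) hf ha hfa hif (hXf _ hd) (hXa _ hd)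
  rw [hF, mem_bot] at h
  exact commutatorElement_eq_one_iff_commute.mp h

/-- Conjugation carries a largest `q`-subgroup to one of the conjugate group. -/
theorem isSyl_map_conj [Finite G] {q : ℕ} {D T : Subgroup G} (hT : H29.Bender.IsSyl q D T) (g : G) :
    H29.Bender.IsSyl q (D.map (MulAut.conj g).toMonoidHom) (T.map (MulAut.conj g).toMonoidHom) := by
  refine ⟨Subgroup.map_mono hT.le, hT.pgroup.map _, fun P hP hPq => ?_⟩
  have e : P.map (MulAut.conj g⁻¹).toMonoidHom ≤ D := by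
    rintro _ ⟨p, hp, rfl⟩
    obtain ⟨d, hd, rfl⟩ := hP hp
    simpa [mul_assoc] using hd
  have h := hT.max _ e (hPq.map _)
  rw [card_map_of_injective (MulAut.conj g⁻¹).injective] at h
  rwa [card_map_of_injective (MulAut.conj g).injective]

theorem map_conj_pair {g : G} (hg : g ∈ S) (x y : Ω) :
    (pair S x y).map (MulAut.conj g).toMonoidHom = pair S (g • x) (g • y) := by
  ext h
  constructor
  · rintro ⟨k, hk, rfl⟩
    obtain ⟨hkS, hkx, hky⟩ := mem_pair.mp hk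
    exact mem_pair.mpr ⟨conj_mem_of_mem hg hkS, conj_smul_of_smul hkx, conj_smul_of_smul hky⟩
  · intro hh
    obtain ⟨hhS, hhx, hhy⟩ := mem_pair.mp hh
    refine ⟨g⁻¹ * h * g, mem_pair.mpr ⟨mul_mem (mul_mem (inv_mem hg) hhS) hg, ?_, ?_⟩, by simp [mul_assoc]⟩
    · rw [mul_smul, mul_smul, hhx, inv_smul_smul]
    · rw [mul_smul, mul_smul, hhy, inv_smul_smul]

variable [Finite G] [Finite Ω]

omit [Finite Ω] in
/-- The index of the centraliser of an involution in a normal subgroup of its point stabiliser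
divides the number of involutions at the point. -/
theorem relIndex_dvd_invBar (hS : SE S C) (hF : Faithful S C) {c : Ω} (hc : c ∈ C) {t : G}
    (ht : t ∈ S) (ht2 : orderOf t = 2) (htc : t • c = c) {N : Subgroup G} (hN : N ≤ ptStab S c)
    (hNn : ptStab S c ≤ normalizer (N : Set G)) :
    (centralizer ({t} : Set G)).relIndex N ∣ invBar S C c := by
  obtain ⟨z, hz, hcz⟩ : ∃ z ∈ C, c ≠ z := by
    obtain ⟨x, hx, y, hy, hxy⟩ := hS.exists_ne
    by_cases h : c = x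
    · exact ⟨y, hy, h ▸ hxy⟩
    · exact ⟨x, hx, h⟩
  set Hc := ptStab S c with hHc
  have hmod : Hc ⊓ H72.SE.modCentralizer hS t = centralizer ({t} : Set G) ⊓ Hc := by
    ext g
    rw [Subgroup.mem_inf, Subgroup.mem_inf, H72.SE.mem_modCentralizer, hF, mem_bot,
      mem_centralizer_singleton_iff, commutatorElement_eq_one_iff_mul_comm]
    exact ⟨fun h => ⟨h.2.2, h.1⟩, fun h => ⟨h.2, (mem_ptStab.mp h.2).1, h.1⟩⟩
  have horb := H72.SE.card_orbit_mod_kernel hS hc hz hcz ht ht2 htc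
  rw [hmod] at horb
  have hidx : (centralizer ({t} : Set G)).relIndex Hc = invBar S C c := by
    have h := Subgroup.relIndex_mul_relIndex ⊥ _ Hc bot_le
      (inf_le_right : centralizer ({t} : Set G) ⊓ Hc ≤ Hc)
    rw [relIndex_bot_left, relIndex_bot_left, inf_relIndex_right, horb, mul_comm (invBar S C c)] at h
    exact Nat.eq_of_mul_eq_mul_left Nat.card_pos h
  rw [← hidx, Subgroup.relIndex]
  -- inside the point stabiliser
  set N' := N.subgroupOf Hc with hN'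
  set Z' := (centralizer ({t} : Set G)).subgroupOf Hc with hZ'
  haveI : N'.Normal := normal_subgroupOf_of_le_normalizer hNn
  have e : ((centralizer ({t} : Set G)).subgroupOf N).index = Z'.relIndex N' :=
    (relIndex_subgroupOf (H := centralizer ({t} : Set G)) hN).symm
  rw [e]
  have h1 := relIndex_mul_index (inf_le_right : Z' ⊓ N' ≤ N')
  have h2 := relIndex_mul_index (inf_le_left : Z' ⊓ N' ≤ Z')
  obtain ⟨a, ha⟩ := relIndex_dvd_index_of_normal (H := N') (K := Z')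
  rw [inf_relIndex_right] at h1
  rw [inf_comm Z' N', inf_relIndex_right, inf_comm N' Z', ← h1, ha, mul_left_comm] at h2
  have hpos : N'.relIndex Z' ≠ 0 := Nat.card_pos.ne'
  exact ⟨a, mul_left_cancel₀ hpos h2⟩

/-- `Y` is a `q`-subgroup of `S` with three fixed points in `C`, maximal as such. -/
structure MaxThree (q : ℕ) (S : Subgroup G) (C : Set Ω) (Y : Subgroup G) : Prop where
  le : Y ≤ S
  pgroup : IsPGroup q Y
  three : ∃ a ∈ C, ∃ b ∈ C, ∃ e ∈ C, a ≠ b ∧ e ≠ a ∧ e ≠ b ∧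
    ∀ y ∈ Y, y • a = a ∧ y • b = b ∧ y • e = e
  max : ∀ Y' : Subgroup G, Y ≤ Y' → Y' ≤ S → IsPGroup q Y' →
    (∃ a ∈ C, ∃ b ∈ C, ∃ e ∈ C, a ≠ b ∧ e ≠ a ∧ e ≠ b ∧
      ∀ y ∈ Y', y • a = a ∧ y • b = b ∧ y • e = e) → Y' = Y

/-- The points of `C` fixed by `Y`. -/
def fixedIn (C : Set Ω) (Y : Subgroup G) : Set Ω := {z | z ∈ C ∧ ∀ y ∈ Y, y • z = z}

omit [Finite Ω] in
theorem exists_maxThree {q : ℕ} {X : Subgroup G} (hXS : X ≤ S) (hX : IsPGroup q X) {a b e : Ω}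
    (ha : a ∈ C) (hb : b ∈ C) (he : e ∈ C) (hab : a ≠ b) (hea : e ≠ a) (heb : e ≠ b)
    (hXa : ∀ x ∈ X, x • a = a) (hXb : ∀ x ∈ X, x • b = b) (hXe : ∀ x ∈ X, x • e = e) :
    ∃ Y, X ≤ Y ∧ MaxThree q S C Y := by
  let Big : Subgroup G → Prop := fun Y => X ≤ Y ∧ Y ≤ S ∧ IsPGroup q Y ∧
    ∃ a ∈ C, ∃ b ∈ C, ∃ e ∈ C, a ≠ b ∧ e ≠ a ∧ e ≠ b ∧ ∀ y ∈ Y, y • a = a ∧ y • b = b ∧ y • e = e
  haveI : Nonempty {Y : Subgroup G // Big Y} :=
    ⟨⟨X, le_rfl, hXS, hX, a, ha, b, hb, e, he, hab, hea, heb,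
      fun y hy => ⟨hXa y hy, hXb y hy, hXe y hy⟩⟩⟩
  obtain ⟨⟨Y, hXY, hYS, hY, h3⟩, hmax⟩ :=
    Finite.exists_max fun Y : {Y : Subgroup G // Big Y} => Nat.card Y.1
  exact ⟨Y, hXY, hYS, hY, h3, fun Y' hYY' hY'S hY' h3' =>
    (Subgroup.eq_of_le_of_card_ge hYY' (hmax ⟨Y', hXY.trans hYY', hY'S, hY', h3'⟩)).symm⟩

omit [Finite G] [Finite Ω] in
theorem smul_mem_fixedIn (hS : SE S C) {Y : Subgroup G} {g : G} (hgS : g ∈ S)
    (hgY : g ∈ normalizer (Y : Set G)) {z : Ω} (hz : z ∈ fixedIn C Y) : g • z ∈ fixedIn C Y :=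
  ⟨hS.smul_mem hgS hz.1, fun y hy => by
    have h := hz.2 _ ((Subgroup.mem_normalizer_iff''.mp hgY y).mp hy)
    rw [mul_smul, mul_smul, inv_smul_eq_iff] at h
    exact h⟩

omit [Finite G] [Finite Ω] in
theorem MaxThree.exists_other {q : ℕ} {Y : Subgroup G} (hY : MaxThree q S C Y) (f : Ω) :
    ∃ o ∈ fixedIn C Y, f ≠ o := by
  obtain ⟨a, ha, b, hb, _, _, hab, _, _, hfix⟩ := hY.three
  by_cases h : f = a
  · exact ⟨b, ⟨hb, fun y hy => (hfix y hy).2.1⟩, h ▸ hab⟩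
  · exact ⟨a, ⟨ha, fun y hy => (hfix y hy).1⟩, h⟩

omit [Finite G] [Finite Ω] in
/-- An involution normalising `Y` with its point fixed by `Y` centralises `Y`. -/
theorem MaxThree.commute (hF : Faithful S C) (hG : Good S C) {q : ℕ} {Y : Subgroup G}
    (hY : MaxThree q S C Y) {i : G} (hi : i ∈ S ⊓ normalizer (Y : Set G)) (hi2 : orderOf i = 2)
    {f : Ω} (hf : f ∈ fixedIn C Y) (hif : i • f = f) : ∀ y ∈ Y, Commute i y := by
  obtain ⟨o, ho, hfo⟩ := hY.exists_other f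
  exact fun y hy =>
    commute_of_fix_point hF hG hY.le hi.1 hi2 hi.2 hf.1 ho.1 hfo hif hf.2 ho.2 hy

omit [Finite Ω] in
/-- For two points fixed by a maximal `Y` the normaliser of `Y` has a `q`-group fixing just them. -/
theorem MaxThree.exists_exact (hS : SE S C) (hG : Good S C) {q : ℕ} [Fact q.Prime] {c : Ω}
    (hc : c ∈ C) (hdvd : q ∣ invBar S C c) {Y : Subgroup G} (hY : MaxThree q S C Y) {x z : Ω}
    (hx : x ∈ fixedIn C Y) (hz : z ∈ fixedIn C Y) (hxz : x ≠ z) :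
    ∃ P : Subgroup G, P ≤ S ⊓ normalizer (Y : Set G) ∧ IsPGroup q P ∧
      (∀ g ∈ P, g • x = x ∧ g • z = z) ∧
      ∀ w ∈ C, (∀ g ∈ P, g • w = w) → w = x ∨ w = z := by
  haveI := kerIn_normal hS
  obtain ⟨P, hYP, hP⟩ := H29.Bender.exists_isSyl_ge (D := pair S x z) (P := Y)
    (fun y hy => mem_pair.mpr ⟨hY.le hy, hx.2 y hy, hz.2 y hy⟩) hY.pgroup
  obtain ⟨a, ha, b, hb, e, he, hab, hea, heb, hfix⟩ := hY.three
  have hne : Y ≠ P := by
    rintro rfl
    rcases pairSylow_fixed_eq hS hG hc hdvd hx.1 hz.1 hxz ha hP (fun y hy => (hfix y hy).1) with h1 | h1 <;>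
    rcases pairSylow_fixed_eq hS hG hc hdvd hx.1 hz.1 hxz hb hP (fun y hy => (hfix y hy).2.1) with h2 | h2 <;>
    rcases pairSylow_fixed_eq hS hG hc hdvd hx.1 hz.1 hxz he hP (fun y hy => (hfix y hy).2.2) with h3 | h3 <;>
    first | exact hab (h1.trans h2.symm) | exact hea (h3.trans h1.symm) | exact heb (h3.trans h2.symm)
  obtain ⟨g, hgP, hgY, hgN⟩ := exists_mem_normalizer_not_mem hP.pgroup (lt_of_le_of_ne hYP hne)
  set P₁ : Subgroup G := Y ⊔ zpowers g with hP₁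
  have hle : P₁ ≤ P := sup_le hYP (zpowers_le.mpr hgP)
  have hfix₁ : ∀ k ∈ P₁, k • x = x ∧ k • z = z := fun k hk => (mem_pair.mp (hP.le (hle hk))).2
  have hP₁S : P₁ ≤ S := fun k hk => (mem_pair.mp (hP.le (hle hk))).1
  refine ⟨P₁, le_inf hP₁S (sup_le Subgroup.le_normalizer (zpowers_le.mpr hgN)),
    hP.pgroup.to_le hle, hfix₁, fun w hw hwP => ?_⟩
  by_contra! hwne
  exact hgY (hY.max P₁ le_sup_left hP₁S (hP.pgroup.to_le hle) ⟨x, hx.1, z, hz.1, w, hw, hxz,
    hwne.1, hwne.2, fun k hk => ⟨(hfix₁ k hk).1, (hfix₁ k hk).2, hwP k hk⟩⟩ ▸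
      mem_sup_right (mem_zpowers g))

/-- A maximal `Y` is centralised by an involution with its point fixed by `Y`. -/
theorem MaxThree.exists_inv (hS : SE S C) (hF : Faithful S C) (hG : Good S C) {q : ℕ}
    [Fact q.Prime] {c : Ω} (hc : c ∈ C) (hdvd : q ∣ invBar S C c) {Y : Subgroup G}
    (hY : MaxThree q S C Y) :
    ∃ i ∈ S, orderOf i = 2 ∧ ∃ f ∈ fixedIn C Y, i • f = f ∧ ∀ y ∈ Y, Commute i y := by
  by_contra hno
  haveI := kerIn_normal hS
  have hq : Odd q := (odd_invBar hS hc).of_dvd_nat hdvd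
  obtain ⟨a₀, ha₀, b₀, hb₀, e₀, he₀, hab₀, hea₀, heb₀, hY₀⟩ := hY.three
  set F : Set Ω := fixedIn C Y with hFdef
  have haF : a₀ ∈ F := ⟨ha₀, fun y hy => (hY₀ y hy).1⟩
  have hbF : b₀ ∈ F := ⟨hb₀, fun y hy => (hY₀ y hy).2.1⟩
  have heF : e₀ ∈ F := ⟨he₀, fun y hy => (hY₀ y hy).2.2⟩
  set M : Subgroup G := S ⊓ normalizer (Y : Set G) with hM
  have hYodd : Odd (Nat.card Y) := H29.Bender.odd_card_of_isPGroup hY.pgroup hq
  have hFM : ∀ g ∈ M, ∀ z ∈ F, g • z ∈ F := fun g hg z hz => smul_mem_fixedIn hS hg.1 hg.2 hz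
  -- no involution of `M` has its point in `F`
  have hA1 : ∀ i ∈ M, orderOf i = 2 → ∀ f ∈ F, i • f ≠ f := fun i hi hi2 f hf hif =>
    hno ⟨i, hi.1, hi2, f, hf, hif, hY.commute hF hG hi hi2 hf hif⟩
  -- no two involutions of `M` commute
  have hsingle : ∀ i ∈ M, ∀ j ∈ M, orderOf i = 2 → orderOf j = 2 → Commute i j → i = j := by
    intro i hi j hj hi2 hj2 hij
    by_contra hne
    obtain ⟨p, hp, hip⟩ := hS.exists_fix hi.1 hi2
    exact hA1 i hi hi2 p ⟨hp, fun y hy => hS.four_odd_fix hY.le hYodd hi.1 hj.1 hi2 hj2 hne hij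
      hi.2 hj.2 hp hip hy⟩ hip
  have hpairs : ∀ x ∈ F, ∀ z ∈ F, x ≠ z → ∃ P : Subgroup G, P ≤ M ∧ IsPGroup q P ∧
      (∀ g ∈ P, g • x = x ∧ g • z = z) ∧
      ∀ w ∈ C, (∀ g ∈ P, g • w = w) → w = x ∨ w = z :=
    fun x hx z hz hxz => hY.exists_exact hS hG hc hdvd hx hz hxz
  -- the odd core of `M` fixes `F`
  set N := oddPart M with hN
  have hNfix : ∀ n ∈ N, ∀ z ∈ F, n • z = z := by
    intro n hn z hz
    by_contra hne
    set z' := n • z with hz'
    have hz'F : z' ∈ F := hFM n (oddPart_le M hn) z hz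
    obtain ⟨P, hPM, hP, hPfix, hPonly⟩ := hpairs z hz z' hz'F (Ne.symm hne)
    set O : Set Ω := {w | ∃ l ∈ N, l • z = w} with hO
    have hNM : N ≤ M := oddPart_le M
    have hPN : P ≤ normalizer (N : Set G) := hPM.trans (le_normalizer_oddPart M)
    have hNO : N ≤ setStab S O := fun l hl => mem_setStab (hNM hl).1 (by
      rintro _ ⟨l', hl', rfl⟩
      exact ⟨l * l', mul_mem hl hl', mul_smul l l' z⟩)
    have hPO : P ≤ setStab S O := fun g hg => mem_setStab (hPM hg).1 (by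
      rintro _ ⟨l, hl, rfl⟩
      refine ⟨g * l * g⁻¹, (Subgroup.mem_normalizer_iff.mp (hPN hg) l).mp hl, ?_⟩
      rw [mul_smul, mul_smul, inv_smul_eq_iff.mpr (hPfix g hg).1.symm])
    set Γ : Subgroup G := setStab S O with hΓ
    letI : MulAction Γ O :=
      { smul := fun g w => ⟨(g : G) • (w : Ω), smul_mem_of_mem_setStab g.2 w.2⟩
        one_smul := fun w => Subtype.ext (one_smul G (w : Ω))
        mul_smul := fun g h w => Subtype.ext (mul_smul (g : G) (h : G) (w : Ω)) }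
    haveI : Finite O := inferInstance
    have hcoe : ∀ (g : Γ) (w : O), ((g • w : O) : Ω) = (g : G) • (w : Ω) := fun _ _ => rfl
    obtain ⟨⟨w, hwO⟩, hwz, hwz', hwP⟩ := H72.SE.not_two_fixed (r := q) (Nat.card O) (Γ := Γ) (Ω := O)
      le_rfl (N.subgroupOf Γ) (P.subgroupOf Γ)
      (by rw [Nat.card_congr (subgroupOfEquivOfLe hNO).toEquiv]; exact odd_oddPart M)
      (fun g hg => Subgroup.mem_normalizer_iff.mpr fun k =>
        Subgroup.mem_normalizer_iff.mp (hPN hg) (k : G))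
      hP.comap_subtype
      (by
        rintro ⟨_, l, hl, rfl⟩ ⟨_, l', hl', rfl⟩
        exact ⟨⟨l' * l⁻¹, hNO (mul_mem hl' (inv_mem hl))⟩, mul_mem hl' (inv_mem hl),
          Subtype.ext (by rw [hcoe]; simp [mul_smul])⟩)
      ⟨z, 1, one_mem _, one_smul G z⟩ ⟨z', n, hn, rfl⟩ (fun h => hne (congrArg Subtype.val h).symm)
      (fun g hg => Subtype.ext ((hPfix g hg).1)) (fun g hg => Subtype.ext ((hPfix g hg).2))
    obtain ⟨l, hl, rfl⟩ := hwO
    rcases hPonly _ (hFM l (hNM hl) z hz).1 (fun g hg =>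
      congrArg Subtype.val (hwP ⟨g, hPO hg⟩ hg)) with h | h
    · exact hwz (Subtype.ext h)
    · exact hwz' (Subtype.ext h)
  -- so an involution of `M` acts on `F` as a central element
  by_cases hinv : ∃ τ ∈ M, orderOf τ = 2
  swap
  · have hodd : Odd (Nat.card M) := by
      rw [← Nat.not_even_iff_odd, even_iff_two_dvd]
      intro h
      obtain ⟨τ, hτ⟩ := exists_prime_orderOf_dvd_card' 2 h
      exact hinv ⟨τ, τ.2, by rw [Subgroup.orderOf_coe, hτ]⟩
    obtain ⟨P, hPM, -, -, hPonly⟩ := hpairs a₀ haF b₀ hbF hab₀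
    rcases hPonly e₀ he₀ (fun g hg =>
      hNfix g (le_oddPart le_rfl Subgroup.le_normalizer hodd (hPM hg)) e₀ heF) with h | h
    · exact hea₀ h
    · exact heb₀ h
  obtain ⟨τ, hτ, hτ2⟩ := hinv
  haveI : Fact (Nat.Prime 2) := ⟨Nat.prime_two⟩
  have hτM : orderOf (⟨τ, hτ⟩ : M) = 2 := by rw [Subgroup.orderOf_mk, hτ2]
  obtain ⟨P₂, hP₂⟩ := (IsPGroup.of_card (n := 1)
    (show Nat.card (zpowers (⟨τ, hτ⟩ : M)) = 2 ^ 1 by
      rw [Nat.card_zpowers, hτM, pow_one])).exists_le_sylow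
  have hτP : (⟨τ, hτ⟩ : M) ∈ P₂ := hP₂ (mem_zpowers _)
  have hiso : ∀ g : M, g * ⟨τ, hτ⟩ * g⁻¹ ∈ P₂ → g * ⟨τ, hτ⟩ * g⁻¹ = ⟨τ, hτ⟩ := by
    intro g hg
    set s := g * ⟨τ, hτ⟩ * g⁻¹ with hs
    have hs2 : orderOf s = 2 := by rw [hs, orderOf_conj, hτM]
    rcases Nat.even_or_odd (orderOf (s * ⟨τ, hτ⟩)) with heven | hodd
    · obtain ⟨w, hw, -, hwτ, hws⟩ := exists_central_involution hτM hs2 heven
      have key : ∀ {k : M}, orderOf k = 2 → Commute w k → w = k := fun {k} hk hwk =>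
        Subtype.ext (hsingle w w.2 k k.2 (by rw [Subgroup.orderOf_coe, hw])
          (by rw [Subgroup.orderOf_coe, hk]) (congrArg Subtype.val hwk.eq))
      exact (key hs2 hws).symm.trans (key hτM hwτ)
    · have hmem : s * ⟨τ, hτ⟩ ∈ P₂ := mul_mem hg hτP
      obtain ⟨k, hk⟩ := IsPGroup.iff_orderOf.mp P₂.isPGroup' ⟨_, hmem⟩
      rw [Subgroup.orderOf_mk] at hk
      rcases Nat.eq_zero_or_pos k with rfl | hpos
      · rw [pow_zero, orderOf_eq_one_iff, mul_eq_one_iff_eq_inv, inv_eq_of_orderOf_eq_two hτM] at hk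
        exact hk
      · rw [hk] at hodd
        exact absurd hodd (Nat.not_odd_iff_even.mpr (even_two.pow_of_ne_zero hpos.ne'))
  have hcentral : ∀ g ∈ M, ∀ z ∈ F, τ • g • z = g • τ • z := by
    intro g hg z hz
    have h : τ * g * τ⁻¹ * g⁻¹ ∈ N :=
      ⟨_, Cores.glaubermanZStar P₂ hτM hτP hiso ⟨g, hg⟩, by simp⟩
    have hfix := hNfix _ h _ (hFM g hg _ (hFM τ hτ z hz))
    rw [← mul_smul, ← mul_smul, ← mul_smul] at hfix
    rw [← mul_smul, ← mul_smul]
    simpa [mul_assoc] using hfix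
  have hswap : ∀ x ∈ F, ∀ z ∈ F, x ≠ z → τ • x = z := by
    intro x hx z hz hxz
    obtain ⟨P, hPM, -, hPfix, hPonly⟩ := hpairs x hx z hz hxz
    refine (hPonly _ (hFM τ hτ x hx).1 fun g hg => ?_).resolve_left (hA1 τ hτ hτ2 x hx)
    rw [← hcentral g (hPM hg) x hx, (hPfix g hg).1]
  exact heb₀ ((hswap a₀ haF e₀ heF (Ne.symm hea₀)).symm.trans (hswap a₀ haF b₀ hbF hab₀))

/-- Every fixed point of a maximal `Y` is the point of an involution centralising `Y`. -/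
theorem MaxThree.exists_inv_at (hS : SE S C) (hF : Faithful S C) (hG : Good S C) {q : ℕ}
    [Fact q.Prime] {c : Ω} (hc : c ∈ C) (hdvd : q ∣ invBar S C c) {Y : Subgroup G}
    (hY : MaxThree q S C Y) {f : Ω} (hf : f ∈ fixedIn C Y) :
    ∃ i ∈ S, orderOf i = 2 ∧ i • f = f ∧ ∀ y ∈ Y, Commute i y := by
  by_contra hnf
  obtain ⟨i, hi, hi2, g₀, hg₀, hig, hiY⟩ := hY.exists_inv hS hF hG hc hdvd
  set M : Subgroup G := S ⊓ normalizer (Y : Set G) with hM
  -- the points of centralising involutions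
  set P₀ : Set Ω := {z | z ∈ fixedIn C Y ∧ ∃ j ∈ M, orderOf j = 2 ∧ j • z = z} with hP₀
  have hfP : f ∉ P₀ := fun ⟨_, j, hj, hj2, hjf⟩ =>
    hnf ⟨j, hj.1, hj2, hjf, hY.commute hF hG hj hj2 hf hjf⟩
  have hiM : i ∈ M := ⟨hi, Subgroup.mem_normalizer_iff.mpr fun y => ⟨fun hy => by
    rwa [(hiY y hy).eq, mul_inv_cancel_right], fun hy => by
    have h := hiY _ hy
    have e : i * y * i⁻¹ = y := by
      have := h.eq
      simpa [mul_assoc] using this
    rwa [e] at hy⟩⟩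
  have hgP : g₀ ∈ P₀ := ⟨hg₀, i, hiM, hi2, hig⟩
  have hMP : ∀ g ∈ M, ∀ z ∈ P₀, g • z ∈ P₀ := fun g hg z ⟨hz, j, hj, hj2, hjz⟩ =>
    ⟨smul_mem_fixedIn hS hg.1 hg.2 hz, g * j * g⁻¹, mul_mem (mul_mem hg hj) (inv_mem hg),
      by rw [orderOf_conj, hj2], conj_smul_of_smul hjz⟩
  have hfg : f ≠ g₀ := fun h => hfP (h ▸ hgP)
  set f' := i • f with hf'
  have hf'F : f' ∈ fixedIn C Y := smul_mem_fixedIn hS hi hiM.2 hf
  have hff' : f ≠ f' := fun h => hfg (hS.fix_unique hi hi2 hf.1 hg₀.1 h.symm hig)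
  have hf'P : f' ∉ P₀ := fun h => hfP (by
    have h' := hMP i hiM _ h
    rwa [hf', ← mul_smul, mul_self_of_orderOf_eq_two hi2, one_smul] at h')
  have hcount : ∀ P : Subgroup G, P ≤ M → IsPGroup q P →
      Nat.card P₀ ≡ {z | z ∈ P₀ ∧ ∀ g ∈ P, g • z = z}.ncard [MOD q] := fun P hPM hP =>
    H72.SE.card_modEq_fixed hP fun g hg z hz => hMP g (hPM hg) z hz
  obtain ⟨P₁, hP₁M, hP₁, hP₁fix, hP₁only⟩ := hY.exists_exact hS hG hc hdvd hf hg₀ hfg
  obtain ⟨P₂, hP₂M, hP₂, hP₂fix, hP₂only⟩ := hY.exists_exact hS hG hc hdvd hf hf'F hff'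
  have h1 := hcount P₁ hP₁M hP₁
  have h2 := hcount P₂ hP₂M hP₂
  rw [show {z | z ∈ P₀ ∧ ∀ g ∈ P₁, g • z = z} = {g₀} from Set.ext fun z =>
    ⟨fun hz => ((hP₁only z hz.1.1.1 hz.2).resolve_left fun h => hfP (h ▸ hz.1)), fun hz =>
      ⟨(Set.mem_singleton_iff.mp hz).symm ▸ hgP, fun g hg =>
        (Set.mem_singleton_iff.mp hz).symm ▸ (hP₁fix g hg).2⟩⟩, Set.ncard_singleton] at h1
  rw [show {z | z ∈ P₀ ∧ ∀ g ∈ P₂, g • z = z} = ∅ from Set.eq_empty_iff_forall_notMem.mpr fun z hz =>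
    (hP₂only z hz.1.1.1 hz.2).elim (fun h => hfP (h ▸ hz.1)) (fun h => hf'P (h ▸ hz.1)),
    Set.ncard_empty] at h2
  exact Nat.Prime.ne_one Fact.out
    (Nat.eq_one_of_dvd_one ((Nat.modEq_iff_dvd' zero_le_one).mp (h2.symm.trans h1)))

/-- PROP F3: for a prime `q` dividing the number of involutions at a point, a non-trivial `q`-group
with three fixed points is centralised by an involution with its point among the fixed points; the
point may avoid any given one. -/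
theorem exists_inv_centralizing (hS : SE S C) (hF : Faithful S C) (hG : Good S C) {q : ℕ}
    [Fact q.Prime] {c : Ω} (hc : c ∈ C) (hdvd : q ∣ invBar S C c) {X : Subgroup G} (hXS : X ≤ S)
    (hX : IsPGroup q X) {a b e : Ω} (ha : a ∈ C) (hb : b ∈ C) (he : e ∈ C) (hab : a ≠ b)
    (hea : e ≠ a) (heb : e ≠ b) (hXa : ∀ x ∈ X, x • a = a) (hXb : ∀ x ∈ X, x • b = b)
    (hXe : ∀ x ∈ X, x • e = e) (avoid : Ω) :
    ∃ i ∈ S, orderOf i = 2 ∧ ∃ f ∈ C, f ≠ avoid ∧ i • f = f ∧ (∀ x ∈ X, x • f = f) ∧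
      ∀ x ∈ X, Commute i x := by
  obtain ⟨Y, hXY, hY⟩ := exists_maxThree hXS hX ha hb he hab hea heb hXa hXb hXe
  obtain ⟨f, hf, hne⟩ := hY.exists_other avoid
  obtain ⟨i, hi, hi2, hif, hiY⟩ := hY.exists_inv_at hS hF hG hc hdvd hf
  exact ⟨i, hi, hi2, f, hf.1, Ne.symm hne, hif, fun x hx => hf.2 x (hXY hx), fun x hx => hiY x (hXY hx)⟩

omit [Finite Ω] in
/-- A3: for `q` dividing the number of involutions at a point, a Sylow subgroup of a pair stabiliser
is one of the point stabiliser. -/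
theorem isSyl_ptStab_of_pair (hS : SE S C) (hG : Good S C) {q : ℕ} [Fact q.Prime] {c : Ω}
    (hc : c ∈ C) (hdvd : q ∣ invBar S C c) {x : Ω} (hx : x ∈ C) (hxc : x ≠ c) {R : Subgroup G}
    (hR : H29.Bender.IsSyl q (pair S c x) R) : H29.Bender.IsSyl q (ptStab S c) R := by
  have hRc : R ≤ ptStab S c := fun r hr =>
    mem_ptStab.mpr ⟨(mem_pair.mp (hR.le hr)).1, (mem_pair.mp (hR.le hr)).2.1⟩
  obtain ⟨R', hRR', hR'⟩ := H29.Bender.exists_isSyl_ge hRc hR.pgroup
  suffices hEq : R' = R by exact hEq ▸ hR'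
  by_contra hne
  obtain ⟨g, hgR', hgR, hgN⟩ := exists_mem_normalizer_not_mem hR'.pgroup
    (lt_of_le_of_ne hRR' (Ne.symm hne))
  obtain ⟨hgS, hgc⟩ := mem_ptStab.mp (hR'.le hgR')
  have hgx : g • x = x := by
    refine (pairSylow_fixed_eq hS hG hc hdvd hc hx (Ne.symm hxc) (hS.smul_mem hgS hx) hR
      fun r hr => ?_).resolve_left fun h => hxc ?_
    · have hr' := (Subgroup.mem_normalizer_iff''.mp hgN r).mp hr
      have h := (mem_pair.mp (hR.le hr')).2.2
      rw [mul_smul, mul_smul, inv_smul_eq_iff] at h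
      exact h
    · exact MulAction.injective g (h.trans hgc.symm)
  have hle : R ⊔ zpowers g ≤ pair S c x :=
    sup_le hR.le (zpowers_le.mpr (mem_pair.mpr ⟨hgS, hgc, hgx⟩))
  exact hgR (hR.eq_of_ge le_sup_left hle (hR'.pgroup.to_le (sup_le hRR' (zpowers_le.mpr hgR'))) ▸
    mem_sup_right (mem_zpowers g))

/-- THEOREM: a normal subgroup of the point stabiliser centralising a non-trivial subgroup `W`
normal there has the centraliser of an involution of index prime to every prime. -/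
theorem relIndex_centralizer_eq_one (hS : SE S C) (h2 : RankTwo S) (hF : Faithful S C)
    (hG : Good S C) {c : Ω} (hc : c ∈ C) {W N : Subgroup G} (hW : W ≤ ptStab S c) (hW1 : W ≠ ⊥)
    (hN : N ≤ ptStab S c) (hNn : ptStab S c ≤ normalizer (N : Set G))
    (hWN : ∀ w ∈ W, ∀ n ∈ N, Commute w n) {t : G} (ht : t ∈ S) (ht2 : orderOf t = 2)
    (htc : t • c = c) : (centralizer ({t} : Set G)).relIndex N = 1 := by
  by_contra hk
  haveI := kerIn_normal hS
  set k := (centralizer ({t} : Set G)).relIndex N with hkdef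
  set q := k.minFac with hqdef
  haveI : Fact q.Prime := ⟨Nat.minFac_prime hk⟩
  have hqk : q ∣ k := Nat.minFac_dvd k
  have hdvd : q ∣ invBar S C c :=
    hqk.trans (relIndex_dvd_invBar hS hF hc ht ht2 htc hN hNn)
  have hq : Odd q := (odd_invBar hS hc).of_dvd_nat hdvd
  obtain ⟨a, ha, hac⟩ : ∃ a ∈ C, a ≠ c := by
    obtain ⟨x, hx, y, hy, hxy⟩ := hS.exists_ne
    by_cases h : x = c
    · exact ⟨y, hy, fun h' => hxy (h.trans h'.symm)⟩
    · exact ⟨x, hx, h⟩
  -- no involution at `c` centralises a Sylow subgroup of `N`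
  have hcardN : Nat.card (centralizer ({t} : Set G) ⊓ N : Subgroup G) * k = Nat.card N := by
    have h := Subgroup.relIndex_mul_relIndex ⊥ _ N bot_le
      (inf_le_right : centralizer ({t} : Set G) ⊓ N ≤ N)
    rwa [relIndex_bot_left, relIndex_bot_left, inf_relIndex_right] at h
  have hnc : ∀ R₀ : Subgroup G, H29.Bender.IsSyl q N R₀ → ∀ i ∈ S, orderOf i = 2 → i • c = c →
      ¬ ∀ r ∈ R₀, Commute i r := by
    intro R₀ hR₀ i hi hi2 hic hall
    obtain ⟨d, hd, hdi⟩ := hS.fix_conj hc ha (Ne.symm hac) hi ht hi2 ht2 hic htc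
    have hdN : d ∈ normalizer (N : Set G) :=
      hNn (mem_ptStab.mpr ⟨(mem_pair.mp hd).1, (mem_pair.mp hd).2.1⟩)
    have hle : R₀.map (MulAut.conj d).toMonoidHom ≤ centralizer ({t} : Set G) ⊓ N := by
      rintro _ ⟨r, hr, rfl⟩
      refine ⟨mem_centralizer_singleton_iff.mpr ?_, (Subgroup.mem_normalizer_iff.mp hdN r).mp (hR₀.le hr)⟩
      rw [← hdi]
      exact (((hall r hr).map (MulAut.conj d).toMonoidHom).symm).eq
    have hpow := Subgroup.card_dvd_of_le hle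
    rw [card_map_of_injective (MulAut.conj d).injective, hR₀.card_eq] at hpow
    have := Nat.mul_dvd_mul hpow hqk
    rw [hcardN, ← pow_succ] at this
    exact Nat.pow_succ_factorization_not_dvd Nat.card_pos.ne' Fact.out this
  obtain ⟨x, hx, hxc⟩ : ∃ x ∈ C, x ≠ c := ⟨a, ha, hac⟩
  -- a pair Sylow subgroup is Sylow in the point stabiliser
  have hpairSyl : ∀ x ∈ C, x ≠ c → ∃ R₀ : Subgroup G, H29.Bender.IsSyl q N R₀ ∧
      R₀ ≤ pair S c x := by
    intro x hx hxc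
    obtain ⟨R, -, hR⟩ := H29.Bender.exists_isSyl_ge (D := pair S c x) (P := ⊥) bot_le
      (IsPGroup.of_bot (p := q))
    have hR'' : H29.Bender.IsSyl q (ptStab S c) R := isSyl_ptStab_of_pair hS hG hc hdvd hx hxc hR
    obtain ⟨T, -, hT⟩ := H29.Bender.exists_isSyl_ge (D := N) (P := ⊥) bot_le (IsPGroup.of_bot (p := q))
    obtain ⟨T', hTT', hT'⟩ := H29.Bender.exists_isSyl_ge (hT.le.trans hN) hT.pgroup
    obtain ⟨d, hd, hdT⟩ := hT'.exists_conj hR''
    refine ⟨T.map (MulAut.conj d).toMonoidHom, ⟨H29.Bender.map_conj_le hT.le (hNn hd), hT.pgroup.map _,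
      fun P hP hPq => ?_⟩, (Subgroup.map_mono hTT').trans (hdT.trans_le hR.le)⟩
    rw [card_map_of_injective (MulAut.conj d).injective]
    exact hT.max P hP hPq
  -- every point is fixed by `W`
  refine hW1 (eq_bot_iff.mpr fun w hw => ?_)
  rw [← hF]
  obtain ⟨hwS, hwc⟩ := mem_ptStab.mp (hW hw)
  refine mem_kernel.mpr ⟨hwS, fun x hx => ?_⟩
  by_cases hxc : x = c
  · rw [hxc, hwc]
  by_contra hwx
  obtain ⟨R₀, hR₀, hR₀x⟩ := hpairSyl x hx hxc
  have hR₀fix : ∀ r ∈ R₀, r • c = c ∧ r • x = x := fun r hr => (mem_pair.mp (hR₀x hr)).2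
  have hR₀w : ∀ r ∈ R₀, r • w • x = w • x := fun r hr => by
    rw [← mul_smul, ← (hWN w hw r (hR₀.le hr)).eq, mul_smul, (hR₀fix r hr).2]
  obtain ⟨i, hi, hi2, f, hf, hfc, hif, hR₀f, hiR₀⟩ := exists_inv_centralizing hS hF hG hc hdvd
    (fun r hr => (mem_pair.mp (hR₀x hr)).1) hR₀.pgroup hc hx (hS.smul_mem hwS hx) (Ne.symm hxc)
    (fun h => hxc (MulAction.injective w (h.trans hwc.symm))) hwx
    (fun r hr => (hR₀fix r hr).1) (fun r hr => (hR₀fix r hr).2) hR₀w c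
  -- the involution moves `c` to a second fixed point of `R₀`
  set c' := i • c with hc'
  have hc'C : c' ∈ C := hS.smul_mem hi hc
  have hc'c : c' ≠ c := fun h => hfc (hS.fix_unique hi hi2 hf hc hif h)
  have hR₀c' : ∀ r ∈ R₀, r • c' = c' := fun r hr => by
    rw [hc', ← mul_smul, ← (hiR₀ r hr).eq, mul_smul, (hR₀fix r hr).1]
  obtain ⟨g, hg, hgc, hgc'⟩ := good_twoTrans hS h2 hG c hc c' hc'C f hf hc'c hfc
  have hR₀S : R₀ ≤ S := fun r hr => (mem_pair.mp (hR₀x hr)).1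
  obtain ⟨P, hRP, hP⟩ := H29.Bender.exists_isSyl_ge (D := pair S c c') (P := R₀)
    (fun r hr => mem_pair.mpr ⟨hR₀S hr, (hR₀fix r hr).1, hR₀c' r hr⟩) hR₀.pgroup
  obtain ⟨P₂, hRP₂, hP₂⟩ := H29.Bender.exists_isSyl_ge (D := pair S c f) (P := R₀)
    (fun r hr => mem_pair.mpr ⟨hR₀S hr, (hR₀fix r hr).1, hR₀f r hr⟩) hR₀.pgroup
  have hPg := isSyl_map_conj hP g
  rw [map_conj_pair hg, hgc, hgc'] at hPg
  obtain ⟨d, hd, hdP⟩ := hPg.exists_conj hP₂
  set w' := d * g with hw'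
  have hw'S : w' ∈ S := mul_mem (mem_pair.mp hd).1 hg
  have hw'c : w' • c = c := by rw [hw', mul_smul, hgc, (mem_pair.mp hd).2.1]
  have hw'f : w' • c' = f := by rw [hw', mul_smul, hgc', (mem_pair.mp hd).2.2]
  have hw'N : w' ∈ normalizer (N : Set G) := hNn (mem_ptStab.mpr ⟨hw'S, hw'c⟩)
  -- `w'` normalises `R₀`
  have hmax' : ∀ r ∈ R₀, w' * r * w'⁻¹ ∈ R₀ := by
    intro r hr
    have hle : R₀ ⊔ R₀.map (MulAut.conj w').toMonoidHom ≤ P₂ := by
      refine sup_le hRP₂ ?_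
      rintro _ ⟨r, hr, rfl⟩
      rw [← hdP]
      exact ⟨_, ⟨r, hRP hr, rfl⟩, by simp [hw', mul_assoc]⟩
    have hle' : R₀ ⊔ R₀.map (MulAut.conj w').toMonoidHom ≤ N :=
      sup_le hR₀.le (H29.Bender.map_conj_le hR₀.le hw'N)
    rw [← hR₀.eq_of_ge le_sup_left hle' (hP₂.pgroup.to_le hle)]
    exact mem_sup_right ⟨r, hr, rfl⟩
  -- pull the involution at `f` back to `c`
  set j := w'⁻¹ * i * w' with hj
  refine hnc R₀ hR₀ (i * j * i⁻¹) (conj_mem_of_mem hi (mul_mem (mul_mem (inv_mem hw'S) hi) hw'S)) ?_ ?_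
    fun r hr => ?_
  · rw [orderOf_conj, hj]
    have := orderOf_conj w'⁻¹ i
    rw [inv_inv] at this
    rw [this, hi2]
  · have hjc' : j • c' = c' := by rw [hj, mul_smul, mul_smul, hw'f, hif, ← hw'f, inv_smul_smul]
    have h := conj_smul_of_smul (g := i) hjc'
    rwa [hc', ← mul_smul i i, mul_self_of_orderOf_eq_two hi2, one_smul] at h
  · have hjr : ∀ r ∈ R₀, Commute j r := fun r hr => by
      have h := (hiR₀ _ (hmax' r hr)).map (MulAut.conj w'⁻¹).toMonoidHom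
      simpa [hj, mul_assoc] using h
    have h := (hjr r hr).map (MulAut.conj i).toMonoidHom
    have e : (MulAut.conj i).toMonoidHom r = r := by
      simp [MulAut.conj_apply, (hiR₀ r hr).eq]
    rw [e] at h
    simpa [MulAut.conj_apply] using h

/-- If a point stabiliser has a non-trivial odd normal subgroup, the involutions at the point
commute. -/
theorem commute_involutions (hS : SE S C) (h2 : RankTwo S) (hF : Faithful S C) (hG : Good S C)
    {c : Ω} (hc : c ∈ C) {W : Subgroup G} (hW : W ≤ ptStab S c) (hWodd : Odd (Nat.card W))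
    (hWn : ptStab S c ≤ normalizer (W : Set G)) (hW1 : W ≠ ⊥) {s t : G} (hs : s ∈ S) (ht : t ∈ S)
    (hs2 : orderOf s = 2) (ht2 : orderOf t = 2) (hsc : s • c = c) (htc : t • c = c) :
    Commute s t := by
  have hWE : ∀ w ∈ W, ∀ n ∈ invGen S c, Commute w n := by
    intro w hw n hn
    have hle : invGen S c ≤ centralizer ({w} : Set G) :=
      (Subgroup.closure_le _).mpr fun u hu => mem_centralizer_singleton_iff.mpr (by
        have h := H72.SE.cent_holds G Ω S C c W hS h2 hG hc hW hWodd hWn u hu.1 hu.2.1 hu.2.2 w hw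
        rw [hF, mem_bot] at h
        exact commutatorElement_eq_one_iff_mul_comm.mp h)
    exact (mem_centralizer_singleton_iff.mp (hle hn)).symm
  have h1 := relIndex_centralizer_eq_one hS h2 hF hG hc hW hW1 (invGen_le_ptStab c)
    (ptStab_le_normalizer_invGen c) hWE ht ht2 htc
  exact mem_centralizer_singleton_iff.mp
    (relIndex_eq_one.mp h1 (Subgroup.subset_closure ⟨hs, hs2, hsc⟩))

end Cfsg.Agent.Cores.SE
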