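import Cfsg.Agent.Cores.SE.CoreSemiregular
import Cfsg.Agent.H73.Bender.Transfer
import Cfsg.Agent.Cores.Basic

/-!
The odd core of a strongly embedded subgroup lies in the odd core of the group, given the main
theorem on strongly embedded actions and the faithful inductive step.
-/

set_option autoImplicit false
set_option linter.style.haveILetI false

namespace Cfsg.Agent.Cores.SE

open Subgroup MulAction
open Cfsg.Agent.H39
open Cfsg.Agent.H73.Bender

universe u v

/-- The faithful inductive step: a good faithful rank-two action with the statement known for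
smaller subgroups has point stabilisers with trivial odd core. -/
def CoreFaithful : Prop :=
  ∀ (G : Type u) [Group G] [Finite G] (Ω : Type v) [MulAction G Ω] [Finite Ω] (S : Subgroup G)
    (C : Set Ω), CoreBelow S Ω → SE S C → RankTwo S → Faithful S C → Good S C → TwoTrans S C →
    ∀ c ∈ C, ∀ W : Subgroup G, W ≤ ptStab S c → Odd (Nat.card W) →
      ptStab S c ≤ normalizer (W : Set G) → W = ⊥

theorem good_image {G : Type u} [Group G] [Finite G] {Ω : Type v} [MulAction G Ω]
    (hmain : Targets.Main.{v, v}) {S : Subgroup G} {C : Set Ω} [Finite C] (hS : SE S C)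
    (hr : RankTwo S) : Good (Image hS) (Set.univ : Set C) :=
  (hmain (Equiv.Perm C) C (Image hS) Set.univ (se_image hS) (rankTwo_image hS hr)).1

/-- The relative statement from its faithful step. -/
theorem coreAt_of_faithful (hmain : Targets.Main.{u, u}) (hstep : CoreFaithful.{u, u}) :
    ∀ (n : ℕ) (G : Type u) [Group G] [Finite G] (Ω : Type u) [MulAction G Ω] [Finite Ω]
      (S : Subgroup G) (C : Set Ω), Nat.card S = n → CoreAt S C := by
  intro n
  induction n using Nat.strong_induction_on with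
  | _ n ih =>
  intro G _ _ Ω _ _ S C hn hS hr hG c hc W hW hWodd hWn
  by_cases hF : kernel S C = ⊥
  · rw [hstep G Ω S C (fun T C' _ hlt => ih _ (hn ▸ hlt) G Ω T C' rfl) hS hr hF hG
      (good_twoTrans hS hr hG) c hc W hW hWodd hWn]
    exact bot_le
  intro w hw
  have hWS : W ≤ S := fun x hx => (mem_ptStab.mp (hW hx)).1
  set I := Image hS with hI
  set W' : Subgroup (Equiv.Perm C) := (W.subgroupOf S).map (cPerm hS) with hW'
  have hlt : Nat.card I < n := by
    rw [← hn, ← card_image_mul hS]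
    exact lt_mul_of_one_lt_right Nat.card_pos ((Subgroup.one_lt_card_iff_ne_bot _).mpr hF)
  have hW'le : W' ≤ ptStab I (⟨c, hc⟩ : C) := by
    rintro _ ⟨g, hg, rfl⟩
    exact mem_ptStab.mpr ⟨⟨g, rfl⟩, Subtype.ext (mem_ptStab.mp (hW (mem_subgroupOf.mp hg))).2⟩
  have hW'odd : Odd (Nat.card W') := by
    refine Odd.of_dvd_nat ?_ (Subgroup.card_map_dvd _ (cPerm hS))
    rwa [Nat.card_congr (subgroupOfEquivOfLe hWS).toEquiv]
  have hnorm : ∀ g ∈ ptStab I (⟨c, hc⟩ : C), ∀ k ∈ W', g * k * g⁻¹ ∈ W' := by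
    intro g hg k hk
    obtain ⟨⟨g, rfl⟩, hgc⟩ := mem_ptStab.mp hg
    obtain ⟨k, hk, rfl⟩ := hk
    refine ⟨g * k * g⁻¹, mem_subgroupOf.mpr ?_, by simp⟩
    exact (Subgroup.mem_normalizer_iff.mp (hWn (mem_ptStab.mpr ⟨g.2, congrArg Subtype.val hgc⟩))
      (k : G)).mp (mem_subgroupOf.mp hk)
  have hW'n : ptStab I (⟨c, hc⟩ : C) ≤ normalizer (W' : Set (Equiv.Perm C)) := fun g hg =>
    Subgroup.mem_normalizer_iff.mpr fun k => ⟨hnorm g hg k, fun h => by
      have h' := hnorm g⁻¹ (inv_mem hg) _ h
      simpa [mul_assoc] using h'⟩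
  have h := ih _ hlt (Equiv.Perm C) C I Set.univ rfl (se_image hS) (rankTwo_image hS hr)
    (good_image hmain hS hr) (⟨c, hc⟩ : C) (Set.mem_univ _) W' hW'le hW'odd hW'n
    ⟨⟨w, hWS hw⟩, mem_subgroupOf.mpr hw, rfl⟩
  rw [faithful_image hS, mem_bot] at h
  exact (cPerm_eq_one_iff hS _).mp h

/-- S1221 from the main theorem and the relative statement. -/
theorem map_oddCore_le_of_coreAt {G : Type u} [Group G] [Finite G] (hmain : Targets.Main.{u, u})
    (hcore : ∀ (n : ℕ) (G : Type u) [Group G] [Finite G] (Ω : Type u) [MulAction G Ω] [Finite Ω]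
      (S : Subgroup G) (C : Set Ω), Nat.card S = n → CoreAt S C)
    (H : Subgroup G) (hH : Cfsg.IsStronglyEmbedded H) :
    (Cfsg.oddCore ↥H).map H.subtype ≤ Cfsg.oddCore G := by
  set W := (Cfsg.oddCore ↥H).map H.subtype with hW
  have hWH : W ≤ H := map_subtype_le _
  have hWodd : Odd (Nat.card W) := by
    rw [hW, card_map_of_injective H.subtype_injective]
    exact Cores.odd_card_oddCore
  have hWn : H ≤ normalizer (W : Set G) := fun g hg => by
    refine le_normalizer_map _ ⟨⟨g, hg⟩, ?_, rfl⟩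
    haveI : (Cfsg.oddCore ↥H).Normal := Cfsg.pPrimeCore_normal _ _
    rw [normalizer_eq_top]
    exact mem_top _
  by_cases hr : RankTwo (⊤ : Subgroup G)
  · set c : G ⧸ H := QuotientGroup.mk 1 with hc
    have hmem : ∀ g : G, g ∈ ptStab (⊤ : Subgroup G) c ↔ g ∈ H := fun g => by
      rw [mem_ptStab, hc, se_smul_mk_eq_iff]
      simp
    have h := hcore _ G (G ⧸ H) ⊤ Set.univ rfl (se_top hH) hr
      (hmain G (G ⧸ H) ⊤ Set.univ (se_top hH) hr).1 c (Set.mem_univ _) W
      (fun g hg => (hmem g).mpr (hWH hg)) hWodd (fun g hg => hWn ((hmem g).mp hg))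
    rw [kernel_top] at h
    intro g hg
    refine Cores.le_oddCore (N := H.normalCore) ?_ (h hg)
    rw [← kernel_top]
    exact (se_top hH).odd_kernel
  · have hdich := (H29.Bender.rank_one_dichotomy hH fun s t hs ht hcm => by
      by_contra hne
      exact hr (rankTwo_top_iff.mpr ⟨s, t, hs, ht, hne, hcm⟩)).2
    haveI : (Cfsg.oddCore G).Normal := Cfsg.pPrimeCore_normal _ _
    haveI hKn : (W ⊔ Cfsg.oddCore G).Normal := by
      rw [← normalizer_eq_top_iff, eq_top_iff, ← hdich, sup_le_iff]
      refine ⟨le_sup_right.trans Subgroup.le_normalizer, fun g hg =>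
        Coprime.mem_normalizer_of_map_conj ?_⟩
      rw [Subgroup.map_sup,
        show W.map (MulAut.conj g).toMonoidHom = W from mem_normalizer_iff_map_conj_eq.mp (hWn hg),
        show (Cfsg.oddCore G).map (MulAut.conj g).toMonoidHom = Cfsg.oddCore G from
          mem_normalizer_iff_map_conj_eq.mp (normalizer_eq_top (H := Cfsg.oddCore G) ▸ mem_top g)]
    refine le_sup_left.trans (Cores.le_oddCore (N := W ⊔ Cfsg.oddCore G) ?_)
    exact (hWodd.mul Cores.odd_card_oddCore).of_dvd_nat (Cores.card_sup_dvd W (Cfsg.oddCore G))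

/-- S1221 from the main theorem and the faithful step. -/
theorem map_oddCore_le {G : Type u} [Group G] [Finite G] (hmain : Targets.Main.{u, u})
    (hstep : CoreFaithful.{u, u}) (H : Subgroup G) (hH : Cfsg.IsStronglyEmbedded H) :
    (Cfsg.oddCore ↥H).map H.subtype ≤ Cfsg.oddCore G :=
  map_oddCore_le_of_coreAt hmain (coreAt_of_faithful hmain hstep) H hH

end Cfsg.Agent.Cores.SE
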