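import Mathlib

/-!
The quadratic pair lemma: if `N` and `M` are square-zero elements of a ring, then every element
`g` of the group generated by the units `1 + N`, `1 + M` has `g + g⁻¹` commuting with `N`.  In
particular an element of order two of this group commutes with both generators when `2` is regular.
-/

set_option autoImplicit false

namespace Cfsg.Agent.Cores.SE

variable {R : Type*} [Ring R] {N M : R}

/-- `g = a + bN + cM + dNM` with `h = a - bN - cM + dMN`, coefficients commuting with `N` and `M`. -/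
def IsPairForm (N M g h : R) : Prop :=
  ∃ a b c d : R, (Commute a N ∧ Commute a M) ∧ (Commute b N ∧ Commute b M) ∧ (Commute c N ∧ Commute c M) ∧
    (Commute d N ∧ Commute d M) ∧ g = a + b * N + c * M + d * (N * M) ∧ h = a - b * N - c * M + d * (M * N)

theorem isPairForm_one : IsPairForm N M 1 1 :=
  ⟨1, 0, 0, 0, ⟨Commute.one_left _, Commute.one_left _⟩, ⟨Commute.zero_left _, Commute.zero_left _⟩,
    ⟨Commute.zero_left _, Commute.zero_left _⟩, ⟨Commute.zero_left _, Commute.zero_left _⟩, by simp, by simp⟩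

theorem commute_pair_sum (hN : N * N = 0) :
    Commute (N * M + M * N) N := by
  simp only [Commute, SemiconjBy, add_mul, mul_add, mul_assoc, hN, mul_zero, add_zero]
  rw [← mul_assoc N N M, hN, zero_mul, zero_add]

theorem commute_pair_sum' (hM : M * M = 0) :
    Commute (N * M + M * N) M := by
  rw [add_comm]; exact commute_pair_sum hM

theorem IsPairForm.one_add_mul (hN : N * N = 0) {g h : R} (hf : IsPairForm N M g h) :
    IsPairForm N M ((1 + N) * g) (h * (1 - N)) := by
  obtain ⟨a, b, c, d, ha, hb, hc, hd, hg, hh⟩ := hf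
  refine ⟨a, a + b, c, c + d, ha, ⟨ha.1.add_left hb.1, ha.2.add_left hb.2⟩, hc,
    ⟨hc.1.add_left hd.1, hc.2.add_left hd.2⟩, ?_, ?_⟩
  · subst hg
    have e1 : N * a = a * N := ha.1.eq.symm
    have e2 : N * (b * N) = 0 := by rw [← mul_assoc, hb.1.eq.symm, mul_assoc, hN, mul_zero]
    have e3 : N * (c * M) = c * (N * M) := by rw [← mul_assoc, hc.1.eq.symm, mul_assoc]
    have e4 : N * (d * (N * M)) = 0 := by
      rw [← mul_assoc, hd.1.eq.symm, mul_assoc, ← mul_assoc N, hN, zero_mul, mul_zero]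
    rw [add_mul, one_mul, mul_add, mul_add, mul_add, e1, e2, e3, e4]
    noncomm_ring
  · subst hh
    have e2 : b * N * N = 0 := by rw [mul_assoc, hN, mul_zero]
    have e4 : d * (M * N) * N = 0 := by rw [mul_assoc, mul_assoc M, hN, mul_zero, mul_zero]
    rw [mul_sub, mul_one, add_mul, sub_mul, sub_mul, e2, e4]
    noncomm_ring

theorem IsPairForm.symm {g h : R} (hN : N * N = 0) (hM : M * M = 0) (hf : IsPairForm N M g h) :
    IsPairForm M N g h := by
  obtain ⟨a, b, c, d, ha, hb, hc, hd, hg, hh⟩ := hf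
  have hS := commute_pair_sum (M := M) hN
  have hS' := commute_pair_sum' (N := N) hM
  refine ⟨a + d * (N * M + M * N), c, b, -d, ⟨ha.2.add_left (hd.2.mul_left hS'), ha.1.add_left (hd.1.mul_left hS)⟩,
    hc.symm, hb.symm, ⟨hd.2.neg_left, hd.1.neg_left⟩, ?_, ?_⟩
  · subst hg; noncomm_ring
  · subst hh; noncomm_ring

theorem IsPairForm.neg {g h : R} (hf : IsPairForm N M g h) : IsPairForm (-N) M g h := by
  obtain ⟨a, b, c, d, ha, hb, hc, hd, hg, hh⟩ := hf
  refine ⟨a, -b, c, -d, ⟨ha.1.neg_right, ha.2⟩, ⟨hb.1.neg_left.neg_right, hb.2.neg_left⟩, ⟨hc.1.neg_right, hc.2⟩,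
    ⟨hd.1.neg_left.neg_right, hd.2.neg_left⟩, ?_, ?_⟩
  · subst hg; noncomm_ring
  · subst hh; noncomm_ring

/-- every element of the group generated by `1 + N` and `1 + M` is in pair form with its inverse. -/
theorem isPairForm_of_mem_closure (hN : N * N = 0) (hM : M * M = 0) {y z : Rˣ} (hy : (y : R) = 1 + N)
    (hz : (z : R) = 1 + M) {g : Rˣ} (hg : g ∈ Subgroup.closure ({y, z} : Set Rˣ)) :
    IsPairForm N M (g : R) ((g⁻¹ : Rˣ) : R) := by
  have hN' : (-N) * (-N) = 0 := by rw [neg_mul_neg, hN]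
  have hM' : (-M) * (-M) = 0 := by rw [neg_mul_neg, hM]
  have hyi : ((y⁻¹ : Rˣ) : R) = 1 - N := by
    refine Units.inv_eq_of_mul_eq_one_right ?_
    rw [hy]; noncomm_ring; rw [hN]; simp
  have hzi : ((z⁻¹ : Rˣ) : R) = 1 - M := by
    refine Units.inv_eq_of_mul_eq_one_right ?_
    rw [hz]; noncomm_ring; rw [hM]; simp
  induction hg using Subgroup.closure_induction_left with
  | one => simpa using isPairForm_one
  | mul_left x hx w hw ih =>
    rcases hx with rfl | rfl
    · rw [Units.val_mul, hy, mul_inv_rev, Units.val_mul, hyi]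
      exact ih.one_add_mul hN
    · rw [Units.val_mul, hz, mul_inv_rev, Units.val_mul, hzi]
      exact ((ih.symm hN hM).one_add_mul hM).symm hM hN
  | inv_mul_cancel x hx w hw ih =>
    rcases hx with rfl | rfl
    · rw [Units.val_mul, hyi, mul_inv_rev, Units.val_mul, inv_inv, hy]
      have := (ih.neg).one_add_mul hN' |>.neg
      simpa [sub_eq_add_neg] using this
    · rw [Units.val_mul, hzi, mul_inv_rev, Units.val_mul, inv_inv, hz]
      have := (((ih.symm hN hM).neg).one_add_mul hM' |>.neg)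
      rw [neg_neg] at this
      simpa [sub_eq_add_neg] using this.symm hM hN

/-- `g + g⁻¹` commutes with `N`. -/
theorem commute_add_inv (hN : N * N = 0) (hM : M * M = 0) {y z : Rˣ} (hy : (y : R) = 1 + N)
    (hz : (z : R) = 1 + M) {g : Rˣ} (hg : g ∈ Subgroup.closure ({y, z} : Set Rˣ)) :
    Commute ((g : R) + ((g⁻¹ : Rˣ) : R)) N := by
  obtain ⟨a, b, c, d, ha, hb, hc, hd, hg, hh⟩ := isPairForm_of_mem_closure hN hM hy hz hg
  have h : (g : R) + ((g⁻¹ : Rˣ) : R) = a + a + d * (N * M + M * N) := by rw [hg, hh]; noncomm_ring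
  rw [h]
  exact (ha.1.add_left ha.1).add_left (hd.1.mul_left (commute_pair_sum hN))

/-- if `2` is regular, an element of square one of the group of a quadratic pair commutes with it. -/
theorem commute_of_sq_eq_one (h2 : ∀ r : R, r + r = 0 → r = 0) {y z g : Rˣ}
    (hy : ((y : R) - 1) * ((y : R) - 1) = 0) (hz : ((z : R) - 1) * ((z : R) - 1) = 0)
    (hg : g ∈ Subgroup.closure ({y, z} : Set Rˣ)) (hg2 : g * g = 1) : Commute g y := by
  have hgi : g⁻¹ = g := inv_eq_of_mul_eq_one_right hg2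
  have h := commute_add_inv hy hz (add_sub_cancel (1 : R) (y : R)).symm (add_sub_cancel (1 : R) (z : R)).symm hg
  rw [hgi] at h
  have hc : Commute (g : R) ((y : R) - 1) := by
    refine sub_eq_zero.mp (h2 _ ?_)
    have h' := sub_eq_zero.mpr h.eq
    rw [add_mul, mul_add] at h'
    rw [← h']; abel
  have h3 : Commute (g : R) (y : R) := by simpa using hc.add_right (Commute.one_right (g : R))
  exact Units.ext h3.eq

section Conj

open scoped IsMulCommutative

variable {G : Type*} [Group G] {W : Subgroup G} [hW : IsMulCommutative W]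

/-- conjugation of the normaliser as additive endomorphisms of an abelian subgroup. -/
noncomputable def conjEnd (W : Subgroup G) [IsMulCommutative W] :
    Subgroup.normalizer (W : Set G) →* AddMonoid.End (Additive W) where
  toFun g := AddMonoidHom.mk' (fun w => Additive.ofMul
    (⟨(g : G) * (w.toMul : G) * (g : G)⁻¹, (Subgroup.mem_normalizer_iff.mp g.2 _).mp w.toMul.2⟩ : W))
    (fun a b => congrArg Additive.ofMul (Subtype.ext (by simp [mul_assoc])))
  map_one' := DFunLike.ext _ _ fun w => Additive.toMul.injective (Subtype.ext (by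
    change ((1 : Subgroup.normalizer (W : Set G)) : G) * _ * ((1 : Subgroup.normalizer (W : Set G)) : G)⁻¹ = _
    simp [AddMonoid.End.coe_one]))
  map_mul' a b := DFunLike.ext _ _ fun w => Additive.toMul.injective (Subtype.ext (by
    change ((a * b : Subgroup.normalizer (W : Set G)) : G) * _ * ((a * b : Subgroup.normalizer (W : Set G)) : G)⁻¹ =
      (a : G) * ((b : G) * (w.toMul : G) * (b : G)⁻¹) * (a : G)⁻¹
    simp [mul_assoc]))

@[simp] theorem conjEnd_apply (g : Subgroup.normalizer (W : Set G)) (w : Additive W) :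
    ((conjEnd W g w).toMul : G) = (g : G) * (w.toMul : G) * (g : G)⁻¹ := rfl

open scoped commutatorElement

theorem conjEnd_sub_one_apply (y : Subgroup.normalizer (W : Set G)) (w : Additive W) :
    (((conjEnd W y - 1) w).toMul : G) = ⁅(y : G), (w.toMul : G)⁆ := by
  rw [commutatorElement_def]
  change (((conjEnd W y w - w).toMul : W) : G) = _
  rw [toMul_sub, div_eq_mul_inv, Subgroup.coe_mul, Subgroup.coe_inv, conjEnd_apply]

theorem conjEnd_sub_sq {y : Subgroup.normalizer (W : Set G)}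
    (hq : ∀ w ∈ W, ⁅(y : G), ⁅(y : G), w⁆⁆ = 1) : (conjEnd W y - 1) * (conjEnd W y - 1) = 0 := by
  refine DFunLike.ext _ _ fun w => Additive.toMul.injective (Subtype.ext ?_)
  change (((conjEnd W y - 1) ((conjEnd W y - 1) w)).toMul : G) = 1
  rw [conjEnd_sub_one_apply, conjEnd_sub_one_apply]
  exact hq _ w.toMul.2

/-- if `y`, `z` act quadratically on an abelian subgroup of odd order, an element of `⟨y, z⟩` whose
square centralises it commutes with `y` on it. -/
theorem conj_comm_of_quadratic_pair [Finite G] (hodd : Odd (Nat.card W)) {y z t : G}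
    (hy : y ∈ Subgroup.normalizer (W : Set G)) (hz : z ∈ Subgroup.normalizer (W : Set G))
    (hqy : ∀ w ∈ W, ⁅y, ⁅y, w⁆⁆ = 1) (hqz : ∀ w ∈ W, ⁅z, ⁅z, w⁆⁆ = 1)
    (ht : t ∈ Subgroup.closure ({y, z} : Set G)) (ht2 : ∀ w ∈ W, t * t * w * (t * t)⁻¹ = w) :
    ∀ w ∈ W, (t * y) * w * (t * y)⁻¹ = (y * t) * w * (y * t)⁻¹ := by
  intro w hw
  have hle : Subgroup.closure ({y, z} : Set G) ≤ Subgroup.normalizer (W : Set G) :=
    (Subgroup.closure_le _).mpr (by rintro x (rfl | rfl) <;> assumption)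
  let φ := (conjEnd W).toHomUnits
  have hmem : φ ⟨t, hle ht⟩ ∈ Subgroup.closure ({φ ⟨y, hy⟩, φ ⟨z, hz⟩} : Set (AddMonoid.End (Additive W))ˣ) := by
    rw [← Set.image_pair, ← MonoidHom.map_closure]
    refine ⟨⟨t, hle ht⟩, ?_, rfl⟩
    have h := (MonoidHom.map_closure (Subgroup.normalizer (W : Set G)).subtype
      ({⟨y, hy⟩, ⟨z, hz⟩} : Set (Subgroup.normalizer (W : Set G))))
    rw [Set.image_pair] at h
    obtain ⟨x, hx, hxt⟩ := h ▸ ht
    exact (Subtype.ext hxt : x = ⟨t, hle ht⟩) ▸ hx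
  have h2 : ∀ r : AddMonoid.End (Additive W), r + r = 0 → r = 0 := by
    intro r hr
    refine DFunLike.ext _ _ fun v => ?_
    have hv : (2 : ℕ) • r v = 0 := by rw [two_nsmul]; exact DFunLike.congr_fun hr v
    have hd := addOrderOf_dvd_of_nsmul_eq_zero hv
    have hc : addOrderOf (r v) ∣ Nat.card W := addOrderOf_dvd_natCard (r v)
    exact AddMonoid.addOrderOf_eq_one_iff.mp (Nat.eq_one_of_dvd_coprimes hodd.coprime_two_left hd hc)
  have hsq : φ ⟨t, hle ht⟩ * φ ⟨t, hle ht⟩ = 1 := by
    rw [← map_mul]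
    refine Units.ext (DFunLike.ext _ _ fun v => Additive.toMul.injective (Subtype.ext ?_))
    change (t * t) * (v.toMul : G) * (t * t)⁻¹ = (v.toMul : G)
    exact ht2 v.toMul v.toMul.2
  have hc := commute_of_sq_eq_one (R := AddMonoid.End (Additive W)) (y := φ ⟨y, hy⟩) (z := φ ⟨z, hz⟩)
    (g := φ ⟨t, hle ht⟩) h2 (conjEnd_sub_sq (y := ⟨y, hy⟩) hqy) (conjEnd_sub_sq (y := ⟨z, hz⟩) hqz) hmem hsq
  have h : φ (⟨t, hle ht⟩ * ⟨y, hy⟩) = φ (⟨y, hy⟩ * ⟨t, hle ht⟩) := by
    rw [map_mul, map_mul]; exact hc.eq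
  have h' : conjEnd W (⟨t, hle ht⟩ * ⟨y, hy⟩) (Additive.ofMul ⟨w, hw⟩) =
      conjEnd W (⟨y, hy⟩ * ⟨t, hle ht⟩) (Additive.ofMul ⟨w, hw⟩) :=
    DFunLike.congr_fun (congrArg Units.val h) _
  have h'' := congrArg (fun v : Additive W => (v.toMul : G)) h'
  simp only [conjEnd_apply, toMul_ofMul, Subgroup.coe_mul] at h''
  exact h''

end Conj

end Cfsg.Agent.Cores.SE
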